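/-
Pushing up over `PSL₂(q)`: chief factors inside a series with natural sections.

Main results (namespace `Cfsg.Agent.PushUp`):
* `exists_iterCommutator_le` : `S` acts nilpotently on what `O^p` centralises
* `le_commutator_sup`        : `O^p` moves a noncentral chief factor
* `NatSec.descend`           : a chief factor meets a natural section or passes it
* `NatSec.isNatural`         : natural sections are natural modules of the quotient
-/
import Cfsg.Agent.Lib.PushUp.Natural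
import Cfsg.Prelude.Def_LocalEven
import Cfsg.Prelude.Def_PLocal
import Mathlib.GroupTheory.Nilpotent

set_option autoImplicit false

namespace Cfsg.Agent.PushUp

open Subgroup
open scoped commutatorElement

variable {G : Type*} [Group G]

theorem map_iterCommutator {H : Type*} [Group H] (f : G →* H) (hf : Function.Surjective f)
    (U : Subgroup G) (k : ℕ) :
    (Cfsg.iterCommutator U ⊤ k).map f = Cfsg.iterCommutator (U.map f) ⊤ k := by
  induction k with
  | zero => rfl
  | succ k ih =>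
    show (⁅Cfsg.iterCommutator U ⊤ k, (⊤ : Subgroup G)⁆).map f = ⁅_, ⊤⁆
    rw [map_commutator, ih, Subgroup.map_top_of_surjective f hf]

/-- `G` acts hypercentrally on a normal section centralised by `O` if `O` and a nilpotent subgroup
containing the section generate `G`. -/
theorem exists_iterCommutator_le {S O U W : Subgroup G} [W.Normal] [O.Normal] [hUn : U.Normal]
    (hS : Group.IsNilpotent ↥S) (htop : O ⊔ S = ⊤) (hUS : U ≤ S) (hO : ⁅U, O⁆ ≤ W) :
    ∃ k, Cfsg.iterCommutator U ⊤ k ≤ W := by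
  let f := QuotientGroup.mk' W
  have hf : Function.Surjective f := QuotientGroup.mk'_surjective W
  obtain ⟨k, hk⟩ := (isNilpotent_iff_lowerCentralSeries S).mp hS
  have key : ∀ i, Cfsg.iterCommutator (U.map f) ⊤ i ≤ U.map f ⊓ (S.map f).lowerCentralSeries i := by
    intro i
    induction i with
    | zero => exact le_inf le_rfl (map_mono hUS)
    | succ i ih =>
      show ⁅Cfsg.iterCommutator (U.map f) ⊤ i, (⊤ : Subgroup (G ⧸ W))⁆ ≤ _
      rw [commutator_le]
      intro x hx g _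
      have hxU := (ih hx).1
      obtain ⟨g, rfl⟩ := hf g
      obtain ⟨o, ho, s, hs, rfl⟩ := mem_sup_of_normal_left.mp (htop.ge (mem_top g))
      obtain ⟨x₀, hx₀, rfl⟩ := hxU
      have h1 : ∀ y ∈ U, ⁅f y, f o⁆ = 1 := fun y hy => by
        rw [← map_commutatorElement]
        exact (QuotientGroup.eq_one_iff _).mpr (hO (commutator_mem_commutator hy ho))
      have h2 : ⁅x₀, s⁆ ∈ U :=
        le_normalizer_iff_commutator_le_left.mp (by simp [normalizer_eq_top])
          (commutator_mem_commutator hx₀ (mem_top s))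
      have h3 : f o * ⁅f x₀, f s⁆ * (f o)⁻¹ = ⁅f x₀, f s⁆ := by
        rw [← map_commutatorElement, ← commutatorElement_eq_one_iff_mul_comm.mp (h1 _ h2),
          mul_inv_cancel_right]
      rw [map_mul, commutatorElement_right_mul_eq, h1 x₀ hx₀, one_mul, h3]
      refine ⟨⟨_, h2, map_commutatorElement ..⟩, ?_⟩
      rw [Subgroup.lowerCentralSeries_succ]
      exact commutator_mem_commutator (ih hx).2 (mem_map_of_mem f hs)
  refine ⟨k, ?_⟩
  have h1 : (Cfsg.iterCommutator U ⊤ k).map f = ⊥ := by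
    rw [map_iterCommutator f hf, ← le_bot_iff]
    refine (key k).trans (inf_le_right.trans ?_)
    rw [← map_lowerCentralSeries, hk, Subgroup.map_bot]
  rw [Subgroup.map_eq_bot_iff, QuotientGroup.ker_mk'] at h1
  exact h1

/-- A noncentral chief factor inside a nilpotent `S` is moved by `O`. -/
theorem le_commutator_sup {S O U W : Subgroup G} [hOn : O.Normal] (hS : Group.IsNilpotent ↥S)
    (htop : O ⊔ S = ⊤) (hUS : U ≤ S) (hch : Cfsg.IsChiefFactor U W)
    (hne : ¬ ⁅U, (⊤ : Subgroup G)⁆ ≤ W) : U ≤ ⁅U, O⁆ ⊔ W := by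
  obtain ⟨hlt, hUn, hWn, hall⟩ := hch
  haveI := hUn
  haveI := hWn
  rcases hall (⁅U, O⁆ ⊔ W) inferInstance le_sup_right
    (sup_le (le_normalizer_iff_commutator_le_left.mp (by simp [normalizer_eq_top]))
      hlt.le) with h | h
  · exfalso
    obtain ⟨k, hk⟩ := exists_iterCommutator_le hS htop hUS (le_sup_left.trans h.le)
    rcases hall (⁅U, (⊤ : Subgroup G)⁆ ⊔ W) inferInstance le_sup_right
      (sup_le (commutator_le_left U ⊤) hlt.le) with h' | h'
    · exact hne (le_sup_left.trans h'.le)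
    refine hlt.not_ge ?_
    have key : ∀ i, U ≤ Cfsg.iterCommutator U ⊤ i ⊔ W := by
      intro i
      induction i with
      | zero => exact le_sup_left
      | succ i ih =>
        refine h'.ge.trans (sup_le ?_ le_sup_right)
        show ⁅U, (⊤ : Subgroup G)⁆ ≤ ⁅Cfsg.iterCommutator U ⊤ i, (⊤ : Subgroup G)⁆ ⊔ W
        refine (commutator_mono ih le_rfl).trans ?_
        rw [commutator_le]
        intro x hx g _
        obtain ⟨a, ha, b, hb, rfl⟩ := mem_sup_of_normal_right.mp hx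
        rw [commutatorElement_mul_eq]
        refine mul_mem ?_ (mem_sup_left (commutator_mem_commutator ha (mem_top g)))
        refine mem_sup_right (hWn.conj_mem _ ?_ a)
        exact le_normalizer_iff_commutator_le_left.mp (by simp [normalizer_eq_top])
          (commutator_mem_commutator hb (mem_top g))
    exact (key k).trans (sup_le hk le_rfl)
  · exact h.ge

/-- A chief factor moved into the next layer. -/
theorem descend_commutator {U W O A B : Subgroup G} [hUn : U.Normal] [hWn : W.Normal] [hBn : B.Normal]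
    (hmv : U ≤ ⁅U, O⁆ ⊔ W) (hA : U ≤ (U ⊓ A) ⊔ W) (hAB : ⁅A, O⁆ ≤ B) : U ≤ (U ⊓ B) ⊔ W := by
  refine hmv.trans (sup_le ?_ le_sup_right)
  rw [commutator_le]
  intro x hx o ho
  obtain ⟨a, ha, b, hb, rfl⟩ := mem_sup_of_normal_right.mp (hA hx)
  rw [commutatorElement_mul_eq]
  refine mul_mem (mem_sup_right (hWn.conj_mem _ ?_ a))
    (mem_sup_left (mem_inf.mpr ⟨?_, hAB (commutator_mem_commutator ha.2 ho)⟩))
  · exact le_normalizer_iff_commutator_le_left.mp (by simp [normalizer_eq_top])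
      (commutator_mem_commutator hb (mem_top o))
  · exact le_normalizer_iff_commutator_le_left.mp (by simp [normalizer_eq_top])
      (commutator_mem_commutator ha.1 (mem_top o))

variable {F : Type*} [Field F]

local notation "SL₂" F:max => Matrix.SpecialLinearGroup (Fin 2) F

/-- `SL₂` is transitive on nonzero vectors. -/
theorem exists_mulVec_single {v : Fin 2 → F} (hv : v ≠ 0) : ∃ m : SL₂ F, m.1.mulVec ![1, 0] = v := by
  by_cases h0 : v 0 = 0
  · have h1 : v 1 ≠ 0 := fun h1 => hv (by funext i; fin_cases i <;> simp [h0, h1])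
    refine ⟨⟨!![0, -(v 1)⁻¹; v 1, 0], by rw [Matrix.det_fin_two_of]; field_simp; ring⟩, ?_⟩
    funext i
    fin_cases i <;> simp [Matrix.mulVec, dotProduct, Fin.sum_univ_two, h0]
  · refine ⟨⟨!![v 0, 0; v 1, (v 0)⁻¹], by rw [Matrix.det_fin_two_of]; field_simp; ring⟩, ?_⟩
    funext i
    fin_cases i <;> simp [Matrix.mulVec, dotProduct, Fin.sum_univ_two]

theorem exists_mulVec_eq {u v : Fin 2 → F} (hu : u ≠ 0) (hv : v ≠ 0) :
    ∃ m : SL₂ F, m.1.mulVec u = v := by
  obtain ⟨a, rfl⟩ := exists_mulVec_single hu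
  obtain ⟨b, rfl⟩ := exists_mulVec_single hv
  refine ⟨b * a⁻¹, ?_⟩
  rw [Matrix.mulVec_mulVec, ← Matrix.SpecialLinearGroup.coe_mul, inv_mul_cancel_right]

namespace NatSec

variable {A B : Subgroup G} {ρ : G →* SL₂ F} {ψ : G → Fin 2 → F}

theorem normal_bot (h : NatSec F A B ρ ψ) : B.Normal := ⟨fun b hb g => by
  have hbA := h.le hb
  rw [← h.ker _ (h.normal.conj_mem b hbA g), h.act g b hbA, (h.ker b hbA).mpr hb, Matrix.mulVec_zero]⟩

theorem le_ker (h : NatSec F A B ρ ψ) : B ≤ ρ.ker := fun b hb => h.mem_ker_iff.mpr fun a ha => by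
  haveI := h.normal_bot
  exact le_normalizer_iff_commutator_le_left.mp (by simp [normalizer_eq_top])
    (commutator_mem_commutator hb (mem_top a))

/-- A natural section has no proper invariant subsections. -/
theorem eq_or_eq (h : NatSec F A B ρ ψ) {N : Subgroup G} [hN : N.Normal] (hBN : B ≤ N) (hNA : N ≤ A) :
    N ≤ B ∨ A ≤ N := by
  by_cases hle : N ≤ B
  · exact Or.inl hle
  refine Or.inr fun a ha => ?_
  obtain ⟨x, hx, hxB⟩ := SetLike.not_le_iff_exists.mp hle
  by_cases ha0 : ψ a = 0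
  · exact hBN ((h.ker a ha).mp ha0)
  obtain ⟨m, hm⟩ := exists_mulVec_eq (fun h0 => hxB ((h.ker x (hNA hx)).mp h0)) ha0
  obtain ⟨g, rfl⟩ := h.surj m
  rw [← h.act g x (hNA hx)] at hm
  have h2 := hN.conj_mem x hx g
  have h1 := (h.eq_iff ha (hNA h2)).mp hm.symm
  have := mul_mem h2 (hBN h1)
  rwa [mul_inv_cancel_left] at this

theorem not_le (h : NatSec F A B ρ ψ) : ¬ A ≤ B := fun hle => by
  obtain ⟨a, ha, hv⟩ := h.onto ![1, 0]
  rw [(h.ker a ha).mpr (hle ha)] at hv
  simpa using congrFun hv 0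

theorem not_comm_le (h : NatSec F A B ρ ψ) : ¬ ⁅A, (⊤ : Subgroup G)⁆ ≤ B := fun hle => by
  haveI := h.normal_bot
  obtain ⟨g, hg⟩ := h.surj (Quadratic.lowerE 1)
  have h1 : g ∈ ρ.ker := h.mem_ker_iff.mpr fun a ha => by
    rw [← commutatorElement_inv]
    exact inv_mem (hle (commutator_mem_commutator ha (mem_top g)))
  rw [MonoidHom.mem_ker, hg] at h1
  exact lowerE_one_ne_upperE 0 (h1.trans Quadratic.upperE_zero.symm)

theorem isChief (h : NatSec F A B ρ ψ) : Cfsg.IsChiefFactor A B :=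
  ⟨lt_of_le_not_ge h.le h.not_le, h.normal, h.normal_bot, fun N hN hBN hNA => by
    haveI := hN
    rcases h.eq_or_eq hBN hNA with h1 | h1
    · exact Or.inl (le_antisymm h1 hBN)
    · exact Or.inr (le_antisymm hNA h1)⟩

/-- A chief factor either is a copy of the section or lives below it. -/
theorem descend (h : NatSec F A B ρ ψ) {U W : Subgroup G} (hch : Cfsg.IsChiefFactor U W)
    (hA : U ≤ (U ⊓ A) ⊔ W) :
    (∃ ψ', NatSec F U W ρ ψ') ∨ U ≤ (U ⊓ B) ⊔ W := by
  classical
  obtain ⟨hlt, hUn, hWn, hall⟩ := hch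
  haveI := hUn
  haveI := hWn
  haveI := h.normal_bot
  haveI := h.normal
  rcases hall ((U ⊓ B) ⊔ W) inferInstance le_sup_right (sup_le inf_le_left hlt.le) with h1 | h1
  swap
  · exact Or.inr h1.ge
  have hUB : U ⊓ B ≤ W := le_sup_left.trans h1.le
  have hnotle : ¬ U ⊓ A ≤ W := fun h0 => hlt.not_ge (hA.trans (sup_le h0 le_rfl))
  have hWA : W ⊓ A ≤ B := by
    rcases h.eq_or_eq (N := (W ⊓ A) ⊔ B) le_sup_right (sup_le inf_le_right h.le) with h2 | h2
    · exact le_sup_left.trans h2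
    exfalso
    refine hnotle fun x hx => ?_
    obtain ⟨w, hw, b, hb, rfl⟩ := mem_sup_of_normal_right.mp (h2 hx.2)
    refine mul_mem hw.1 (hUB (mem_inf.mpr ⟨?_, hb⟩))
    have := mul_mem (inv_mem (hlt.le hw.1)) hx.1
    rwa [inv_mul_cancel_left] at this
  have hAB : A ≤ (U ⊓ A) ⊔ B := by
    rcases h.eq_or_eq (N := (U ⊓ A) ⊔ B) le_sup_right (sup_le inf_le_right h.le) with h2 | h2
    · exact absurd (fun x hx => hUB (mem_inf.mpr ⟨hx.1, (le_sup_left.trans h2) hx⟩)) hnotle
    · exact h2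
  have hex : ∀ u ∈ U, ∃ a ∈ U ⊓ A, a⁻¹ * u ∈ W := fun u hu => by
    obtain ⟨a, ha, w, hw, rfl⟩ := mem_sup_of_normal_right.mp (hA hu)
    exact ⟨a, ha, by rwa [inv_mul_cancel_left]⟩
  let ψ' : G → Fin 2 → F := fun u => if hu : u ∈ U then ψ (hex u hu).choose else 0
  have hψ : ∀ u ∈ U, ∀ a ∈ U ⊓ A, a⁻¹ * u ∈ W → ψ' u = ψ a := fun u hu a ha hau => by
    show dite _ _ _ = _
    rw [dif_pos hu]
    obtain ⟨ha', hau'⟩ := (hex u hu).choose_spec
    refine (h.eq_iff ha'.2 ha.2).mpr (hWA (mem_inf.mpr ⟨?_, mul_mem (inv_mem ha.2) ha'.2⟩))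
    have := mul_mem hau (inv_mem hau')
    rwa [show a⁻¹ * u * ((hex u hu).choose⁻¹ * u)⁻¹ = a⁻¹ * (hex u hu).choose by group] at this
  refine Or.inl ⟨ψ', { le := hlt.le, normal := hUn, surj := h.surj, add := fun u hu v hv => ?_,
                       ker := fun u hu => ?_, onto := fun v => ?_, act := fun g u hu => ?_ }⟩
  · obtain ⟨a, ha, hau⟩ := hex u hu
    obtain ⟨b, hb, hbv⟩ := hex v hv
    rw [hψ u hu a ha hau, hψ v hv b hb hbv, ← h.add a ha.2 b hb.2]
    refine hψ _ (mul_mem hu hv) _ (mul_mem ha hb) ?_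
    rw [show (a * b)⁻¹ * (u * v) = b⁻¹ * (a⁻¹ * u) * b * (b⁻¹ * v) by group]
    refine mul_mem ?_ hbv
    have := hWn.conj_mem _ hau b⁻¹
    rwa [inv_inv] at this
  · obtain ⟨a, ha, hau⟩ := hex u hu
    rw [hψ u hu a ha hau, h.ker a ha.2]
    constructor
    · intro h2
      have := mul_mem (hUB (mem_inf.mpr ⟨ha.1, h2⟩)) hau
      rwa [mul_inv_cancel_left] at this
    · intro h2
      refine hWA (mem_inf.mpr ⟨?_, ha.2⟩)
      have := mul_mem h2 (inv_mem hau)
      rwa [show u * (a⁻¹ * u)⁻¹ = a by group] at this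
  · obtain ⟨a, ha, hv⟩ := h.onto v
    obtain ⟨x, hx, b, hb, rfl⟩ := mem_sup_of_normal_right.mp (hAB ha)
    refine ⟨x, hx.1, ?_⟩
    rw [hψ x hx.1 x hx (by rw [inv_mul_cancel]; exact one_mem W), ← hv, h.add x hx.2 b (h.le hb),
      (h.ker b (h.le hb)).mpr hb, add_zero]
  · obtain ⟨a, ha, hau⟩ := hex u hu
    rw [hψ u hu a ha hau, ← h.act g a ha.2]
    refine hψ _ (hUn.conj_mem u hu g) _
      (mem_inf.mpr ⟨hUn.conj_mem a ha.1 g, h.normal.conj_mem a ha.2 g⟩) ?_
    rw [show (g * a * g⁻¹)⁻¹ * (g * u * g⁻¹) = g * (a⁻¹ * u) * g⁻¹ by group]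
    exact hWn.conj_mem _ hau g

/-- A natural section is a natural module of the quotient. -/
theorem isNatural [hBn : B.Normal] (h : NatSec F A B ρ ψ) :
    Cfsg.IsNaturalSL2Module F (A.map (QuotientGroup.mk' B)) (⊤ : Subgroup (G ⧸ B)) := by
  classical
  let f := QuotientGroup.mk' B
  have hf : Function.Surjective f := QuotientGroup.mk'_surjective B
  have hex : ∀ v : ↥(A.map f), ∃ a ∈ A, f a = v := fun v => v.2
  choose r hr hrv using hex
  have hval : ∀ (v : ↥(A.map f)) (a : G), a ∈ A → f a = v → ψ (r v) = ψ a := fun v a ha hav => by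
    refine (h.eq_iff (hr v) ha).mpr ?_
    rw [← QuotientGroup.eq_one_iff (N := B), QuotientGroup.mk_mul, QuotientGroup.mk_inv,
      inv_mul_eq_one]
    exact hav.trans (hrv v).symm
  let ψ' : Additive ↥(A.map f) →+ (Fin 2 → F) := AddMonoidHom.mk' (fun v => ψ (r v.toMul)) fun v w => by
    show ψ (r (v.toMul * w.toMul)) = _
    rw [hval _ _ (mul_mem (hr v.toMul) (hr w.toMul)) (by rw [map_mul, hrv, hrv]; rfl),
      h.add _ (hr _) _ (hr _)]
  have hb : Function.Bijective ψ' := by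
    refine ⟨(injective_iff_map_eq_zero ψ').mpr fun v hv => ?_, fun v => ?_⟩
    · apply Additive.toMul.injective
      apply Subtype.ext
      rw [← hrv v.toMul]
      exact (QuotientGroup.eq_one_iff _).mpr ((h.ker _ (hr v.toMul)).mp hv)
    · obtain ⟨a, ha, hv⟩ := h.onto v
      exact ⟨Additive.ofMul ⟨f a, mem_map_of_mem f ha⟩, (hval _ a ha rfl).trans hv⟩
  let ρ' : G ⧸ B →* SL₂ F := QuotientGroup.lift B ρ h.le_ker
  refine ⟨?_, ρ'.comp (⊤ : Subgroup (G ⧸ B)).subtype, AddEquiv.ofBijective ψ' hb, ?_, ?_, ?_⟩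
  · haveI := h.normal.map f hf
    rw [normalizer_eq_top]
  · intro m
    obtain ⟨g, hg⟩ := h.surj m
    exact ⟨⟨f g, mem_top _⟩, hg⟩
  · ext ⟨x, hx⟩
    obtain ⟨g, rfl⟩ := hf x
    show ρ g = 1 ↔ f g ∈ centralizer (A.map f : Set (G ⧸ B))
    rw [← MonoidHom.mem_ker, h.mem_ker_iff]
    constructor
    · rintro hg _ ⟨a, ha, rfl⟩
      refine (commutatorElement_eq_one_iff_mul_comm.mp ?_).symm
      rw [← map_commutatorElement]
      exact (QuotientGroup.eq_one_iff _).mpr (hg a ha)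
    · intro hg a ha
      refine (QuotientGroup.eq_one_iff _).mp (show f ⁅g, a⁆ = 1 from ?_)
      rw [map_commutatorElement]
      exact commutatorElement_eq_one_iff_mul_comm.mpr (hg _ ⟨a, ha, rfl⟩).symm
  · rintro ⟨x, hx⟩ v
    obtain ⟨g, rfl⟩ := hf x
    refine ⟨⟨f (g * r v * g⁻¹), mem_map_of_mem f (h.normal.conj_mem _ (hr v) g)⟩, ?_, ?_⟩
    · show f (g * r v * g⁻¹) = f g * v * (f g)⁻¹
      rw [map_mul, map_mul, _root_.map_inv, hrv]
    · show ψ (r _) = (ρ g).1.mulVec (ψ (r v))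
      rw [hval _ _ (h.normal.conj_mem _ (hr v) g) rfl, h.act g _ (hr v)]

end NatSec

end Cfsg.Agent.PushUp
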