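/-
Pushing up over `PSL₂(q)`: the local data at an incident pair (group, Sylow subgroup).

Main definitions and results (namespace `Cfsg.Agent.PushUp`):
* `cj`            : conjugate of a subgroup
* `cm`            : the elements of a subgroup centralised modulo another one
* `Loc`           : the local data
* `Loc.map`       : the data is invariant under conjugation
* `Loc.inf_le`, `Loc.cover`, `Loc.quad`, `Loc.comm_not_le`, `Loc.trans_step`
-/
import Cfsg.Agent.Lib.PushUp.RankOne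
import Cfsg.Agent.Lib.Transfer.Focal

set_option autoImplicit false

namespace Cfsg.Agent.PushUp

open Subgroup
open scoped commutatorElement

variable {G : Type*} [Group G]

/-- The conjugate `g H g⁻¹`. -/
def cj (g : G) (H : Subgroup G) : Subgroup G := H.map (MulAut.conj g).toMonoidHom

theorem mem_cj {g x : G} {H : Subgroup G} : x ∈ cj g H ↔ g⁻¹ * x * g ∈ H :=
  Transfer.mem_map_conj_iff

theorem conj_mem_cj {g x : G} {H : Subgroup G} (h : x ∈ H) : g * x * g⁻¹ ∈ cj g H := ⟨x, h, rfl⟩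

theorem cj_cj (g h : G) (H : Subgroup G) : cj g (cj h H) = cj (g * h) H :=
  Transfer.map_conj_map_conj H h g

theorem cj_one (H : Subgroup G) : cj 1 H = H := by
  ext x; simp [mem_cj]

theorem cj_mono {g : G} {H K : Subgroup G} (h : H ≤ K) : cj g H ≤ cj g K := map_mono h

theorem le_of_cj_le {g : G} {H K : Subgroup G} (h : cj g H ≤ cj g K) : H ≤ K := fun x hx => by
  simpa [mem_cj, mul_assoc] using h (conj_mem_cj (g := g) hx)

theorem cj_inv_le {g : G} {H K : Subgroup G} (h : H ≤ cj g K) : cj g⁻¹ H ≤ K := by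
  have := cj_mono (g := g⁻¹) h
  rwa [cj_cj, inv_mul_cancel, cj_one] at this

theorem cj_eq_self {g : G} {H : Subgroup G} (h : g ∈ normalizer (H : Set G)) : cj g H = H :=
  Transfer.map_conj_eq_iff_mem_normalizer.mpr h

theorem mem_normalizer_of_cj_eq {g : G} {H : Subgroup G} (h : cj g H = H) :
    g ∈ normalizer (H : Set G) :=
  Transfer.map_conj_eq_iff_mem_normalizer.mp h

theorem cj_sup (g : G) (H K : Subgroup G) : cj g (H ⊔ K) = cj g H ⊔ cj g K := map_sup ..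

theorem cj_inf (g : G) (H K : Subgroup G) : cj g (H ⊓ K) = cj g H ⊓ cj g K :=
  map_inf _ _ _ (MulAut.conj g).injective

theorem cj_commutator (g : G) (H K : Subgroup G) : cj g ⁅H, K⁆ = ⁅cj g H, cj g K⁆ :=
  map_commutator _ _ _

theorem relIndex_cj (g : G) (H K : Subgroup G) : (cj g H).relIndex (cj g K) = H.relIndex K :=
  relIndex_map_map_of_injective _ _ (MulAut.conj g).injective

theorem cj_le_self {P : Subgroup G} {k : G} (hk : k ∈ P) {H : Subgroup G} (h : H ≤ P) : cj k H ≤ P := by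
  rintro _ ⟨x, hx, rfl⟩
  exact P.mul_mem (P.mul_mem hk (h hx)) (P.inv_mem hk)

/-- The elements of `X` centralised by `T` modulo `W`. -/
def cm (X W T : Subgroup G) : Subgroup G where
  carrier := {x | (x ∈ X ∧ x ∈ normalizer (W : Set G)) ∧ ∀ t ∈ T, ⁅x, t⁆ ∈ W}
  one_mem' := ⟨⟨one_mem X, one_mem _⟩, fun t _ => by rw [commutatorElement_one_left]; exact one_mem W⟩
  mul_mem' := fun {x y} hx hy => ⟨⟨mul_mem hx.1.1 hy.1.1, mul_mem hx.1.2 hy.1.2⟩, fun t ht => by
    rw [show ⁅x * y, t⁆ = x * ⁅y, t⁆ * x⁻¹ * ⁅x, t⁆ by simp only [commutatorElement_def]; group]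
    exact mul_mem ((mem_normalizer_iff.mp hx.1.2 _).mp (hy.2 t ht)) (hx.2 t ht)⟩
  inv_mem' := fun {x} hx => ⟨⟨inv_mem hx.1.1, inv_mem hx.1.2⟩, fun t ht => by
    rw [show ⁅x⁻¹, t⁆ = x⁻¹ * ⁅x, t⁆⁻¹ * x⁻¹⁻¹ by simp only [commutatorElement_def]; group]
    exact (mem_normalizer_iff.mp (inv_mem hx.1.2) _).mp (inv_mem (hx.2 t ht))⟩

theorem mem_cm {X W T : Subgroup G} (hXW : X ≤ normalizer (W : Set G)) {x : G} :
    x ∈ cm X W T ↔ x ∈ X ∧ ∀ t ∈ T, ⁅x, t⁆ ∈ W :=
  ⟨fun h => ⟨h.1.1, h.2⟩, fun h => ⟨⟨h.1, hXW h.1⟩, h.2⟩⟩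

theorem cm_le (X W T : Subgroup G) : cm X W T ≤ X := fun _ h => h.1.1

theorem cj_cm (g : G) (X W T : Subgroup G) : cj g (cm X W T) ≤ cm (cj g X) (cj g W) (cj g T) := by
  rintro _ ⟨x, hx, rfl⟩
  refine ⟨⟨conj_mem_cj hx.1.1, ?_⟩, ?_⟩
  · refine mem_normalizer_of_cj_eq ?_
    show cj (g * x * g⁻¹) (cj g W) = cj g W
    rw [cj_cj, inv_mul_cancel_right, ← cj_cj, cj_eq_self hx.1.2]
  · rintro _ ⟨t, ht, rfl⟩
    exact ⟨⁅x, t⁆, hx.2 t ht, map_commutatorElement _ x t⟩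

theorem commute_of_le_centralizer {H K : Subgroup G} (h : H ≤ centralizer (K : Set G)) {x y : G}
    (hx : x ∈ H) (hy : y ∈ K) : ⁅x, y⁆ = 1 :=
  commutatorElement_eq_one_iff_mul_comm.mpr (h hx y hy).symm

theorem commutatorElement_mul_eq {x y t : G} : ⁅x * y, t⁆ = x * ⁅y, t⁆ * x⁻¹ * ⁅x, t⁆ := by
  simp only [commutatorElement_def]; group

theorem commutatorElement_right_mul_eq {x s t : G} : ⁅x, s * t⁆ = ⁅x, s⁆ * (s * ⁅x, t⁆ * s⁻¹) := by
  simp only [commutatorElement_def]; group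

/-- A `p'`-element acting trivially on both steps of a two-step series acts trivially. -/
theorem mem_of_step [Finite G] {p : ℕ} [Fact p.Prime] {W : Subgroup G} {x z : G}
    (hx : x ∈ normalizer (W : Set G)) (hz : z ∈ normalizer (W : Set G))
    (h2 : ⁅x, ⁅x, z⁆⁆ ∈ W) {k : ℕ} (hy : ⁅x, z⁆ ^ p ^ k = 1) (hco : (orderOf x).Coprime p) :
    ⁅x, z⁆ ∈ W := by
  let N := normalizer (W : Set G)
  let φ := QuotientGroup.mk' (W.subgroupOf N)
  set a : ↥N := ⟨x, hx⟩
  set b : ↥N := ⟨z, hz⟩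
  have hval : ((⁅a, b⁆ : ↥N) : G) = ⁅x, z⁆ := map_commutatorElement N.subtype a b
  have hc : φ ⁅a, ⁅a, b⁆⁆ = 1 := by
    refine (QuotientGroup.eq_one_iff _).2 (mem_subgroupOf.2 ?_)
    have := map_commutatorElement N.subtype a ⁅a, b⁆
    simp only [coe_subtype] at this
    rw [this, hval]
    exact h2
  set A := φ a
  set B := φ b
  set Y := ⁅A, B⁆ with hY
  have hAY : A * Y * A⁻¹ = Y := by
    rw [map_commutatorElement, map_commutatorElement, commutatorElement_eq_one_iff_mul_comm] at hc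
    rw [hc, mul_inv_cancel_right]
  have hpow : ∀ j : ℕ, A ^ j * B * (A ^ j)⁻¹ = Y ^ j * B := by
    intro j
    induction j with
    | zero => simp
    | succ j ih =>
      calc A ^ (j + 1) * B * (A ^ (j + 1))⁻¹ = A * (A ^ j * B * (A ^ j)⁻¹) * A⁻¹ := by
            rw [pow_succ']; group
        _ = (A * Y * A⁻¹) ^ j * (A * B * A⁻¹) := by rw [ih, conj_pow]; group
        _ = Y ^ j * (Y * B) := by
            rw [hAY]
            simp only [hY, commutatorElement_def]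
            group
        _ = Y ^ (j + 1) * B := by rw [← mul_assoc, ← pow_succ]
  have h := hpow (orderOf x)
  have hA : A ^ orderOf x = 1 := by
    rw [← map_pow, show a ^ orderOf x = 1 from Subtype.ext (pow_orderOf_eq_one x), map_one]
  rw [hA, one_mul, inv_one, mul_one, right_eq_mul] at h
  have hYp : Y ^ p ^ k = 1 := by
    rw [hY, ← map_commutatorElement, ← map_pow]
    refine (QuotientGroup.eq_one_iff _).2 (mem_subgroupOf.2 ?_)
    rw [SubmonoidClass.coe_pow, hval, hy]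
    exact one_mem W
  have h1 : Y = 1 := orderOf_eq_one_iff.mp (Nat.eq_one_of_dvd_coprimes (hco.pow_right k)
    (orderOf_dvd_of_pow_eq_one h) (orderOf_dvd_of_pow_eq_one hYp))
  rw [hY, ← map_commutatorElement] at h1
  have := mem_subgroupOf.1 ((QuotientGroup.eq_one_iff _).1 h1)
  rwa [hval] at this

/-- The local data at a group `P` with a Sylow subgroup `S`. -/
structure Loc (p q : ℕ) (P S Q Z C Zs O M : Subgroup G) : Prop where
  q_pos : 1 < q
  Q_le : Q ≤ S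
  S_le : S ≤ P
  Z_le : Z ≤ Q
  Zs_le : Zs ≤ Z
  C_le : C ≤ Zs
  pS : IsPGroup p S
  normQ : P ≤ normalizer (Q : Set G)
  normZ : P ≤ normalizer (Z : Set G)
  normO : P ≤ normalizer (O : Set G)
  Q_cent : Q ≤ centralizer (Z : Set G)
  cent_S : S ⊓ centralizer (Z : Set G) ≤ Q
  S_cent : S ≤ centralizer (Zs : Set G)
  powZ : ∀ z ∈ Z, z ^ p = 1
  P_cent : P ≤ centralizer (C : Set G)
  mem_C : ∀ z ∈ Z, z ∈ centralizer (P : Set G) → z ∈ C
  relS : Q.relIndex S = q
  relZ : Zs.relIndex Z = q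
  fix : ∀ u ∈ S, u ∉ Q → ∀ z ∈ Z, ⁅z, u⁆ ∈ C → z ∈ Zs
  O_sup : O ⊔ S = P
  O_gen : O ≤ closure {x : G | x ∈ O ∧ (orderOf x).Coprime p}
  M_le : M ≤ P
  S_le_M : S ≤ M
  M_lt : ¬ P ≤ M
  gen : ∀ g ∈ P, g ∉ M → S ⊔ cj g S = P
  disp : ∀ U W D : Subgroup G, W ≤ U → U ≤ Q → P ≤ normalizer (U : Set G) →
    P ≤ normalizer (W : Set G) → ¬ ⁅U, O⁆ ≤ W → D ≤ U → ∀ u ∈ S, u ∉ Q →
    (∀ x ∈ D, ⁅x, u⁆ ∈ W) → q ≤ D.relIndex U

theorem Loc.map {p q : ℕ} {P S Q Z C Zs O M : Subgroup G} (h : Loc p q P S Q Z C Zs O M) (c : G) :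
    Loc p q (cj c P) (cj c S) (cj c Q) (cj c Z) (cj c C) (cj c Zs) (cj c O) (cj c M) := by
  have hn : ∀ {H K : Subgroup G}, H ≤ normalizer (K : Set G) →
      cj c H ≤ normalizer (cj c K : Set G) := fun {H K} hHK => by
    rintro _ ⟨x, hx, rfl⟩
    refine mem_normalizer_of_cj_eq ?_
    show cj (c * x * c⁻¹) (cj c K) = cj c K
    rw [cj_cj, inv_mul_cancel_right, ← cj_cj, cj_eq_self (hHK hx)]
  have hc : ∀ {H K : Subgroup G}, H ≤ centralizer (K : Set G) →
      cj c H ≤ centralizer (cj c K : Set G) := fun {H K} hHK => by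
    rintro _ ⟨x, hx, rfl⟩ _ ⟨y, hy, rfl⟩
    exact ((map_mul _ _ _).symm.trans (congrArg _ (hHK hx y hy))).trans (map_mul _ _ _)
  refine
    { q_pos := h.q_pos
      Q_le := cj_mono h.Q_le, S_le := cj_mono h.S_le, Z_le := cj_mono h.Z_le
      Zs_le := cj_mono h.Zs_le, C_le := cj_mono h.C_le
      pS := h.pS.map _
      normQ := hn h.normQ, normZ := hn h.normZ, normO := hn h.normO
      Q_cent := hc h.Q_cent
      cent_S := ?_
      S_cent := hc h.S_cent
      powZ := ?_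
      P_cent := hc h.P_cent
      mem_C := ?_
      relS := (relIndex_cj c Q S).trans h.relS
      relZ := (relIndex_cj c Zs Z).trans h.relZ
      fix := ?_
      O_sup := by rw [← cj_sup, h.O_sup]
      O_gen := ?_
      M_le := cj_mono h.M_le, S_le_M := cj_mono h.S_le_M
      M_lt := fun h' => h.M_lt (le_of_cj_le h')
      gen := ?_
      disp := ?_ }
  · rintro _ ⟨⟨x, hx, rfl⟩, hxc⟩
    refine ⟨x, h.cent_S ⟨hx, fun z hz => ?_⟩, rfl⟩
    exact (MulAut.conj c).injective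
      (((map_mul _ _ _).trans (hxc _ ⟨z, hz, rfl⟩)).trans (map_mul _ _ _).symm)
  · rintro _ ⟨z, hz, rfl⟩
    rw [← map_pow, h.powZ z hz, map_one]
  · rintro _ ⟨z, hz, rfl⟩ hzc
    refine ⟨z, h.mem_C z hz fun y hy => ?_, rfl⟩
    exact (MulAut.conj c).injective
      (((map_mul _ _ _).trans (hzc _ ⟨y, hy, rfl⟩)).trans (map_mul _ _ _).symm)
  · rintro _ ⟨u, hu, rfl⟩ huQ _ ⟨z, hz, rfl⟩ hzu
    refine ⟨z, h.fix u hu (fun hq => huQ ⟨u, hq, rfl⟩) z hz ?_, rfl⟩
    rw [← map_commutatorElement] at hzu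
    obtain ⟨y, hy, he⟩ := hzu
    rwa [(MulAut.conj c).injective he] at hy
  · refine (cj_mono h.O_gen).trans ?_
    rw [cj, MonoidHom.map_closure]
    refine closure_mono ?_
    rintro _ ⟨x, ⟨hx, hxo⟩, rfl⟩
    refine ⟨⟨x, hx, rfl⟩, ?_⟩
    show (orderOf (MulAut.conj c x)).Coprime p
    rwa [MulEquiv.orderOf_eq]
  · rintro _ ⟨g, hg, rfl⟩ hgM
    have e : cj ((MulAut.conj c).toMonoidHom g) (cj c S) = cj c (cj g S) := by
      rw [cj_cj, cj_cj]
      congr 1
      show c * g * c⁻¹ * c = c * g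
      rw [inv_mul_cancel_right]
    rw [e, ← cj_sup, h.gen g hg fun hm => hgM ⟨g, hm, rfl⟩]
  · intro U W D hWU hUQ hU hW hne hDU u hu huQ hD
    obtain ⟨u', hu', rfl⟩ := hu
    have hback : ∀ K : Subgroup G, cj c (cj c⁻¹ K) = K := fun K => by
      rw [cj_cj, mul_inv_cancel, cj_one]
    have hnorm : ∀ {K : Subgroup G}, cj c P ≤ normalizer (K : Set G) →
        P ≤ normalizer (cj c⁻¹ K : Set G) := fun {K} hK x hx => by
      refine mem_normalizer_of_cj_eq ?_
      have h1 := cj_eq_self (hK (conj_mem_cj (g := c) hx))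
      rw [cj_cj, show x * c⁻¹ = c⁻¹ * (c * x * c⁻¹) by group, ← cj_cj, h1]
    rw [← hback U, ← hback D, relIndex_cj]
    refine h.disp _ (cj c⁻¹ W) _ (cj_mono hWU) ?_ (hnorm hU) (hnorm hW) ?_ (cj_mono hDU) u' hu'
      (fun hq => huQ ⟨u', hq, rfl⟩) ?_
    · exact cj_inv_le hUQ
    · intro h'
      refine hne ?_
      have := cj_mono (g := c) h'
      rwa [cj_commutator, hback, hback] at this
    · rintro _ ⟨x, hx, rfl⟩
      refine ⟨_, hD x hx, ?_⟩
      rw [map_commutatorElement]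
      congr 1
      show c⁻¹ * (c * u' * c⁻¹) * c⁻¹⁻¹ = u'
      group

section

variable {p q : ℕ} {P S Q Z C Zs O M : Subgroup G}

theorem Loc.Z_le_S (h : Loc p q P S Q Z C Zs O M) : Z ≤ S := h.Z_le.trans h.Q_le

theorem Loc.Z_comm (h : Loc p q P S Q Z C Zs O M) : Z ≤ centralizer (Z : Set G) :=
  h.Z_le.trans h.Q_cent

/-- Two generating Sylow subgroups fix only central elements of `Z`. -/
theorem Loc.inf_le (h : Loc p q P S Q Z C Zs O M) {S' : Subgroup G} (hgen : S ⊔ S' = P) {z : G}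
    (hz : z ∈ Zs) (hc : ∀ s ∈ S', s * z = z * s) : z ∈ C := by
  refine h.mem_C z (h.Zs_le hz) fun y hy => ?_
  have h1 : P ≤ centralizer ({z} : Set G) := hgen ▸ sup_le
    (fun s hs => mem_centralizer_singleton_iff.mpr (h.S_cent hs z hz).symm)
    (fun s hs => mem_centralizer_singleton_iff.mpr (hc s hs))
  exact mem_centralizer_singleton_iff.mp (h1 hy)

theorem Loc.mem_of_comm (h : Loc p q P S Q Z C Zs O M) {u z : G} (hu : u ∈ S) (huQ : u ∉ Q)
    (hz : z ∈ Z) (hc : ⁅z, u⁆ = 1) : z ∈ Zs :=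
  h.fix u hu huQ z hz (hc ▸ one_mem C)

variable [Finite G]

/-- A subgroup of `S` with a large enough fixed point free part covers `S` modulo `Q`. -/
theorem Loc.cover (h : Loc p q P S Q Z C Zs O M) {T : Subgroup G} (hT : T ≤ S)
    (hq : q ≤ (T ⊓ Q).relIndex T) : S ≤ T ⊔ Q := by
  haveI : (Q.subgroupOf (T ⊔ Q)).Normal := normal_subgroupOf_of_le_normalizer
    (sup_le ((hT.trans h.S_le).trans h.normQ) le_normalizer)
  have h1 : (T ⊓ Q).relIndex T ≤ Q.relIndex (T ⊔ Q) := by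
    rw [inf_relIndex_left]
    exact relIndex_le_of_le_right (le_sup_left : T ≤ T ⊔ Q) index_ne_zero_of_finite
  have h2 : Q.relIndex (T ⊔ Q) * (T ⊔ Q).relIndex S = q :=
    (relIndex_mul_relIndex _ _ _ le_sup_right (sup_le hT h.Q_le)).trans h.relS
  have h3 : 0 < (T ⊔ Q).relIndex S := Nat.pos_of_ne_zero index_ne_zero_of_finite
  have h4 := hq.trans h1
  refine relIndex_eq_one.mp (le_antisymm ?_ h3)
  by_contra h5
  have h6 : Q.relIndex (T ⊔ Q) * 2 ≤ q := h2 ▸ Nat.mul_le_mul_left _ (by omega)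
  have h7 := h.q_pos
  omega

/-- An element outside `Q` moves `q` cosets in any abelian group centralising `Z` nowhere. -/
theorem Loc.eq_fix (h : Loc p q P S Q Z C Zs O M) {T : Subgroup G} (hT : T ≤ S) (hTQ : ¬ T ≤ Q) :
    Z ⊓ centralizer (T : Set G) = Zs := by
  obtain ⟨u, hu, huQ⟩ := SetLike.not_le_iff_exists.mp hTQ
  refine le_antisymm (fun z hz => h.mem_of_comm (hT hu) huQ hz.1 ?_)
    (le_inf h.Zs_le fun z hz t ht => (h.S_cent (hT ht) z hz).symm)
  exact commutatorElement_eq_one_iff_mul_comm.mpr (hz.2 u hu).symm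

theorem Loc.step (h : Loc p q P S Q Z C Zs O M) [Fact p.Prime] {U V W : Subgroup G} (hUQ : U ≤ Q)
    (hVU : V ≤ U) (hU : P ≤ normalizer (U : Set G)) (hV : P ≤ normalizer (V : Set G))
    (hW : P ≤ normalizer (W : Set G))
    (h1 : ⁅U, O⁆ ≤ V) (h2 : ⁅V, O⁆ ≤ W) : ⁅U, O⁆ ≤ W := by
  have hQP : Q ≤ P := h.Q_le.trans h.S_le
  have hOP : O ≤ P := h.O_sup ▸ le_sup_left
  rw [commutator_le]
  intro z hz x hx
  have hzW : z ∈ normalizer (W : Set G) := hW (hQP (hUQ hz))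
  have key : O ≤ cm P W (zpowers z) := by
    refine h.O_gen.trans ((closure_le _).2 fun y hy => ⟨⟨hOP hy.1, hW (hOP hy.1)⟩, ?_⟩)
    rintro _ ⟨i, rfl⟩
    have hzi : z ^ i ∈ U := U.zpow_mem hz i
    have hyV : ⁅y, z ^ i⁆ ∈ V := by
      rw [← commutatorElement_inv]
      exact V.inv_mem (h1 (commutator_mem_commutator hzi hy.1))
    obtain ⟨k, hk⟩ := h.pS ⟨⁅y, z ^ i⁆, h.Q_le (hUQ (hVU hyV))⟩
    refine mem_of_step (hW (hOP hy.1)) (hW (hQP (hUQ hzi))) ?_
      (by simpa using congrArg Subtype.val hk) hy.2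
    rw [← commutatorElement_inv]
    exact W.inv_mem (h2 (commutator_mem_commutator hyV hy.1))
  rw [← commutatorElement_inv]
  exact W.inv_mem ((key hx).2 z (mem_zpowers z))

end

end Cfsg.Agent.PushUp
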