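/-
Pushing up over `PSL₂(q)`: a coset graph inside a finite overgroup and the extension of critical paths.

Main definitions and results (namespace `Cfsg.Agent.PushUp`):
* `Sys`, `Setup`     : a group `P`, its data, and a group `N` normalising the Sylow subgroup `S`
* `Sys.Inc`, `Sys.near`, `Sys.Crit` : incidence, distance, critical paths
* `Setup.exists_far` : some conjugate of `Z` lies outside `Q`
* `Crit.last_edge`, `Crit.shift` : extending a critical path at its end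
-/
import Cfsg.Agent.Lib.PushUp.Local
import Cfsg.Agent.Lib.PLocal.Action

set_option autoImplicit false

namespace Cfsg.Agent.PushUp

open Subgroup
open scoped commutatorElement

variable {G : Type*} [Group G]

/-- A group with its Sylow subgroup and the derived subgroups, and a group permuting the situation. -/
structure Sys (G : Type*) [Group G] where
  /-- the group -/
  P : Subgroup G
  /-- its Sylow subgroup -/
  S : Subgroup G
  /-- its `p`-core -/
  Q : Subgroup G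
  /-- the normal closure of the centre of `S` -/
  Z : Subgroup G
  /-- the centre of `P` in `Z` -/
  C : Subgroup G
  /-- the centre of `S` -/
  Zs : Subgroup G
  /-- the subgroup generated by the `p'`-elements -/
  O : Subgroup G
  /-- the maximal subgroup over `S` -/
  M : Subgroup G
  /-- a group normalising `S` -/
  N : Subgroup G

/-- The hypotheses on a system. -/
structure Setup (p q : ℕ) (Y : Sys G) : Prop where
  loc : Loc p q Y.P Y.S Y.Q Y.Z Y.C Y.Zs Y.O Y.M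
  NS : Y.N ≤ normalizer (Y.S : Set G)
  NZs : Y.N ≤ normalizer (Y.Zs : Set G)
  ne_bot : Y.Z ≠ ⊥
  hd : ∀ T : Subgroup G, T ≤ Y.S → T ≠ ⊥ → Y.P ≤ normalizer (T : Set G) →
    Y.N ≤ normalizer (T : Set G) → False

namespace Sys

variable (Y : Sys G)

/-- The vertex group at `x`. -/
def Pv (x : G) : Subgroup G := cj x Y.P
/-- The `p`-core at `x`. -/
def Qv (x : G) : Subgroup G := cj x Y.Q
/-- The module at `x`. -/
def Zv (x : G) : Subgroup G := cj x Y.Z
/-- The centre part at `x`. -/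
def Cv (x : G) : Subgroup G := cj x Y.C
/-- The `p'`-generated part at `x`. -/
def Ov (x : G) : Subgroup G := cj x Y.O
/-- The Sylow subgroup at the edge `e`. -/
def Se (e : G) : Subgroup G := cj e Y.S
/-- The centre of the Sylow subgroup at the edge `e`. -/
def Zse (e : G) : Subgroup G := cj e Y.Zs

/-- The edge `e` lies at the vertex `x`. -/
def Inc (e x : G) : Prop := ∃ n ∈ Y.N, (e * n)⁻¹ * x ∈ Y.P

/-- `y` is within distance `k` of `x`. -/
def near : ℕ → G → G → Prop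
  | 0, x, y => x⁻¹ * y ∈ Y.P
  | k + 1, x, y => ∃ z e, near k x z ∧ Y.Inc e z ∧ Y.Inc e y

/-- A walk. -/
def Path (k : ℕ) (v e : ℕ → G) : Prop := ∀ i < k, Y.Inc (e i) (v i) ∧ Y.Inc (e i) (v (i + 1))

/-- No pair at distance less than `b` is far. -/
def Below (b : ℕ) : Prop := ∀ k < b, ∀ x y, Y.near k x y → Y.Zv x ≤ Y.Qv y

/-- A critical path. -/
def Crit (b : ℕ) (v e : ℕ → G) : Prop := Y.Path b v e ∧ ¬ Y.Zv (v 0) ≤ Y.Qv (v b)

/-- `S` acts quadratically on the module. -/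
def Quad : Prop := ⁅Y.Z, Y.S⁆ ≤ Y.Zs

end Sys

variable {p q : ℕ} {Y : Sys G}

theorem Zv_mul (g x : G) : Y.Zv (g * x) = cj g (Y.Zv x) := (cj_cj g x _).symm
theorem Qv_mul (g x : G) : Y.Qv (g * x) = cj g (Y.Qv x) := (cj_cj g x _).symm
theorem Pv_mul (g x : G) : Y.Pv (g * x) = cj g (Y.Pv x) := (cj_cj g x _).symm
theorem Se_mul (g x : G) : Y.Se (g * x) = cj g (Y.Se x) := (cj_cj g x _).symm

theorem inc_mul_left {e x : G} (h : Y.Inc e x) (g : G) : Y.Inc (g * e) (g * x) := by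
  obtain ⟨n, hn, h⟩ := h
  exact ⟨n, hn, by rwa [show (g * e * n)⁻¹ * (g * x) = (e * n)⁻¹ * x by group]⟩

theorem inc_right {e x y : G} (h : Y.Inc e x) (hxy : x⁻¹ * y ∈ Y.P) : Y.Inc e y := by
  obtain ⟨n, hn, h⟩ := h
  exact ⟨n, hn, by
    rw [show (e * n)⁻¹ * y = (e * n)⁻¹ * x * (x⁻¹ * y) by group]
    exact mul_mem h hxy⟩

theorem mem_Pv {x k : G} : k ∈ Y.Pv x ↔ x⁻¹ * k * x ∈ Y.P := mem_cj

theorem inc_mul_vertex {e x k : G} (h : Y.Inc e x) (hk : k ∈ Y.Pv x) : Y.Inc (k * e) x := by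
  refine inc_right (inc_mul_left h k) ?_
  rw [show (k * x)⁻¹ * x = x⁻¹ * k⁻¹ * x by group]
  exact mem_Pv.mp (inv_mem hk)

theorem inc_one : Y.Inc 1 1 := ⟨1, one_mem _, by simp⟩

theorem inc_one_of_mem {n : G} (hn : n ∈ Y.N) : Y.Inc 1 n := ⟨n, hn, by simp⟩

theorem near_refl (x : G) : Y.near 0 x x := by simp [Sys.near]

theorem near_succ {k : ℕ} {x y : G} (h : Y.near k x y) : Y.near (k + 1) x y := by
  cases k with
  | zero => exact ⟨x, x, near_refl x, ⟨1, one_mem _, by simp⟩, ⟨1, one_mem _, by simpa using (show x⁻¹ * y ∈ Y.P from h)⟩⟩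
  | succ k =>
    obtain ⟨z, e, hz, h1, h2⟩ := h
    exact ⟨y, e, ⟨z, e, hz, h1, h2⟩, h2, h2⟩

theorem near_mono {k l : ℕ} (hkl : k ≤ l) {x y : G} (h : Y.near k x y) : Y.near l x y := by
  induction hkl with
  | refl => exact h
  | step _ ih => exact near_succ ih

theorem near_right {k : ℕ} {x y y' : G} (h : Y.near k x y) (hy : y⁻¹ * y' ∈ Y.P) : Y.near k x y' := by
  cases k with
  | zero =>
    show x⁻¹ * y' ∈ Y.P
    rw [show x⁻¹ * y' = x⁻¹ * y * (y⁻¹ * y') by group]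
    exact mul_mem h hy
  | succ k =>
    obtain ⟨z, e, hz, h1, h2⟩ := h
    exact ⟨z, e, hz, h1, inc_right h2 hy⟩

theorem near_trans {k l : ℕ} {x y z : G} (h1 : Y.near k x y) (h2 : Y.near l y z) :
    Y.near (k + l) x z := by
  induction l generalizing z with
  | zero => exact near_right h1 h2
  | succ l ih =>
    obtain ⟨w, e, hw, he1, he2⟩ := h2
    exact ⟨w, e, ih hw, he1, he2⟩

theorem near_adj {e x y : G} (h1 : Y.Inc e x) (h2 : Y.Inc e y) : Y.near 1 x y :=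
  ⟨x, e, near_refl x, h1, h2⟩

theorem near_symm {k : ℕ} {x y : G} (h : Y.near k x y) : Y.near k y x := by
  induction k generalizing x y with
  | zero =>
    show y⁻¹ * x ∈ Y.P
    rw [show y⁻¹ * x = (x⁻¹ * y)⁻¹ by group]
    exact inv_mem h
  | succ k ih =>
    obtain ⟨z, e, hz, h1, h2⟩ := h
    rw [Nat.add_comm k 1]
    exact near_trans (near_adj h2 h1) (ih hz)

theorem near_mul_left {k : ℕ} {x y : G} (h : Y.near k x y) (g : G) : Y.near k (g * x) (g * y) := by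
  induction k generalizing y with
  | zero =>
    show (g * x)⁻¹ * (g * y) ∈ Y.P
    rwa [show (g * x)⁻¹ * (g * y) = x⁻¹ * y by group]
  | succ k ih =>
    obtain ⟨z, e, hz, h1, h2⟩ := h
    exact ⟨g * z, g * e, ih hz, inc_mul_left h1 g, inc_mul_left h2 g⟩

theorem exists_path {k : ℕ} {x y : G} (h : Y.near k x y) :
    ∃ v e : ℕ → G, Y.Path k v e ∧ x⁻¹ * v 0 ∈ Y.P ∧ v k = y := by
  induction k generalizing y with
  | zero => exact ⟨fun _ => y, fun _ => y, fun i hi => absurd hi (Nat.not_lt_zero i), h, rfl⟩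
  | succ k ih =>
    obtain ⟨z, e, hz, h1, h2⟩ := h
    obtain ⟨v, w, hp, h0, hk⟩ := ih hz
    refine ⟨fun i => if i ≤ k then v i else y, fun i => if i < k then w i else e, fun i hi => ?_,
      by simpa using h0, by simp⟩
    rcases Nat.lt_succ_iff_lt_or_eq.mp hi with h' | rfl
    · simpa [h', h'.le, Nat.succ_le_of_lt h'] using hp i h'
    · simp only [le_refl, if_true, lt_irrefl, if_false, Nat.not_succ_le_self]
      exact ⟨hk ▸ h1, h2⟩

theorem Sys.Path.near {k : ℕ} {v e : ℕ → G} (h : Y.Path k v e) {i j : ℕ} (hij : i ≤ j) (hj : j ≤ k) :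
    Y.near (j - i) (v i) (v j) := by
  induction hij with
  | refl => rw [Nat.sub_self]; exact near_refl _
  | @step m hm ih =>
    rw [Nat.succ_sub hm]
    exact ⟨v m, e m, ih (Nat.le_of_succ_le hj), (h m hj).1, (h m hj).2⟩

theorem Setup.Qv_le_Pv (hS : Setup p q Y) (x : G) : Y.Qv x ≤ Y.Pv x :=
  cj_mono (hS.loc.Q_le.trans hS.loc.S_le)

theorem Setup.eqv (hS : Setup p q Y) {x y : G} (h : x⁻¹ * y ∈ Y.P) :
    Y.Pv y = Y.Pv x ∧ Y.Qv y = Y.Qv x ∧ Y.Zv y = Y.Zv x ∧ Y.Cv y = Y.Cv x ∧ Y.Ov y = Y.Ov x := by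
  have key : ∀ H : Subgroup G, Y.P ≤ normalizer (H : Set G) → cj y H = cj x H := fun H hH => by
    conv_lhs => rw [show y = x * (x⁻¹ * y) by group, ← cj_cj, cj_eq_self (hH h)]
  exact ⟨key _ le_normalizer, key _ hS.loc.normQ, key _ hS.loc.normZ,
    key _ (hS.loc.P_cent.trans (centralizer_le_normalizer _)), key _ hS.loc.normO⟩

theorem Setup.flag (hS : Setup p q Y) {e x : G} (h : Y.Inc e x) :
    ∃ M' : Subgroup G,
      Loc p q (Y.Pv x) (Y.Se e) (Y.Qv x) (Y.Zv x) (Y.Cv x) (Y.Zse e) (Y.Ov x) M' := by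
  obtain ⟨n, hn, h⟩ := h
  refine ⟨cj (e * n) Y.M, ?_⟩
  obtain ⟨h1, h2, h3, h4, h5⟩ := hS.eqv h
  rw [h1, h2, h3, h4, h5,
    show Y.Se e = cj (e * n) Y.S from (congrArg (cj e) (cj_eq_self (hS.NS hn)).symm).trans (cj_cj ..),
    show Y.Zse e = cj (e * n) Y.Zs from (congrArg (cj e) (cj_eq_self (hS.NZs hn)).symm).trans (cj_cj ..)]
  exact hS.loc.map (e * n)

theorem Setup.quad_at (hS : Setup p q Y) (hq : Y.Quad) {e x : G} (h : Y.Inc e x) :
    ⁅Y.Zv x, Y.Se e⁆ ≤ Y.Zse e := by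
  obtain ⟨n, hn, h⟩ := h
  rw [show Y.Se e = cj (e * n) Y.S from (congrArg (cj e) (cj_eq_self (hS.NS hn)).symm).trans (cj_cj ..),
    show Y.Zse e = cj (e * n) Y.Zs from (congrArg (cj e) (cj_eq_self (hS.NZs hn)).symm).trans (cj_cj ..),
    (hS.eqv h).2.2.1]
  show ⁅cj (e * n) Y.Z, cj (e * n) Y.S⁆ ≤ cj (e * n) Y.Zs
  rw [← cj_commutator]
  exact cj_mono hq

/-- Elements of the join with a normalised subgroup. -/
theorem exists_mul_of_mem_sup_normalizer {T Q : Subgroup G} (hTQ : T ≤ normalizer (Q : Set G)) {s : G}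
    (hs : s ∈ T ⊔ Q) : ∃ t ∈ T, ∃ a ∈ Q, s = t * a := by
  rw [← SetLike.mem_coe, coe_mul_of_left_le_normalizer_right _ _ hTQ] at hs
  obtain ⟨t, ht, a, ha, rfl⟩ := Set.mem_mul.1 hs
  exact ⟨t, ht, a, ha, rfl⟩

/-- Commutators with a cover of `S` modulo a centralising subgroup. -/
theorem comm_le_of_cover {Z T Q S : Subgroup G} (hS : S ≤ T ⊔ Q) (hQ : Q ≤ centralizer (Z : Set G))
    (hTQ : T ≤ normalizer (Q : Set G)) : ⁅Z, S⁆ ≤ ⁅Z, T⁆ := by
  rw [commutator_le]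
  intro z hz s hs
  obtain ⟨t, ht, a, ha, rfl⟩ := exists_mul_of_mem_sup_normalizer hTQ (hS hs)
  rw [commutatorElement_right_mul_eq, commutatorElement_eq_one_iff_mul_comm.mpr (hQ ha z hz),
    mul_one, mul_inv_cancel, mul_one]
  exact commutator_mem_commutator hz ht

variable [Finite G]

/-- Some conjugate of `Z` leaves `Q`. -/
theorem Setup.exists_far (hS : Setup p q Y) :
    ∃ b, Y.Below b ∧ ∃ v e : ℕ → G, Y.Crit b v e := by
  classical
  have hex : ∃ k x y, Y.near k x y ∧ ¬ Y.Zv x ≤ Y.Qv y := by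
    by_contra hno
    push Not at hno
    set T := ⨆ (x : G) (_ : ∃ k, Y.near k 1 x), Y.Zv x
    have hTQ : T ≤ Y.Q := iSup₂_le fun x ⟨k, hk⟩ => by
      have := hno k x 1 (near_symm hk)
      rwa [show Y.Qv 1 = Y.Q from cj_one _] at this
    have hmove : ∀ g : G, (∃ l, Y.near l 1 g) → cj g T ≤ T := fun g hg => by
      obtain ⟨l, hl⟩ := hg
      show Subgroup.map _ T ≤ T
      simp only [T, Subgroup.map_iSup]
      refine iSup₂_le fun x ⟨k, hk⟩ => ?_
      exact le_iSup₂_of_le (g * x) ⟨l + k, near_trans hl (by simpa using near_mul_left hk g)⟩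
        (Zv_mul g x).ge
    have hnorm : ∀ H : Subgroup G, (∀ g ∈ H, ∃ l, Y.near l 1 g) → H ≤ normalizer (T : Set G) :=
      fun H hH g hg => mem_normalizer_of_cj_eq (le_antisymm (hmove g (hH g hg)) fun x hx => by
        have := conj_mem_cj (g := g⁻¹) hx
        have h1 := hmove g⁻¹ (hH _ (inv_mem hg)) this
        exact mem_cj.mpr (by rwa [inv_inv] at h1))
    refine hS.hd T (hTQ.trans hS.loc.Q_le) (fun h => hS.ne_bot ?_) (hnorm _ fun g hg => ⟨0, ?_⟩)
      (hnorm _ fun n hn => ⟨1, near_adj inc_one (inc_one_of_mem hn)⟩)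
    · refine le_bot_iff.1 (h ▸ ?_)
      exact le_iSup₂_of_le (1 : G) ⟨0, near_refl 1⟩ (cj_one Y.Z).ge
    · show (1 : G)⁻¹ * g ∈ Y.P
      simpa using hg
  obtain ⟨x, y, hxy, hfar⟩ := Nat.find_spec hex
  obtain ⟨v, e, hp, h0, rfl⟩ := exists_path hxy
  refine ⟨Nat.find hex, fun k hk x y h => by_contra fun h' => Nat.find_min hex hk ⟨x, y, h, h'⟩,
    v, e, hp, ?_⟩
  rwa [(hS.eqv h0).2.2.1]

omit [Finite G] in
theorem Sys.Below.le_Qv {b k : ℕ} (hb : Y.Below b) {x y : G} (h : Y.near k x y) (hk : k < b) :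
    Y.Zv x ≤ Y.Qv y := hb k hk x y h

/-- A critical pair is symmetric and the ends cover the Sylow subgroups. -/
theorem Sys.Crit.facts (hS : Setup p q Y) {b : ℕ} (hb : Y.Below b) (hb1 : 1 ≤ b) {v e : ℕ → G}
    (hc : Y.Crit b v e) :
    Y.Zv (v b) ≤ Y.Se (e 0) ∧ Y.Zv (v 0) ≤ Y.Se (e (b - 1)) ∧ ¬ Y.Zv (v b) ≤ Y.Qv (v 0) ∧
    Y.Se (e (b - 1)) ≤ Y.Zv (v 0) ⊔ Y.Qv (v b) ∧
    Y.Zv (v b) ⊓ centralizer (Y.Zv (v 0) : Set G) = Y.Zse (e (b - 1)) ∧
    ⁅Y.Zv (v b), Y.Se (e (b - 1))⁆ = ⁅Y.Zv (v b), Y.Zv (v 0)⁆ ∧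
    ⁅Y.Zv (v b), Y.Se (e (b - 1))⁆ ≤ Y.Zse (e (b - 1)) := by
  obtain ⟨hp, hfar⟩ := hc
  have h0 := hp 0 hb1
  have hl := hp (b - 1) (by omega)
  rw [Nat.sub_add_cancel hb1] at hl
  obtain ⟨_, L0⟩ := hS.flag h0.1
  obtain ⟨_, L1⟩ := hS.flag h0.2
  obtain ⟨_, Lp⟩ := hS.flag hl.1
  obtain ⟨_, Lb⟩ := hS.flag hl.2
  have hA : Y.Zv (v b) ≤ Y.Se (e 0) :=
    ((hb.le_Qv (near_symm (hp.near hb1 le_rfl)) (by omega))).trans L1.Q_le
  have hB : Y.Zv (v 0) ≤ Y.Se (e (b - 1)) :=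
    ((hb.le_Qv (hp.near (Nat.zero_le (b - 1)) (Nat.sub_le b 1)) (by omega))).trans Lp.Q_le
  have hsymm : ¬ Y.Zv (v b) ≤ Y.Qv (v 0) := fun h =>
    hfar fun z hz => Lb.cent_S ⟨hB hz, fun w hw => (L0.Q_cent (h hw) z hz).symm⟩
  obtain ⟨u, hu, huQ⟩ := SetLike.not_le_iff_exists.mp hsymm
  have hcover : Y.Se (e (b - 1)) ≤ Y.Zv (v 0) ⊔ Y.Qv (v b) := by
    refine Lb.cover hB (L0.relZ.ge.trans (relIndex_le_of_le_left ?_ index_ne_zero_of_finite))
    intro z hz
    exact L0.mem_of_comm (hA hu) huQ hz.1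
      (commutatorElement_eq_one_iff_mul_comm.mpr ((Lb.Q_cent hz.2) u hu).symm)
  have heq := Lb.eq_fix hB hfar
  have hTQ : Y.Zv (v 0) ≤ normalizer (Y.Qv (v b) : Set G) := (hB.trans Lb.S_le).trans Lb.normQ
  have hcomm : ⁅Y.Zv (v b), Y.Se (e (b - 1))⁆ = ⁅Y.Zv (v b), Y.Zv (v 0)⁆ :=
    le_antisymm (comm_le_of_cover hcover Lb.Q_cent hTQ) (commutator_mono le_rfl hB)
  refine ⟨hA, hB, hsymm, hcover, heq, hcomm, ?_⟩
  rw [hcomm, ← heq, le_inf_iff]
  have hn0 : Y.Zv (v b) ≤ normalizer (Y.Zv (v 0) : Set G) := (hA.trans L0.S_le).trans L0.normZ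
  exact ⟨le_normalizer_iff_commutator_le_left.mp ((hB.trans Lb.S_le).trans Lb.normZ),
    (le_normalizer_iff_commutator_le_right.mp hn0).trans L0.Z_comm⟩

/-- Quadratic action from a critical path. -/
theorem Setup.quad (hS : Setup p q Y) {b : ℕ} (hb : Y.Below b) (hb1 : 1 ≤ b) {v e : ℕ → G}
    (hc : Y.Crit b v e) : Y.Quad := by
  obtain ⟨n, hn, hx⟩ := (hc.1 (b - 1) (by omega)).2
  rw [Nat.sub_add_cancel hb1] at hx
  have h := (hc.facts hS hb hb1).2.2.2.2.2.2
  rw [show Y.Se (e (b - 1)) = cj (e (b - 1) * n) Y.S from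
      (congrArg (cj (e (b - 1))) (cj_eq_self (hS.NS hn)).symm).trans (cj_cj ..),
    show Y.Zse (e (b - 1)) = cj (e (b - 1) * n) Y.Zs from
      (congrArg (cj (e (b - 1))) (cj_eq_self (hS.NZs hn)).symm).trans (cj_cj ..),
    (hS.eqv hx).2.2.1] at h
  change ⁅cj (e (b - 1) * n) Y.Z, cj (e (b - 1) * n) Y.S⁆ ≤ cj (e (b - 1) * n) Y.Zs at h
  rw [← cj_commutator] at h
  exact le_of_cj_le h

omit [Finite G] in
/-- Membership in `cm` from generators. -/
theorem mem_cm_closure {X W : Subgroup G} {A : Set G} {x : G} (hx : x ∈ X)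
    (hxW : x ∈ normalizer (W : Set G)) (hA : A ⊆ normalizer (W : Set G))
    (h : ∀ t ∈ A, ⁅x, t⁆ ∈ W) : x ∈ cm X W (closure A) := by
  refine ⟨⟨hx, hxW⟩, fun t ht => (?_ : t ∈ normalizer (W : Set G) ∧ ⁅x, t⁆ ∈ W).2⟩
  induction ht using closure_induction with
  | mem y hy => exact ⟨hA hy, h y hy⟩
  | one => exact ⟨one_mem _, by rw [commutatorElement_one_right]; exact one_mem W⟩
  | mul a c _ _ iha ihc =>
    exact ⟨mul_mem iha.1 ihc.1, by
      rw [commutatorElement_right_mul_eq]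
      exact mul_mem iha.2 ((mem_normalizer_iff.mp iha.1 _).mp ihc.2)⟩
  | inv a _ iha =>
    exact ⟨inv_mem iha.1, by
      rw [show ⁅x, a⁻¹⁆ = a⁻¹ * ⁅x, a⁆⁻¹ * a⁻¹⁻¹ by simp only [commutatorElement_def]; group]
      exact (mem_normalizer_iff.mp (inv_mem iha.1) _).mp (inv_mem iha.2)⟩

/-- A critical path extends over any good vertex of its last edge. -/
theorem Sys.Crit.shift (hS : Setup p q Y) [Fact p.Prime] (hquad : Y.Quad) {b : ℕ} (hb : Y.Below b)
    (hb2 : 2 ≤ b) {v e : ℕ → G} (hc : Y.Crit b v e) {δ : G} (hδ : Y.Inc (e (b - 1)) δ)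
    (hgood : ¬ Y.Pv (v b) ≤ normalizer ((Y.Zv δ ⊔ Y.Zv (v b) : Subgroup G) : Set G)) :
    ∃ k ∈ Y.Pv (v b), Y.Se (e (b - 1)) ⊔ cj k (Y.Se (e (b - 1))) = Y.Pv (v b) ∧
      Y.Crit b (fun i => if i < b then v (i + 1) else k * δ)
        (fun i => if i + 1 < b then e (i + 1) else k * e (b - 1)) := by
  obtain ⟨-, hZ0S, hsymm, hcover, -, -, -⟩ := hc.facts hS hb (by omega)
  obtain ⟨hp, hfar⟩ := hc
  set y := v b
  set el := e (b - 1) with hel
  have hly : Y.Inc el y := by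
    have := (hp (b - 1) (by omega)).2
    rwa [Nat.sub_add_cancel (by omega : 1 ≤ b)] at this
  obtain ⟨M', L⟩ := hS.flag hly
  obtain ⟨_, L1⟩ := hS.flag (hp 1 (by omega)).1
  obtain ⟨_, L2⟩ := hS.flag (hp 1 (by omega)).2
  obtain ⟨_, L0⟩ := hS.flag (hp 0 (by omega)).1
  obtain ⟨_, L01⟩ := hS.flag (hp 0 (by omega)).2
  set P := Y.Pv y
  set Sl := Y.Se el
  set Z := Y.Zv y with hZdef
  have hincl : ∀ k ∈ P, Y.Inc (k * el) y ∧ Y.Inc (k * el) (k * δ) := fun k hk =>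
    ⟨inc_mul_vertex hly hk, inc_mul_left hδ k⟩
  have hnext : ∀ k ∈ P, Y.near 1 (k * δ) y := fun k hk => near_adj (hincl k hk).2 (hincl k hk).1
  have hQ2 : ∀ k ∈ P, Y.Zv (k * δ) ≤ Y.Qv (v 2) := fun k hk =>
    hb.le_Qv (near_trans (hnext k hk) (near_symm (hp.near hb2 le_rfl))) (by omega)
  have hδZ : ∀ k ∈ P, ⁅Y.Zv (k * δ), Y.Se (k * el)⁆ ≤ Z := fun k hk =>
    (hS.quad_at hquad (hincl k hk).2).trans (by
      obtain ⟨_, L'⟩ := hS.flag (hincl k hk).1
      exact L'.Zs_le)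
  set X := (⨆ k : ↥P, Y.Zv ((k : G) * δ)) ⊔ Z with hXdef
  have hgenX : ∀ k ∈ P, Y.Zv (k * δ) ≤ X := fun k hk =>
    le_sup_of_le_left (le_iSup (fun k : ↥P => Y.Zv ((k : G) * δ)) ⟨k, hk⟩)
  have hZX : Z ≤ X := le_sup_right
  have hgenδ : Y.Zv δ ≤ X := by simpa using hgenX 1 (one_mem _)
  have hXQ : X ≤ Y.Qv y := sup_le (iSup_le fun (k : ↥P) => hb.le_Qv (hnext k k.2) (by omega)) L.Z_le
  have hXS1 : X ≤ Y.Se (e 1) := (sup_le (iSup_le fun (k : ↥P) => hQ2 k k.2)
    (hb.le_Qv (near_symm (hp.near hb2 le_rfl)) (by omega))).trans L2.Q_le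
  have hPX : P ≤ normalizer (X : Set G) := fun g hg => by
    have key : ∀ g ∈ P, cj g X ≤ X := fun g hg => by
      rw [hXdef, cj_sup]
      refine sup_le ?_ ((cj_eq_self (L.normZ hg)).le.trans le_sup_right)
      rw [cj, Subgroup.map_iSup]
      exact iSup_le fun (k : ↥P) => le_sup_of_le_left (le_iSup_of_le (⟨g * k, mul_mem hg k.2⟩ : ↥P)
        (by show cj g _ ≤ _; rw [← Zv_mul, mul_assoc]))
    exact mem_normalizer_of_cj_eq (le_antisymm (key g hg) fun x hx => mem_cj.mpr (by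
      have := key g⁻¹ (inv_mem hg) (conj_mem_cj (g := g⁻¹) hx)
      rwa [inv_inv] at this))
  have hQP : Y.Qv y ≤ P := L.Q_le.trans L.S_le
  have hXn : X ≤ normalizer (Z : Set G) := (hXQ.trans hQP).trans L.normZ
  -- the commutators with `Q` lie in `Z`
  have hXQZ : X ≤ cm X Z (Y.Qv y) := by
    refine sup_le (iSup_le fun k x hx => (mem_cm hXn).mpr ⟨hgenX k k.2 hx, fun t ht => ?_⟩)
      fun x hx => (mem_cm hXn).mpr ⟨hZX hx, fun t ht => ?_⟩
    · obtain ⟨_, L'⟩ := hS.flag (hincl k k.2).1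
      exact hδZ k k.2 (commutator_mem_commutator hx (L'.Q_le ht))
    · rw [commutatorElement_eq_one_iff_mul_comm.mpr (L.Q_cent ht x hx)]
      exact one_mem Z
  have hXO : ¬ ⁅X, Y.Ov y⁆ ≤ Z := fun h => by
    refine hgood ?_
    rw [← L.O_sup]
    refine sup_le ?_ ?_ <;> refine le_normalizer_iff_commutator_le_left.mpr ?_
    · exact ((commutator_mono (sup_le hgenδ hZX) le_rfl).trans h).trans le_sup_right
    · refine le_trans ?_ (le_sup_right : Z ≤ Y.Zv δ ⊔ Z)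
      rw [commutator_le]
      intro x hx s hs
      have hsup : Y.Zv δ ⊔ Z ≤ cm X Z Sl := by
        refine sup_le (fun x hx => (mem_cm hXn).mpr ⟨hgenδ hx, fun t ht => ?_⟩) fun x hx => (mem_cm hXn).mpr ⟨hZX hx, fun t ht => ?_⟩
        · have := hδZ 1 (one_mem _)
          rw [one_mul, one_mul] at this
          exact this (commutator_mem_commutator hx ht)
        · exact le_normalizer_iff_commutator_le_left.mp (L.S_le.trans L.normZ)
            (commutator_mem_commutator hx ht)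
      exact (hsup hx).2 s hs
  -- `Z₀` fixes a subgroup of index at most `q` modulo `Z`
  set D := X ⊓ Y.Qv (v 1) ⊓ Y.Qv (v 0)
  set H := cm X Z Sl
  have hZ0Z : Y.Zv (v 0) ≤ normalizer (Y.Qv y : Set G) := (hZ0S.trans L.S_le).trans L.normQ
  have hDH : D ⊔ Z ≤ H := by
    refine sup_le (fun d hd => (mem_cm hXn).mpr ⟨hd.1.1, fun s hs => ?_⟩)
      fun x hx => (mem_cm hXn).mpr ⟨hZX hx, fun t ht =>
        le_normalizer_iff_commutator_le_left.mp (L.S_le.trans L.normZ) (commutator_mem_commutator hx ht)⟩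
    obtain ⟨z, hz, a, ha, rfl⟩ := exists_mul_of_mem_sup_normalizer hZ0Z (hcover hs)
    rw [commutatorElement_right_mul_eq,
      commutatorElement_eq_one_iff_mul_comm.mpr (L0.Q_cent hd.2 z hz).symm, one_mul]
    exact (mem_normalizer_iff.mp (L.normZ (L.S_le (hZ0S hz))) _).mp ((hXQZ hd.1.1).2 a ha)
  obtain ⟨u, hu, huQ⟩ : ∃ u ∈ Sl, u ∉ Y.Qv y := SetLike.not_le_iff_exists.mp fun h => by
    have h1 := L.relS
    rw [relIndex_eq_one.mpr h] at h1
    exact L.q_pos.ne h1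
  have hHlow : q ≤ H.relIndex X :=
    L.disp X Z H hZX hXQ hPX L.normZ hXO (cm_le _ _ _) u hu huQ fun x hx => hx.2 u hu
  have hDlow : q ≤ D.relIndex (D ⊔ Z) := by
    refine le_trans ?_ (relIndex_le_of_le_right le_sup_right index_ne_zero_of_finite)
    refine L.relZ.ge.trans ?_
    rw [← inf_relIndex_right D Z]
    refine relIndex_le_of_le_left (fun z hz => ?_) index_ne_zero_of_finite
    obtain ⟨w, hw, hwQ⟩ := SetLike.not_le_iff_exists.mp hfar
    exact L.mem_of_comm (hZ0S hw) hwQ hz.2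
      (commutatorElement_eq_one_iff_mul_comm.mpr (L0.Q_cent hz.1.2 w hw).symm)
  have hprod : D.relIndex (D ⊔ Z) * (D ⊔ Z).relIndex X = D.relIndex X :=
    relIndex_mul_relIndex _ _ _ le_sup_left (sup_le (inf_le_left.trans inf_le_left) hZX)
  have hDH' : q ≤ (D ⊔ Z).relIndex X :=
    hHlow.trans (relIndex_le_of_le_left hDH index_ne_zero_of_finite)
  have hsplit : (X ⊓ Y.Qv (v 1)).relIndex X ≤ q := by
    rw [inf_relIndex_left]
    exact (relIndex_le_of_le_right hXS1 index_ne_zero_of_finite).trans L1.relS.le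
  have hD1 : D.relIndex (X ⊓ Y.Qv (v 1)) ≤ q := by
    rw [inf_relIndex_left]
    exact (relIndex_le_of_le_right (inf_le_right.trans L01.Q_le) index_ne_zero_of_finite).trans L0.relS.le
  have hq0 := L.q_pos
  have hnot : ¬ X ≤ Y.Qv (v 1) := fun h => by
    rw [inf_eq_left.mpr h] at hD1
    have h1 : q * q ≤ q :=
      ((Nat.mul_le_mul hDlow hDH').trans hprod.le).trans hD1
    nlinarith
  have hHq : H.relIndex X ≤ q := by
    have h1 : D.relIndex X ≤ q * q := by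
      rw [← relIndex_mul_relIndex D (X ⊓ Y.Qv (v 1)) X inf_le_left inf_le_left]
      exact Nat.mul_le_mul hD1 hsplit
    refine (relIndex_le_of_le_left hDH index_ne_zero_of_finite).trans ?_
    refine Nat.le_of_mul_le_mul_left ?_ (Nat.zero_lt_of_lt hq0)
    exact ((Nat.mul_le_mul_right _ hDlow).trans hprod.le).trans h1
  -- a conjugate over a generating edge leaves `Q_{v 1}`
  by_contra hcon
  push Not at hcon
  have hgenk : ∀ k : ↥P, (k : G) ∉ M' → Y.Zv ((k : G) * δ) ≤ Y.Qv (v 1) := fun k hk => by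
    by_contra hbad
    refine hcon k k.2 (L.gen k k.2 hk) ⟨fun i hi => ?_, ?_⟩
    · by_cases h' : i + 1 < b
      · simpa [hi, h'] using hp (i + 1) h'
      · obtain rfl : i = b - 1 := by omega
        simp only [if_neg h', Nat.sub_add_cancel (by omega : 1 ≤ b), lt_irrefl, if_false, if_pos hi]
        exact hincl k k.2
    · simp only [show (0 : ℕ) < b by omega, if_true, lt_irrefl, if_false, zero_add]
      intro hle
      refine hbad fun z hz => ?_
      have hzS : z ∈ Y.Se (e 1) := hXS1 (hgenX k k.2 hz)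
      obtain ⟨_, L'⟩ := hS.flag (hincl k k.2).2
      exact L1.cent_S ⟨hzS, fun w hw => (L'.Q_cent (hle hw) z hz).symm⟩
  set Ps := (⨆ k : {k : ↥P // (k : G) ∉ M'}, Y.Zv ((k : ↥P) * δ : G)) ⊔ Z with hPsdef
  have hPsQ : Ps ≤ Y.Qv (v 1) :=
    sup_le (iSup_le fun k : {k : ↥P // (k : G) ∉ M'} => hgenk k.1 k.2) (hb.le_Qv (near_symm (hp.near (by omega) le_rfl)) (by omega))
  have hPsX : Ps ≤ X := sup_le (iSup_le fun k : {k : ↥P // (k : G) ∉ M'} => hgenX k.1 k.1.2) hZX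
  have hMPs : M' ≤ normalizer (Ps : Set G) := fun g hg => by
    have key : ∀ g ∈ M', cj g Ps ≤ Ps := fun g hg => by
      rw [hPsdef, cj_sup]
      refine sup_le ?_ ((cj_eq_self (L.normZ (L.M_le hg))).le.trans le_sup_right)
      rw [cj, Subgroup.map_iSup]
      refine iSup_le fun k => le_sup_of_le_left (le_iSup_of_le
        (⟨⟨g * (k.1 : G), mul_mem (L.M_le hg) k.1.2⟩, fun hgk => k.2 ?_⟩ : {k : ↥P // (k : G) ∉ M'})
        (by show cj g _ ≤ _; rw [← Zv_mul, mul_assoc]))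
      simpa using mul_mem (inv_mem hg) hgk
    exact mem_normalizer_of_cj_eq (le_antisymm (key g hg) fun x hx => mem_cj.mpr (by
      have := key g⁻¹ (inv_mem hg) (conj_mem_cj (g := g⁻¹) hx)
      rwa [inv_inv] at this))
  set W0 := cm X Z P
  have hW0X : W0 ≤ X := cm_le _ _ _
  have hPW0 : P ≤ normalizer (W0 : Set G) := fun g hg => by
    have key : ∀ g ∈ P, cj g W0 ≤ W0 := fun g hg => by
      have := cj_cm g X Z P
      rwa [cj_eq_self (hPX hg), cj_eq_self (L.normZ hg), cj_eq_self (le_normalizer hg)] at this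
    exact mem_normalizer_of_cj_eq (le_antisymm (key g hg) fun x hx => mem_cj.mpr (by
      have := key g⁻¹ (inv_mem hg) (conj_mem_cj (g := g⁻¹) hx)
      rwa [inv_inv] at this))
  have hW0O : ¬ ⁅X, Y.Ov y⁆ ≤ W0 := fun h => hXO (L.step hXQ hW0X hPX hPW0 L.normZ h
    (commutator_le.2 fun x hx o ho => hx.2 o (L.O_sup ▸ mem_sup_left ho)))
  obtain ⟨w, hw, hwM⟩ := SetLike.not_le_iff_exists.mp L.M_lt
  have hint : ∀ x, x ∈ H → x ∈ cj w H → x ∈ W0 := fun x hx hx' => by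
    have h2 : x ∈ cm X Z (cj w Sl) := by
      have := cj_cm w X Z Sl hx'
      rwa [cj_eq_self (hPX hw), cj_eq_self (L.normZ hw)] at this
    have := mem_cm_closure (A := (Sl : Set G) ∪ (cj w Sl : Set G)) hx.1.1 hx.1.2
      (Set.union_subset (L.S_le.trans L.normZ) ((cj_le_self hw L.S_le).trans L.normZ))
      fun t ht => ht.elim (hx.2 t) (h2.2 t)
    rwa [← Subgroup.sup_eq_closure, L.gen w hw hwM] at this
  have hW0H : W0 ≤ H := fun x hx => (mem_cm hXn).mpr ⟨hx.1.1, fun s hs => hx.2 s (L.S_le hs)⟩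
  have hW0idx : W0.relIndex H ≤ q := by
    refine le_trans ?_ hHq
    have h1 : H ⊓ cj w H ≤ W0 := fun x hx => hint x hx.1 hx.2
    refine (relIndex_le_of_le_left h1 index_ne_zero_of_finite).trans ?_
    rw [inf_relIndex_left]
    refine (relIndex_le_of_le_right (cm_le _ _ _) index_ne_zero_of_finite).trans ?_
    conv_lhs => rw [← cj_eq_self (hPX hw), relIndex_cj]
  have hδH : Y.Zv δ ≤ H := fun x hx => (mem_cm hXn).mpr
    ⟨hgenδ hx, fun t ht => by
      have := hδZ 1 (one_mem _)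
      rw [one_mul, one_mul] at this
      exact this (commutator_mem_commutator hx ht)⟩
  have hPsH : ¬ Ps ≤ H := fun h => by
    refine hXO ?_
    have hwd : Y.Zv (w * δ) ≤ W0 := by
      intro x hx
      refine hint x (h (le_sup_of_le_left
        (le_iSup (fun k : {k : ↥P // (k : G) ∉ M'} => Y.Zv ((k.1 : G) * δ)) ⟨⟨w, hw⟩, hwM⟩) hx)) ?_
      rw [Zv_mul] at hx
      exact cj_mono hδH hx
    have hall : X ≤ W0 := by
      refine sup_le (iSup_le fun (k : ↥P) => ?_) fun x hx => (mem_cm hXn).mpr ⟨hZX hx, fun t ht =>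
        le_normalizer_iff_commutator_le_left.mp L.normZ (commutator_mem_commutator hx ht)⟩
      have := cj_mono (g := (k : G) * w⁻¹) hwd
      rw [← Zv_mul, show (k : G) * w⁻¹ * (w * δ) = (k : G) * δ by group,
        cj_eq_self (hPW0 (mul_mem k.2 (inv_mem hw)))] at this
      exact this
    exact commutator_le.2 fun x hx o ho => (hall hx).2 o (L.O_sup ▸ mem_sup_left ho)
  -- an element of `Ps` moved into `H`
  obtain ⟨T, ⟨hT1, hT2, hT3⟩, hmin⟩ := Set.exists_min_image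
    {T : Subgroup G | T ≤ Ps ∧ Sl ≤ normalizer (T : Set G) ∧ ¬ T ≤ H} (fun T => Nat.card T)
    (Set.toFinite _) ⟨Ps, le_rfl, L.S_le_M.trans hMPs, hPsH⟩
  have hTS : ⁅T, Sl⁆ ≤ H := by
    by_contra hbad
    have h1 : ⁅T, Sl⁆ ≤ T := le_normalizer_iff_commutator_le_left.mp hT2
    have h2 : Sl ≤ normalizer ((⁅T, Sl⁆ : Subgroup G) : Set G) := fun s hs => mem_normalizer_of_cj_eq (by
      rw [cj_commutator, cj_eq_self (hT2 hs), cj_eq_self (le_normalizer hs)])
    have h3 := Subgroup.eq_of_le_of_card_ge h1 (hmin _ ⟨h1.trans hT1, h2, hbad⟩)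
    refine hT3 ((le_bot_iff.mpr ?_).trans bot_le)
    refine PLocal.eq_bot_of_le_commutator_pgroup L.pS le_normalizer (fun a ha => ?_)
      ((hT1.trans hPsX).trans (hXQ.trans L.Q_le)) h3.ge
    obtain ⟨k, hk⟩ := L.pS ⟨a, ha⟩
    have : a ^ p ^ k = 1 := by simpa using congrArg Subtype.val hk
    exact ⟨k, this ▸ one_mem _⟩
  obtain ⟨m, hm, hmH⟩ := SetLike.not_le_iff_exists.mp hT3
  have hmX : m ∈ X := hPsX (hT1 hm)
  set T' := W0 ⊔ closure {x | ∃ s ∈ Sl, x = ⁅m, s⁆}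
  have hkey : ∀ r ∈ Sl, ⁅m, r⁆ ∈ W0 → r ∈ Y.Qv y := by
    intro r hr hmr
    by_contra hrQ
    refine hmH ?_
    set K := cm X W0 (zpowers r)
    have hXW : X ≤ normalizer (W0 : Set G) := (hXQ.trans hQP).trans hPW0
    have hmK : m ∈ K := by
      have := mem_cm_closure (A := {r}) hmX (hXW hmX)
        (Set.singleton_subset_iff.mpr (hPW0 (L.S_le hr))) (fun t ht => ht ▸ hmr)
      rwa [← zpowers_eq_closure] at this
    have hHK : H ≤ K := fun x hx => (mem_cm hXW).mpr ⟨hx.1.1, fun t ht => (mem_cm hXn).mpr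
      ⟨le_normalizer_iff_commutator_le_left.mp hPX (commutator_mem_commutator hx.1.1
        (L.S_le (zpowers_le.mpr hr ht))), fun g hg =>
        le_normalizer_iff_commutator_le_left.mp L.normZ
          (commutator_mem_commutator (hx.2 t (zpowers_le.mpr hr ht)) hg)⟩⟩
    have h1 : q ≤ K.relIndex X := L.disp X W0 K hW0X hXQ hPX hPW0 hW0O (cm_le _ _ _) r hr hrQ
      fun x hx => hx.2 r (mem_zpowers r)
    have h2 : H.relIndex K * K.relIndex X = H.relIndex X :=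
      relIndex_mul_relIndex _ _ _ hHK (cm_le _ _ _)
    have h3 : 0 < H.relIndex K := Nat.pos_of_ne_zero index_ne_zero_of_finite
    have h4 : H.relIndex K = 1 := by
      refine le_antisymm ?_ h3
      refine Nat.le_of_mul_le_mul_right ?_ (by omega : 0 < K.relIndex X)
      rw [h2, one_mul]
      exact hHq.trans h1
    exact relIndex_eq_one.mp h4 hmK
  have hT'H : T' ≤ H := sup_le hW0H ((closure_le _).2 (by
    rintro _ ⟨s, hs, rfl⟩
    exact hTS (commutator_mem_commutator hm hs)))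
  have hT'q : q ≤ W0.relIndex T' := by
    rw [← L.relS]
    have hmem : ∀ s : ↥Sl, ⁅m, (s : G)⁆ ∈ T' := fun s =>
      mem_sup_right (subset_closure ⟨s, s.2, rfl⟩)
    refine Nat.card_le_card_of_injective
      (fun c : ↥Sl ⧸ (Y.Qv y).subgroupOf Sl =>
        (QuotientGroup.mk ⟨⁅m, (c.out : G)⁆, hmem c.out⟩ : ↥T' ⧸ W0.subgroupOf T'))
      fun c c' hcc => ?_
    rw [← QuotientGroup.out_eq' c, ← QuotientGroup.out_eq' c', QuotientGroup.eq, mem_subgroupOf]
    have h1 := mem_subgroupOf.1 (QuotientGroup.eq.1 hcc)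
    simp only [Subgroup.coe_mul, Subgroup.coe_inv] at h1 ⊢
    set s := (c.out : G)
    set t := (c'.out : G)
    refine hkey _ (mul_mem (inv_mem c.out.2) c'.out.2) ?_
    rw [show t = s * (s⁻¹ * t) by group, commutatorElement_right_mul_eq, inv_mul_cancel_left] at h1
    have h2 := (mem_normalizer_iff.mp (hPW0 (L.S_le c.out.2)) ⁅m, s⁻¹ * t⁆).mpr h1
    exact h2
  have hTeq : H ≤ T' := by
    have h1 : W0.relIndex T' * T'.relIndex H = W0.relIndex H :=
      relIndex_mul_relIndex _ _ _ le_sup_left hT'H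
    refine relIndex_eq_one.mp (le_antisymm ?_ (Nat.pos_of_ne_zero index_ne_zero_of_finite))
    refine Nat.le_of_mul_le_mul_left ?_ (by omega : 0 < W0.relIndex T')
    rw [h1, mul_one]
    exact hW0idx.trans hT'q
  have hPsW : H ≤ Ps ⊔ W0 := hTeq.trans (sup_le le_sup_right ((closure_le _).2 (by
    rintro _ ⟨s, hs, rfl⟩
    exact mem_sup_left (le_normalizer_iff_commutator_le_left.mp (L.S_le_M.trans hMPs)
      (commutator_mem_commutator (hT1 hm) hs)))))
  set Pd := Ps ⊔ Y.Zv δ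
  have hnear : Y.near (b - 1) δ (v 1) := by
    have h1 : Y.near (b - 1 - 1 + 1) (v 1) δ :=
      ⟨v (b - 1), el, hp.near (by omega) (Nat.sub_le _ _), (hp (b - 1) (by omega)).1, hδ⟩
    rw [show b - 1 - 1 + 1 = b - 1 by omega] at h1
    exact near_symm h1
  refine hnot ((?_ : X ≤ Pd).trans (sup_le hPsQ (hb.le_Qv hnear (by omega))))
  refine sup_le (iSup_le fun (k : ↥P) => ?_) (le_sup_right.trans le_sup_left)
  by_cases hk : (k : G) ∈ M'
  · rw [Zv_mul]
    rintro _ ⟨z, hz, rfl⟩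
    obtain ⟨t, ht, c, hc, rfl⟩ := exists_mul_of_mem_sup_normalizer
      ((hPsX.trans (hXQ.trans hQP)).trans hPW0) (hPsW (hδH hz))
    have hcPd : c ∈ Pd := by
      have := mul_mem (inv_mem (mem_sup_left ht : t ∈ Pd)) (mem_sup_right hz)
      rwa [inv_mul_cancel_left] at this
    rw [map_mul]
    refine mul_mem (mem_sup_left ((mem_normalizer_iff.mp (hMPs hk) t).mp ht)) ?_
    show (k : G) * c * (k : G)⁻¹ ∈ Pd
    rw [show (k : G) * c * (k : G)⁻¹ = ⁅c, (k : G)⁆⁻¹ * c by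
      simp only [commutatorElement_def]; group]
    exact mul_mem (inv_mem ((le_sup_right.trans le_sup_left : Z ≤ Pd) (hc.2 k k.2))) hcPd
  · exact le_sup_of_le_left (le_sup_of_le_left
      (le_iSup (fun k : {k : ↥P // (k : G) ∉ M'} => Y.Zv ((k.1 : G) * δ)) ⟨k, hk⟩))

end Cfsg.Agent.PushUp
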