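/-
Pushing up over `PSL₂(q)`: the local data of a group with `Z(S)` and `C_S(Z(J(S)))` not normal.

Main definitions and results (namespace `Cfsg.Agent.PushUp`):
* `Hyp`          : the hypotheses, for a group `G` and a maximal subgroup `M` over `S`
* `Hyp.sys`      : the system in `G`
* `Hyp.loc`      : the local data
* `Loc.mapHom`   : the data along an injective map
* `displacement` : elements outside `O_p` move `q` cosets of every noncentral normal section
-/
import Cfsg.Agent.Lib.PushUp.Baumann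
import Cfsg.Agent.Lib.PushUp.Graph

set_option autoImplicit false

namespace Cfsg.Agent.PushUp

open Subgroup
open scoped commutatorElement

variable {G : Type*} [Group G] [Finite G] {p : ℕ} [Fact p.Prime]
  {F : Type*} [Field F] [Fintype F] {n : ℕ}

theorem not_le_sylow_of_psl (hF : Fintype.card F = p ^ n) (S : Sylow p G)
    (π : G →* Matrix.ProjectiveSpecialLinearGroup (Fin 2) F) (hπ : Function.Surjective π) :
    ¬ Cfsg.pResidual p G ≤ π.ker := fun h => by
  refine (card_le_of_psl hF IsPGroup.of_bot).2 ?_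
  haveI := PReduced.pResidual_normal p G
  have h2 : IsPGroup p (G ⧸ π.ker) := PIrred.isPGroup_quotient_of_sup S.2 (top_le_iff.1
    ((PReduced.pResidual_sup_sylow S).ge.trans (sup_le (h.trans le_sup_right) le_sup_left)))
  exact h2.of_equiv (QuotientGroup.quotientKerEquivOfSurjective π hπ)

/-- Elements outside `O_p` move at least `q` cosets of a noncentral normal section. -/
theorem displacement {S : Sylow p G} (hu : ∃! M : Subgroup G, IsCoatom M ∧ (S : Subgroup G) ≤ M)
    (hF : Fintype.card F = p ^ n) (hn : 1 ≤ n)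
    (π : G →* Matrix.ProjectiveSpecialLinearGroup (Fin 2) F) (hπ : Function.Surjective π)
    {U W D : Subgroup G} (hU : U.Normal) (hW : W.Normal) (hWU : W ≤ U)
    (hUQ : U ≤ Cfsg.pCore p G) (hne : ¬ ⁅U, Cfsg.pResidual p G⁆ ≤ W) (hDU : D ≤ U) {u : G}
    (hu' : u ∈ (S : Subgroup G)) (huQ : u ∉ Cfsg.pCore p G) (hD : ∀ x ∈ D, ⁅x, u⁆ ∈ W) :
    p ^ n ≤ D.relIndex U := by
  let f := QuotientGroup.mk' W
  have hf : Function.Surjective f := QuotientGroup.mk'_surjective _
  have hkerf : f.ker = W := QuotientGroup.ker_mk' W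
  haveI : (U.map f).Normal := Subgroup.Normal.map hU f hf
  set T := (centralizer (U.map f : Set (G ⧸ W))).comap f with hTdef
  haveI : T.Normal := Subgroup.Normal.comap inferInstance f
  have hTmem : ∀ x, (x ∈ T ↔ ∀ z ∈ U, ⁅z, x⁆ ∈ W) := fun x => by
    simp only [hTdef, mem_comap, mem_centralizer_iff]
    constructor
    · intro h z hz
      rw [← hkerf, MonoidHom.mem_ker, map_commutatorElement, commutatorElement_eq_one_iff_mul_comm]
      exact h _ ⟨z, hz, rfl⟩
    · rintro h _ ⟨z, hz, rfl⟩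
      have := h z hz
      rwa [← hkerf, MonoidHom.mem_ker, map_commutatorElement,
        commutatorElement_eq_one_iff_mul_comm] at this
  have hT : ¬ Cfsg.pResidual p G ≤ T := fun h =>
    hne (commutator_le.2 fun z hz o ho => (hTmem o).1 (h ho) z hz)
  have hS : (S : Subgroup G) ⊓ T ≤ Cfsg.pCore p G := (le_or_le hu T).resolve_left hT
  by_cases hn2 : 2 ≤ n
  · have hTker : T ≤ π.ker := le_ker hu hF hn2 π hπ hT
    have hWker : f.ker ≤ π.ker := fun x hx => hTker ((hTmem x).2 fun z _ => by
      rw [hkerf] at hx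
      rw [commutatorElement_def]
      exact mul_mem (hW.conj_mem x hx z) (inv_mem hx))
    let π' : G ⧸ W →* Matrix.ProjectiveSpecialLinearGroup (Fin 2) F :=
      f.liftOfSurjective hf ⟨π, hWker⟩
    have hπ' : ∀ g, π' (f g) = π g := fun g => MonoidHom.liftOfRightInverse_comp_apply _ _ _ _ g
    have hker : centralizer (U.map f : Set (G ⧸ W)) ≤ π'.ker := fun y hy => by
      obtain ⟨x, rfl⟩ := hf y
      rw [MonoidHom.mem_ker, hπ']
      exact hTker hy
    have hπu : π' (f u) ≠ 1 := fun h1 => huQ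
      ((le_or_le hu π.ker).resolve_left (not_le_sylow_of_psl hF S π hπ) ⟨hu', by rwa [hπ'] at h1⟩)
    have hsurj : Function.Surjective π' := fun y => by
      obtain ⟨g, hg⟩ := hπ y
      exact ⟨f g, by rw [hπ', hg]⟩
    have h1 := index_ge_of_psl hF hn2 (((Cores.isPGroup_pCore p G).to_le hUQ).map f) π' hsurj hker
      (a := f u) (by rw [← MonoidHom.map_zpowers]; exact (S.2.to_le (zpowers_le.mpr hu')).map f) hπu
    have h2 : (D.map f).relIndex (U.map f) ≤ D.relIndex U := by
      rw [relIndex_map_map, hkerf, sup_eq_left.mpr hWU]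
      exact relIndex_le_of_le_left le_sup_left index_ne_zero_of_finite
    refine h1.trans (le_trans ?_ h2)
    refine relIndex_le_of_le_left ?_ index_ne_zero_of_finite
    rintro _ ⟨x, hx, rfl⟩
    refine ⟨⟨x, hDU hx, rfl⟩, mem_centralizer_singleton_iff.mpr ?_⟩
    rw [← commutatorElement_eq_one_iff_mul_comm, ← map_commutatorElement, ← MonoidHom.mem_ker, hkerf]
    exact hD x hx
  · obtain rfl : n = 1 := by omega
    rw [pow_one]
    have h1 : D.relIndex U ≠ 1 := fun h2 =>
      huQ (hS ⟨hu', (hTmem u).2 fun z hz => hD z (relIndex_eq_one.mp h2 hz)⟩)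
    obtain ⟨k, hk⟩ := IsPGroup.iff_card.mp ((Cores.isPGroup_pCore p G).to_le hUQ)
    obtain ⟨l, -, hl⟩ := (Nat.dvd_prime_pow Fact.out).mp (hk ▸ relIndex_dvd_card D U)
    rw [hl] at h1 ⊢
    exact Nat.le_self_pow (fun h3 => h1 (by rw [h3, pow_zero])) p

/-- The hypotheses of the pushing-up analysis. -/
structure Hyp (p n : ℕ) (G : Type*) [Group G] (S M : Subgroup G) (F : Type*) [Field F] [Fintype F]
    (π : G →* Matrix.ProjectiveSpecialLinearGroup (Fin 2) F) : Prop where
  sylow : ∃ P : Sylow p G, (P : Subgroup G) = S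
  E1 : centralizer (Cfsg.pCore p G : Set G) ≤ Cfsg.pCore p G
  E2 : ∃! M' : Subgroup G, IsCoatom M' ∧ S ≤ M'
  max : IsCoatom M ∧ S ≤ M
  surj : Function.Surjective π
  one_le : 1 ≤ n
  card : Fintype.card F = p ^ n
  center_not : ¬ (S ⊓ centralizer (S : Set G)).Normal
  tilde_not : ¬ (S ⊓ centralizer (Cfsg.centerThompsonAOf S : Set G)).Normal
  center_pow : ∀ z ∈ S ⊓ centralizer (S : Set G), z ^ p = 1

/-- The system in `G`. -/
def sysOf (p : ℕ) (S M : Subgroup G) : Sys G where
  P := ⊤
  S := S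
  Q := Cfsg.pCore p G
  Z := normalClosure ((S ⊓ centralizer (S : Set G) : Subgroup G) : Set G)
  C := normalClosure ((S ⊓ centralizer (S : Set G) : Subgroup G) : Set G) ⊓ center G
  Zs := S ⊓ centralizer (S : Set G)
  O := Cfsg.pResidual p G
  M := M
  N := ⊥

variable {S M : Subgroup G} {π : G →* Matrix.ProjectiveSpecialLinearGroup (Fin 2) F}

theorem Hyp.not_central (h : Hyp p n G S M F π) :
    ¬ Cfsg.pResidual p G ≤ centralizer ((S ⊓ centralizer (S : Set G) : Subgroup G) : Set G) := by
  obtain ⟨P, rfl⟩ := h.sylow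
  exact fun h1 => h.center_not (normal_of_le_center (central_of_pResidual P h1
    fun s hs x hx => (hx.2 s hs).symm))

theorem Hyp.exists_offender (h : Hyp p n G S M F π) :
    ∃ A ∈ PLocal.maxIn PLocal.abelian S, ¬ A ≤ Cfsg.pCore p G := by
  obtain ⟨P, rfl⟩ := h.sylow
  by_contra hall
  push Not at hall
  have hJ : Cfsg.thompsonSubgroupAOf (P : Subgroup G) ≤ Cfsg.pCore p G := by
    rw [PLocal.thompsonSubgroupAOf_eq]
    exact sSup_le hall
  haveI := centerThompson_normal hJ
  set N := centralizer (Cfsg.centerThompsonAOf (P : Subgroup G) : Set G)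
  have h1 := (le_or_le h.E2 N).resolve_left fun h1 =>
    h.not_central (h1.trans (centralizer_le (center_le_centerThompson P)))
  refine h.tilde_not ?_
  have : (P : Subgroup G) ⊓ N = Cfsg.pCore p G ⊓ N :=
    le_antisymm (le_inf h1 inf_le_right) (inf_le_inf_right _ (Cores.pCore_le_sylow P))
  rw [this]
  infer_instance

theorem Hyp.sup_conj_eq_top (h : Hyp p n G S M F π) {g : G} (hg : g ∉ M) : S ⊔ cj g S = ⊤ := by
  obtain ⟨P, rfl⟩ := h.sylow
  by_contra hne
  have hle : (P : Subgroup G) ⊔ cj g P ≤ M := PIrred.le_of_ne_top h.E2 h.max le_sup_left hne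
  obtain ⟨m, hm, he⟩ := Transfer.exists_conj_sylow_le (g • P) P (le_sup_right.trans hle) h.max.2
  rw [Transfer.sylow_coe_smul, Transfer.map_conj_map_conj] at he
  have h1 := Transfer.map_conj_eq_iff_mem_normalizer.mp he
  have h2 : normalizer ((P : Subgroup G) : Set G) ≤ M := by
    by_contra hnot
    have htop := PIrred.eq_top_of_not_le h.E2 h.max le_normalizer hnot
    have hPQ : (P : Subgroup G) ≤ Cfsg.pCore p G :=
      Cores.le_pCore (normalizer_eq_top_iff.mp htop) P.2
    obtain ⟨A, hA, hAQ⟩ := h.exists_offender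
    exact hAQ (hA.1.trans hPQ)
  refine hg ?_
  have := mul_mem (inv_mem hm) (h2 h1)
  rwa [inv_mul_cancel_left] at this

/-- The local data of `G`. -/
theorem Hyp.loc (h : Hyp p n G S M F π) :
    Loc p (p ^ n) (sysOf p S M).P (sysOf p S M).S (sysOf p S M).Q (sysOf p S M).Z
      (sysOf p S M).C (sysOf p S M).Zs (sysOf p S M).O (sysOf p S M).M := by
  have hp : p.Prime := Fact.out
  obtain ⟨A, hA, hAQ⟩ := h.exists_offender
  have hnc := h.not_central
  have hgen := fun (g : G) (hg : g ∉ M) => h.sup_conj_eq_top hg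
  obtain ⟨P, rfl⟩ := h.sylow
  set Q := Cfsg.pCore p G
  set Zs := (P : Subgroup G) ⊓ centralizer ((P : Subgroup G) : Set G)
  set Z := normalClosure (Zs : Set G)
  have hQn : Q.Normal := Cores.pCore_normal p G
  have hQp : IsPGroup p Q := Cores.isPGroup_pCore p G
  have hQS : Q ≤ (P : Subgroup G) := Cores.pCore_le_sylow P
  have hAS : A ≤ (P : Subgroup G) := hA.1
  have hZQ : Z ≤ Q := normalClosure_le_normal fun z hz => h.E1 fun x hx => hz.2 x (hQS hx)
  have hZC : Z ≤ centralizer (Q : Set G) :=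
    normalClosure_le_normal fun z hz x hx => hz.2 x (hQS hx)
  have hQZ : Q ≤ centralizer (Z : Set G) := le_centralizer_iff.mp hZC
  have hZO : ¬ Cfsg.pResidual p G ≤ centralizer (Z : Set G) := fun h1 =>
    hnc (h1.trans (centralizer_le subset_normalClosure))
  have hSC := (le_or_le h.E2 (centralizer (Z : Set G))).resolve_left hZO
  have hpow : ∀ z ∈ Z, z ^ p = 1 := fun z hz => by
    have : z ∈ Z := hz
    refine Subgroup.closure_induction (p := fun x _ => x ^ p = 1) ?_ (one_pow p) ?_ ?_ this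
    · intro x hx
      obtain ⟨y, hy, hc⟩ := Group.mem_conjugatesOfSet_iff.mp hx
      obtain ⟨c, rfl⟩ := isConj_iff.mp hc
      rw [conj_pow, h.center_pow y hy, mul_one, mul_inv_cancel]
    · intro a b ha hb ha1 hb1
      have hc : Commute b a := hZC ha b (hZQ hb)
      rw [hc.symm.mul_pow, ha1, hb1, mul_one]
    · intro a _ ha1
      rw [inv_pow, ha1, inv_one]
  have hZne : ∀ u ∈ (P : Subgroup G), u ∉ Q → ∀ D : Subgroup G, D ≤ Z →
      (∀ x ∈ D, ⁅x, u⁆ = 1) → p ^ n ≤ D.relIndex Z := fun u hu huQ D hD hDu => by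
    refine displacement h.E2 h.card h.one_le π h.surj normalClosure_normal inferInstance bot_le hZQ ?_
      hD hu huQ fun x hx => mem_bot.mpr (hDu x hx)
    intro h1
    refine hZO fun o ho z hz => commutatorElement_eq_one_iff_mul_comm.mp
      (mem_bot.mp (h1 (commutator_mem_commutator hz ho)))
  have hSq : Q.relIndex (P : Subgroup G) ≤ p ^ n := by
    refine le_trans ?_ (card_le_of_psl h.card (P.2.map π)).1
    rw [← relIndex_ker, ← inf_relIndex_left (P : Subgroup G) π.ker]
    exact relIndex_le_of_le_left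
      ((le_or_le h.E2 π.ker).resolve_left (not_le_sylow_of_psl h.card P π h.surj))
      index_ne_zero_of_finite
  obtain ⟨a, haA, haQ⟩ := SetLike.not_le_iff_exists.mp hAQ
  set CA := Z ⊓ centralizer (A : Set G)
  have hqCA : p ^ n ≤ CA.relIndex Z := hZne a (hAS haA) haQ CA inf_le_left fun x hx =>
    commutatorElement_eq_one_iff_mul_comm.mpr (hx.2 a haA).symm
  have hcount := (relIndex_le_of_maxAbelian hA (inf_le_left : A ⊓ Q ≤ A) (hZQ.trans hQS)
    (hZQ.trans hQZ) (hZC.trans (centralizer_le inf_le_right))).1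
  have h1 : (A ⊓ Q).relIndex A = Q.relIndex (A ⊔ Q) := by
    rw [inf_relIndex_left, relIndex_sup_right]
  have h2 : Q.relIndex (A ⊔ Q) * (A ⊔ Q).relIndex (P : Subgroup G) = Q.relIndex (P : Subgroup G) :=
    relIndex_mul_relIndex _ _ _ le_sup_right (sup_le hAS hQS)
  have h3 : Q.relIndex (A ⊔ Q) ≤ Q.relIndex (P : Subgroup G) :=
    h2 ▸ Nat.le_mul_of_pos_right _ (Nat.pos_of_ne_zero index_ne_zero_of_finite)
  have hrelS : Q.relIndex (P : Subgroup G) = p ^ n :=
    le_antisymm hSq ((hqCA.trans (hcount.trans h1.le)).trans h3)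
  have hcov : (P : Subgroup G) ≤ A ⊔ Q := by
    refine relIndex_eq_one.mp (le_antisymm ?_ (Nat.pos_of_ne_zero index_ne_zero_of_finite))
    refine Nat.le_of_mul_le_mul_left ?_
      (Nat.lt_of_lt_of_le (pow_pos hp.pos n) (hqCA.trans (hcount.trans h1.le)))
    rw [mul_one, h2]
    exact hSq.trans (hqCA.trans (hcount.trans h1.le))
  have hCAeq : CA = Zs := by
    refine le_antisymm (fun z hz => ⟨hQS (hZQ hz.1), fun s hs => ?_⟩)
      (le_inf subset_normalClosure fun z hz x hx => hz.2 x (hAS hx))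
    obtain ⟨b, hb, c, hc, rfl⟩ := mem_sup_of_normal_right.mp (hcov hs)
    exact (Commute.mul_left (hz.2 b hb) (hQZ hc z hz.1).symm).eq
  have hrelZ : Zs.relIndex Z = p ^ n := by
    refine le_antisymm ?_ (hCAeq ▸ hqCA)
    rw [← hCAeq]
    exact (hcount.trans h1.le).trans (h3.trans hSq)
  refine
    { q_pos := Nat.one_lt_pow (by have := h.one_le; omega) hp.one_lt
      Q_le := hQS, S_le := le_top, Z_le := hZQ
      Zs_le := subset_normalClosure
      C_le := ?_
      pS := P.2
      normQ := (normalizer_eq_top_iff.mpr hQn).ge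
      normZ := (normalizer_eq_top_iff.mpr normalClosure_normal).ge
      normO := (normalizer_eq_top_iff.mpr (PReduced.pResidual_normal p G)).ge
      Q_cent := hQZ
      cent_S := hSC
      S_cent := fun s hs z hz => (hz.2 s hs).symm
      powZ := hpow
      P_cent := fun g _ z hz => ((mem_center_iff.mp hz.2) g).symm
      mem_C := fun z hz hc => ⟨hz, mem_center_iff.mpr fun g => (hc g (mem_top g))⟩
      relS := hrelS
      relZ := hrelZ
      fix := ?_
      O_sup := PReduced.pResidual_sup_sylow P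
      O_gen := (closure_le _).2 fun x hx => subset_closure ⟨subset_closure hx, hx⟩
      M_le := le_top, S_le_M := h.max.2
      M_lt := fun h' => h.max.1.1 (top_le_iff.mp h')
      gen := fun g _ hg => hgen g hg
      disp := ?_ }
  · intro z hz
    exact ⟨hQS (hZQ hz.1), fun s _ => mem_center_iff.mp hz.2 s⟩
  · intro u hu huQ z hz hzu
    set C := Z ⊓ center G
    haveI : Z.Normal := normalClosure_normal
    set D := cm Z C (zpowers u)
    have hCn : C.Normal := inferInstance
    have hnormC : ∀ x : G, x ∈ normalizer (C : Set G) := fun x => by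
      rw [normalizer_eq_top]; trivial
    have hZsD : Zs ≤ D := fun x hx => ⟨⟨subset_normalClosure hx, hnormC x⟩, fun t ht => by
      rw [commutatorElement_eq_one_iff_mul_comm.mpr
        ((hx.2 t (zpowers_le.mpr hu ht)).symm)]
      exact one_mem C⟩
    have h4 : p ^ n ≤ D.relIndex Z := by
      refine displacement h.E2 h.card h.one_le π h.surj inferInstance hCn inf_le_left hZQ ?_
        (cm_le _ _ _) hu huQ fun x hx => hx.2 u (mem_zpowers u)
      intro hle
      refine hZO ((closure_le _).2 fun x hx z hz => ?_)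
      have hxO : x ∈ Cfsg.pResidual p G := subset_closure hx
      obtain ⟨k, hk⟩ := hQp ⟨z, hZQ hz⟩
      have h5 : ⁅z, x⁆ ∈ C := hle (commutator_mem_commutator hz hxO)
      have h6 : ⁅x, z⁆ ∈ C := by rw [← commutatorElement_inv]; exact inv_mem h5
      have h7 := mem_of_step (W := (⊥ : Subgroup G)) (p := p) (x := x) (z := z) (k := 1)
        (by rw [normalizer_eq_top]; trivial) (by rw [normalizer_eq_top]; trivial)
        (mem_bot.mpr (commutatorElement_eq_one_iff_mul_comm.mpr (mem_center_iff.mp h6.2 x)))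
        (by rw [pow_one]; exact hpow _ h6.1) hx
      exact (commutatorElement_eq_one_iff_mul_comm.mp (mem_bot.mp h7)).symm
    have hzD : z ∈ D := by
      have := mem_cm_closure (A := {u}) hz (hnormC z) (fun x _ => hnormC x) (fun t ht => ht ▸ hzu)
      rwa [← zpowers_eq_closure] at this
    have h8 : Zs.relIndex D * D.relIndex Z = p ^ n :=
      (relIndex_mul_relIndex _ _ _ hZsD (cm_le _ _ _)).trans hrelZ
    have h9 : Zs.relIndex D = 1 := by
      refine le_antisymm ?_ (Nat.pos_of_ne_zero index_ne_zero_of_finite)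
      refine Nat.le_of_mul_le_mul_right ?_ (Nat.lt_of_lt_of_le (pow_pos hp.pos n) h4)
      rw [h8, one_mul]
      exact h4
    exact relIndex_eq_one.mp h9 hzD
  · intro U W D hWU hUQ hU hW hne hDU u hu huQ hD
    exact displacement h.E2 h.card h.one_le π h.surj (normalizer_eq_top_iff.mp (top_le_iff.mp hU))
      (normalizer_eq_top_iff.mp (top_le_iff.mp hW)) hWU hUQ hne hDU hu huQ hD

/-- The data along an injective map. -/
theorem Loc.mapHom {H : Type*} [Group H] {q : ℕ} {P S Q Z C Zs O M : Subgroup G}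
    (h : Loc p q P S Q Z C Zs O M) (ι : G →* H) (hι : Function.Injective ι) :
    Loc p q (P.map ι) (S.map ι) (Q.map ι) (Z.map ι) (C.map ι) (Zs.map ι) (O.map ι) (M.map ι) := by
  have hn : ∀ {A K : Subgroup G}, A ≤ normalizer (K : Set G) →
      A.map ι ≤ normalizer (K.map ι : Set H) := fun {A K} hAK =>
    (map_mono hAK).trans (le_normalizer_map ι)
  have hc : ∀ {A K : Subgroup G}, A ≤ centralizer (K : Set G) →
      A.map ι ≤ centralizer (K.map ι : Set H) := fun {A K} hAK => by
    rintro _ ⟨x, hx, rfl⟩ _ ⟨y, hy, rfl⟩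
    rw [← map_mul, ← map_mul, hAK hx y hy]
  refine
    { q_pos := h.q_pos
      Q_le := map_mono h.Q_le, S_le := map_mono h.S_le, Z_le := map_mono h.Z_le
      Zs_le := map_mono h.Zs_le, C_le := map_mono h.C_le
      pS := h.pS.map _
      normQ := hn h.normQ, normZ := hn h.normZ, normO := hn h.normO
      Q_cent := hc h.Q_cent
      cent_S := ?_
      S_cent := hc h.S_cent
      powZ := ?_
      P_cent := hc h.P_cent
      mem_C := ?_
      relS := (relIndex_map_map_of_injective _ _ hι).trans h.relS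
      relZ := (relIndex_map_map_of_injective _ _ hι).trans h.relZ
      fix := ?_
      O_sup := by rw [← Subgroup.map_sup, h.O_sup]
      O_gen := ?_
      M_le := map_mono h.M_le, S_le_M := map_mono h.S_le_M
      M_lt := fun h' => h.M_lt ((map_le_map_iff_of_injective hι).mp h')
      gen := ?_
      disp := ?_ }
  · rintro _ ⟨⟨x, hx, rfl⟩, hxc⟩
    refine ⟨x, h.cent_S ⟨hx, fun z hz => hι ?_⟩, rfl⟩
    rw [map_mul, map_mul]
    exact hxc _ ⟨z, hz, rfl⟩
  · rintro _ ⟨z, hz, rfl⟩
    rw [← map_pow, h.powZ z hz, map_one]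
  · rintro _ ⟨z, hz, rfl⟩ hzc
    refine ⟨z, h.mem_C z hz fun y hy => hι ?_, rfl⟩
    rw [map_mul, map_mul]
    exact hzc _ ⟨y, hy, rfl⟩
  · rintro _ ⟨u, hu, rfl⟩ huQ _ ⟨z, hz, rfl⟩ hzu
    refine ⟨z, h.fix u hu (fun hq => huQ ⟨u, hq, rfl⟩) z hz ?_, rfl⟩
    rw [← map_commutatorElement] at hzu
    obtain ⟨y, hy, he⟩ := hzu
    rwa [hι he] at hy
  · refine (map_mono h.O_gen).trans ?_
    rw [MonoidHom.map_closure]
    refine closure_mono ?_
    rintro _ ⟨x, ⟨hx, hxo⟩, rfl⟩
    refine ⟨⟨x, hx, rfl⟩, ?_⟩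
    show (orderOf (ι x)).Coprime p
    rwa [orderOf_injective ι hι]
  · rintro _ ⟨g, hg, rfl⟩ hgM
    have e : cj (ι g) (S.map ι) = (cj g S).map ι := by
      rw [cj, cj, map_map, map_map]
      congr 1
      ext x
      simp
    rw [e, ← Subgroup.map_sup, h.gen g hg fun hm => hgM ⟨g, hm, rfl⟩]
  · intro U W D hWU hUQ hU hW hne hDU u hu huQ hD
    obtain ⟨u', hu', rfl⟩ := hu
    have hUr : U ≤ ι.range := hUQ.trans (map_le_range ι Q)
    have hback : ∀ K ≤ U, (K.comap ι).map ι = K := fun K hK => map_comap_eq_self (hK.trans hUr)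
    have hnorm : ∀ {K : Subgroup H}, P.map ι ≤ normalizer (K : Set H) →
        P ≤ normalizer (K.comap ι : Set G) := fun {K} hK x hx => by
      rw [mem_normalizer_iff]
      intro y
      simp only [mem_comap, map_mul, map_inv]
      exact mem_normalizer_iff.mp (hK ⟨x, hx, rfl⟩) (ι y)
    rw [← hback U le_rfl, ← hback D hDU, relIndex_map_map_of_injective _ _ hι]
    refine h.disp _ (W.comap ι) _ (comap_mono hWU) ?_ (hnorm hU) (hnorm hW) ?_ (comap_mono hDU)
      u' hu' (fun hq => huQ ⟨u', hq, rfl⟩) fun x hx => ?_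
    · intro x hx
      obtain ⟨y, hy, he⟩ := hUQ hx
      rwa [← hι he]
    · intro h'
      refine hne ?_
      have := map_mono (f := ι) h'
      rw [map_commutator, hback U le_rfl] at this
      exact this.trans (map_comap_le ι W)
    · show ι ⁅x, u'⁆ ∈ W
      rw [map_commutatorElement]
      exact hD _ hx

end Cfsg.Agent.PushUp
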