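/-
Pushing up over `PSL₂(q)`: critical paths of length at most two.

Main definitions and results (namespace `Cfsg.Agent.PushUp`):
* `Line`               : a sequence all of whose windows of length `b` are critical
* `CaseOne`, `CaseTwo` : the two configurations at the base group
* `Setup.cases`        : one of the configurations occurs, and `S` acts quadratically on `Z`
-/
import Cfsg.Agent.Lib.PushUp.Graph

set_option autoImplicit false

namespace Cfsg.Agent.PushUp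

open Subgroup
open scoped commutatorElement

variable {G : Type*} [Group G] {p q : ℕ} {Y : Sys G}

/-- A conjugate of `Z` leaves `Q`. -/
def CaseOne (Y : Sys G) : Prop := ∃ n ∈ Y.N, ¬ cj n Y.Z ≤ Y.Q

/-- The configuration at distance two, seen from the middle. -/
def CaseTwo (p q : ℕ) (Y : Sys G) : Prop :=
  ∃ X D U Z₀ : Subgroup G,
    (Y.P ≤ normalizer (X : Set G) ∧ Y.Z ≤ X ∧ X ≤ Y.Q ∧ ⁅X, Y.Q⁆ ≤ Y.C ∧ ¬ ⁅X, Y.O⁆ ≤ Y.Z) ∧
    (D ≤ Y.S ∧ Y.S ≤ normalizer (D : Set G) ∧ (Y.Q ⊓ D).relIndex Y.Q ≤ q ∧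
      Y.Q ≤ X ⊔ (Y.Q ⊓ D) ∧ ⁅X, Y.S⁆ ≤ X ⊓ D ∧ ⁅X ⊓ D, Y.S⁆ ≤ Y.Zs) ∧
    (U ≤ D ∧ U ≤ centralizer (U : Set G) ∧ (∀ u ∈ U, u ^ p = 1) ∧ Y.S ≤ U ⊔ Y.Q ∧
      ⁅D, U⁆ ≤ Y.Zs) ∧
    (Z₀ ≤ X ∧ (∀ x ∈ Z₀, x ^ p = 1) ∧
      ∃ x ∈ Z₀, ∃ u ∈ U, ∀ v ∈ U, v ∉ Y.Q → ⁅⁅x, u⁆, v⁆ ∉ Y.C) ∧
    ((∀ u ∈ U, u ∉ Y.Q → ∃ x ∈ Z₀, ⁅⁅x, u⁆, u⁆ ∉ Y.C) ∧
      ⁅D, U⁆ ≤ ⁅Y.Z, Y.S⁆ ∧
      ∃ Y' ≤ Y.Q, D ≤ centralizer (Y' : Set G) ∧ q ≤ Nat.card ↥⁅Y', Z₀⁆)

/-- A sequence all of whose windows are critical, turning in generating edges. -/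
structure Line (b : ℕ) (Y : Sys G) (w f : ℕ → G) : Prop where
  inc_left : ∀ i, Y.Inc (f i) (w i)
  inc_right : ∀ i, Y.Inc (f i) (w (i + 1))
  far : ∀ i, ¬ Y.Zv (w i) ≤ Y.Qv (w (i + b))
  gen : ∀ i, Y.Se (f i) ⊔ Y.Se (f (i + 1)) = Y.Pv (w (i + 1))
  turn : ∀ i, ∃ k ∈ Y.Pv (w (i + 1)),
    Y.Zv (w (i + 2)) = cj k (Y.Zv (w i)) ∧ Y.Se (f (i + 1)) = cj k (Y.Se (f i))

theorem inc_of_mul {e x n : G} (hn : n ∈ Y.N) (h : Y.Inc (e * n) x) : Y.Inc e x := by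
  obtain ⟨m, hm, h⟩ := h
  exact ⟨n * m, mul_mem hn hm, by rwa [← mul_assoc]⟩

theorem exists_move {e e' x y : G} (h : Y.Inc e x) (h' : Y.Inc e' x) (hy : Y.Inc e y) :
    ∃ k ∈ Y.Pv x, Y.Inc e' (k * y) := by
  obtain ⟨n, hn, h⟩ := h
  obtain ⟨n', hn', h'⟩ := h'
  refine ⟨e' * n' * (e * n)⁻¹, mem_Pv.mpr ?_, inc_of_mul (mul_mem hn' (inv_mem hn)) ?_⟩
  · rw [show x⁻¹ * (e' * n' * (e * n)⁻¹) * x = ((e' * n')⁻¹ * x)⁻¹ * ((e * n)⁻¹ * x) by group]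
    exact mul_mem (inv_mem h') h
  · have := inc_mul_left hy (e' * n' * (e * n)⁻¹)
    rwa [show e' * n' * (e * n)⁻¹ * e = e' * (n' * n⁻¹) by group] at this

theorem Sys.Crit.first_edge (hS : Setup p q Y) {b : ℕ} (hb : Y.Below b) (hb2 : 2 ≤ b) {v e : ℕ → G}
    (hc : Y.Crit b v e) :
    ¬ Y.Pv (v 1) ≤ normalizer ((Y.Zv (v 0) ⊔ Y.Zv (v 1) : Subgroup G) : Set G) := by
  intro hn
  obtain ⟨hp, hfar⟩ := hc
  obtain ⟨k, hk, hki⟩ := exists_move (hp 0 (by omega)).2 (hp 1 (by omega)).1 (hp 0 (by omega)).1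
  refine hfar ?_
  have h1 : cj k (Y.Zv (v 0) ⊔ Y.Zv (v 1)) = Y.Zv (v 0) ⊔ Y.Zv (v 1) := cj_eq_self (hn hk)
  obtain ⟨_, L⟩ := hS.flag (hp 0 (by omega)).2
  rw [cj_sup, ← Zv_mul, cj_eq_self (L.normZ hk)] at h1
  refine ((le_sup_left).trans h1.ge).trans (sup_le (hb.le_Qv
    (near_trans (near_adj hki (hp 1 (by omega)).2) (hp.near hb2 le_rfl)) (by omega))
    (hb.le_Qv (hp.near (by omega) le_rfl) (by omega)))

theorem exists_good (hS : Setup p q Y) {b : ℕ} (hb : Y.Below b) (hb2 : 2 ≤ b) {e x : G}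
    (h : Y.Inc e x) : ∃ δ, Y.Inc e δ ∧
      ¬ Y.Pv x ≤ normalizer ((Y.Zv δ ⊔ Y.Zv x : Subgroup G) : Set G) := by
  by_contra hno
  push Not at hno
  obtain ⟨n, hn, hx⟩ := h
  set c := e * n
  set T := (⨆ m : ↥Y.N, cj (m : G) Y.Z) ⊔ Y.Z
  have hTS : T ≤ Y.Q := sup_le (iSup_le fun m => by
    have := hb.le_Qv (x := (m : G)) (y := 1)
      (near_symm (near_adj inc_one (inc_one_of_mem m.2))) (show 1 < b by omega)
    rwa [show Y.Qv 1 = Y.Q from cj_one _] at this) hS.loc.Z_le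
  refine hS.hd T (hTS.trans hS.loc.Q_le) (fun hbot => hS.ne_bot (le_bot_iff.1 (hbot ▸ le_sup_right)))
    (fun g hg => ?_) (fun g hg => ?_)
  · have key : ∀ g ∈ Y.P, cj g T ≤ T := fun g hg => by
      rw [show T = (⨆ m : ↥Y.N, cj (m : G) Y.Z) ⊔ Y.Z from rfl, cj_sup,
        cj_eq_self (hS.loc.normZ hg)]
      refine sup_le ?_ le_sup_right
      rw [cj, Subgroup.map_iSup]
      refine iSup_le fun m => ?_
      have hδ : Y.Inc e (c * m) := ⟨n * m, mul_mem hn m.2, by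
        rw [show (e * (n * m))⁻¹ * (c * m) = 1 by simp only [c]; group]; exact one_mem _⟩
      have hg' : c * g * c⁻¹ ∈ Y.Pv x := by
        rw [(hS.eqv hx).1]; exact conj_mem_cj hg
      have h2 := cj_eq_self (hno _ hδ hg')
      rw [(hS.eqv hx).2.2.1] at h2
      change cj (c * g * c⁻¹) (cj (c * m) Y.Z ⊔ cj c Y.Z) = cj (c * m) Y.Z ⊔ cj c Y.Z at h2
      rw [show cj (c * (m : G)) Y.Z ⊔ cj c Y.Z = cj c (cj (m : G) Y.Z ⊔ Y.Z) by
        rw [cj_sup, cj_cj], cj_cj, inv_mul_cancel_right, ← cj_cj] at h2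
      have h3 : cj g (cj (m : G) Y.Z ⊔ Y.Z) ≤ cj (m : G) Y.Z ⊔ Y.Z := le_of_cj_le h2.le
      refine (cj_mono le_sup_left).trans (h3.trans ?_)
      exact sup_le_sup_right (le_iSup (fun m : ↥Y.N => cj (m : G) Y.Z) m) _
    exact mem_normalizer_of_cj_eq (le_antisymm (key g hg) fun x hx => mem_cj.mpr (by
      have := key g⁻¹ (inv_mem hg) (conj_mem_cj (g := g⁻¹) hx)
      rwa [inv_inv] at this))
  · have key : ∀ g ∈ Y.N, cj g T ≤ T := fun g hg => by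
      rw [show T = (⨆ m : ↥Y.N, cj (m : G) Y.Z) ⊔ Y.Z from rfl, cj_sup]
      refine sup_le ?_ (le_sup_of_le_left (le_iSup (fun m : ↥Y.N => cj (m : G) Y.Z) ⟨g, hg⟩))
      rw [cj, Subgroup.map_iSup]
      refine iSup_le fun m => le_sup_of_le_left ?_
      show cj g (cj (m : G) Y.Z) ≤ _
      rw [cj_cj]
      exact le_iSup (fun m : ↥Y.N => cj (m : G) Y.Z) ⟨g * m, mul_mem hg m.2⟩
    exact mem_normalizer_of_cj_eq (le_antisymm (key g hg) fun x hx => mem_cj.mpr (by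
      have := key g⁻¹ (inv_mem hg) (conj_mem_cj (g := g⁻¹) hx)
      rwa [inv_inv] at this))

theorem Sys.Crit.reverse [Finite G] (hS : Setup p q Y) {b : ℕ} (hb : Y.Below b) (hb1 : 1 ≤ b)
    {v e : ℕ → G} (hc : Y.Crit b v e) :
    Y.Crit b (fun i => v (b - i)) (fun i => e (b - 1 - i)) := by
  refine ⟨fun i hi => ?_, by simpa using (hc.facts hS hb hb1).2.2.1⟩
  have := hc.1 (b - 1 - i) (by omega)
  rw [show b - 1 - i + 1 = b - i by omega] at this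
  show Y.Inc (e (b - 1 - i)) (v (b - i)) ∧ Y.Inc (e (b - 1 - i)) (v (b - (i + 1)))
  rw [show b - (i + 1) = b - 1 - i by omega]
  exact ⟨this.2, this.1⟩

theorem Sys.Crit.last_edge [Finite G] [Fact p.Prime] (hS : Setup p q Y) (hquad : Y.Quad) {b : ℕ}
    (hb : Y.Below b) (hb2 : 2 ≤ b) {v e : ℕ → G} (hc : Y.Crit b v e) :
    ¬ Y.Pv (v b) ≤ normalizer ((Y.Zv (v (b - 1)) ⊔ Y.Zv (v b) : Subgroup G) : Set G) := by
  have key : ∀ j ≤ b - 1, ∃ w f : ℕ → G, Y.Crit b w f ∧ ∀ i, i + j ≤ b → w i = v (i + j) := by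
    intro j hj
    induction j with
    | zero => exact ⟨v, e, hc, fun i _ => rfl⟩
    | succ j ih =>
      obtain ⟨w, f, hw, heq⟩ := ih (by omega)
      have hinc := (hw.1 (b - 1) (by omega)).2
      rw [Nat.sub_add_cancel (by omega : 1 ≤ b)] at hinc
      obtain ⟨δ, hδ, hgood⟩ := exists_good hS hb hb2 hinc
      obtain ⟨k, -, -, hk⟩ := hw.shift hS hquad hb hb2 hδ hgood
      refine ⟨_, _, hk, fun i hi => ?_⟩
      show (if i < b then w (i + 1) else k * δ) = _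
      rw [if_pos (by omega), heq (i + 1) (by omega)]
      congr 1
      omega
  obtain ⟨w, f, hw, heq⟩ := key (b - 1) le_rfl
  have h := hw.first_edge hS hb hb2
  rwa [heq 0 (by omega), heq 1 (by omega), Nat.zero_add, Nat.add_sub_cancel' (by omega : 1 ≤ b)] at h

/-- Critical paths of length at least two extend to a line. -/
theorem exists_line [Finite G] [Fact p.Prime] (hS : Setup p q Y) (hquad : Y.Quad) {b : ℕ}
    (hb : Y.Below b) (hb2 : 2 ≤ b) {v e : ℕ → G} (hc : Y.Crit b v e) :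
    ∃ w f : ℕ → G, Line b Y w f := by
  classical
  have hstep : ∀ c : {ve : (ℕ → G) × (ℕ → G) // Y.Crit b ve.1 ve.2},
      ∃ c' : {ve : (ℕ → G) × (ℕ → G) // Y.Crit b ve.1 ve.2},
        (∀ i < b, c'.1.1 i = c.1.1 (i + 1)) ∧ (∀ i, i + 1 < b → c'.1.2 i = c.1.2 (i + 1)) ∧
        ∃ k ∈ Y.Pv (c.1.1 b),
          Y.Se (c.1.2 (b - 1)) ⊔ cj k (Y.Se (c.1.2 (b - 1))) = Y.Pv (c.1.1 b) ∧
          c'.1.1 b = k * c.1.1 (b - 1) ∧ c'.1.2 (b - 1) = k * c.1.2 (b - 1) := by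
    rintro ⟨⟨w, f⟩, hw⟩
    have hinc := hw.1 (b - 1) (by omega)
    obtain ⟨k, hk, hgen, hnew⟩ := hw.shift hS hquad hb hb2 (δ := w (b - 1)) hinc.1
      (hw.last_edge hS hquad hb hb2)
    refine ⟨⟨(_, _), hnew⟩, fun i hi => ?_, fun i hi => ?_, k, hk, hgen, ?_, ?_⟩
    · exact if_pos hi
    · exact if_pos hi
    · exact if_neg (lt_irrefl b)
    · exact if_neg (by omega)
  choose nx hnv hne k hk hgen hkv hke using hstep
  let st : ℕ → {ve : (ℕ → G) × (ℕ → G) // Y.Crit b ve.1 ve.2} :=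
    fun i => nx^[i] ⟨(v, e), hc⟩
  have hst : ∀ i, st (i + 1) = nx (st i) := fun i => Function.iterate_succ_apply' nx i _
  have hV : ∀ j ≤ b, ∀ i, (st (i + j)).1.1 0 = (st i).1.1 j := by
    intro j hj
    induction j with
    | zero => exact fun i => rfl
    | succ j ih =>
      intro i
      rw [show i + (j + 1) = i + 1 + j by omega, ih (by omega), hst, hnv _ j (by omega)]
  have hE : ∀ j < b, ∀ i, (st (i + j)).1.2 0 = (st i).1.2 j := by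
    intro j hj
    induction j with
    | zero => exact fun i => rfl
    | succ j ih =>
      intro i
      rw [show i + (j + 1) = i + 1 + j by omega, ih (by omega), hst, hne _ j (by omega)]
  refine ⟨fun m => (st (m + (b - 1))).1.1 0, fun m => (st (m + (b - 1))).1.2 0, ?_, ?_, ?_, ?_, ?_⟩
  all_goals intro i
  · exact ((st (i + (b - 1))).2.1 0 (by omega)).1
  · rw [show i + 1 + (b - 1) = i + (b - 1) + 1 by omega, hV 1 (by omega)]
    exact ((st (i + (b - 1))).2.1 0 (by omega)).2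
  · rw [show i + b + (b - 1) = i + (b - 1) + b by omega, hV b le_rfl]
    exact (st (i + (b - 1))).2.2
  · rw [show i + 1 + (b - 1) = i + b by omega, hV b le_rfl, hE (b - 1) (by omega),
      show i + b = i + 1 + (b - 1) by omega, hE (b - 1) (by omega), hst, hke, Se_mul]
    exact hgen (st i)
  · refine ⟨k (st i), ?_, ?_, ?_⟩
    · rw [show i + 1 + (b - 1) = i + b by omega, hV b le_rfl]
      exact hk (st i)
    · rw [show i + 2 + (b - 1) = i + 1 + b by omega, hV b le_rfl, hst, hkv, Zv_mul,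
        hV (b - 1) (by omega)]
    · rw [show i + 1 + (b - 1) = i + 1 + (b - 1) from rfl, hE (b - 1) (by omega), hst, hke, Se_mul,
        hE (b - 1) (by omega)]

theorem Loc.comm_not_le [Finite G] {P S Q Z C Zs O M : Subgroup G}
    (h : Loc p q P S Q Z C Zs O M) : ¬ ⁅Z, S⁆ ≤ C := by
  intro hle
  obtain ⟨u, hu, huQ⟩ := SetLike.not_le_iff_exists.mp fun h' : S ≤ Q => by
    have := h.relS
    rw [relIndex_eq_one.mpr h'] at this
    exact h.q_pos.ne this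
  have hz : Z ≤ Zs := fun z hz => h.fix u hu huQ z hz (hle (commutator_mem_commutator hz hu))
  have := h.relZ
  rw [relIndex_eq_one.mpr hz] at this
  exact h.q_pos.ne this

namespace Line

variable [Finite G] {b : ℕ} {w f : ℕ → G}

omit [Finite G] in
theorem path (h : Line b Y w f) (i : ℕ) :
    Y.Crit b (fun j => w (i + j)) (fun j => f (i + j)) :=
  ⟨fun j _ => ⟨h.inc_left _, h.inc_right _⟩, h.far i⟩

theorem facts (hS : Setup p q Y) (hb : Y.Below b) (hb1 : 1 ≤ b) (h : Line b Y w f) (i : ℕ) :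
    Y.Se (f i) ≤ Y.Zv (w (i + b)) ⊔ Y.Qv (w i) ∧
    Y.Zv (w i) ⊓ centralizer (Y.Zv (w (i + b)) : Set G) = Y.Zse (f i) ∧
    ⁅Y.Zv (w i), Y.Se (f i)⁆ = ⁅Y.Zv (w (i + b)), Y.Se (f (i + (b - 1)))⁆ ∧
    ⁅Y.Zv (w i), Y.Se (f i)⁆ ≤ Y.Zse (f i) ∧
    ⁅Y.Zv (w i), Y.Se (f i)⁆ ≤ Y.Zse (f (i + (b - 1))) ∧
    Y.Se (f (i + (b - 1))) ≤ Y.Zv (w i) ⊔ Y.Qv (w (i + b)) ∧
    Y.Zv (w (i + b)) ≤ Y.Se (f i) := by
  obtain ⟨h1, -, -, h4, -, h6, h7⟩ := (h.path i).facts hS hb hb1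
  obtain ⟨-, -, -, g4, g5, g6, g7⟩ := ((h.path i).reverse hS hb hb1).facts hS hb hb1
  simp only [Nat.sub_self, Nat.add_zero, Nat.sub_zero] at h1 h4 h6 h7 g4 g5 g6 g7
  refine ⟨g4, g5, g6.trans ((commutator_comm _ _).trans h6.symm), g7, ?_, h4, h1⟩
  rw [g6.trans ((commutator_comm _ _).trans h6.symm)]
  exact h7

theorem le_center (hS : Setup p q Y) (hb : Y.Below b) (hb2 : 2 ≤ b) (h : Line b Y w f) (i : ℕ) :
    ⁅Y.Zv (w i), Y.Se (f i)⁆ ≤ Y.Cv (w (i + 1)) := by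
  intro r hr
  obtain ⟨-, -, -, h4, h5, -, -⟩ := h.facts hS hb (by omega) i
  obtain ⟨g1, -, -, -, -, -, -⟩ := h.facts hS hb (by omega) (i + 1)
  obtain ⟨_, L⟩ := hS.flag (h.inc_right i)
  obtain ⟨_, Lb⟩ := hS.flag (h.inc_left (i + b))
  obtain ⟨_, L'⟩ := hS.flag (h.inc_left (i + 1))
  have hnear : Y.near (b - 1) (w (i + b)) (w (i + 1)) := by
    have := (h.path (i + 1)).1.near (Nat.zero_le (b - 1)) (Nat.sub_le b 1)
    rw [Nat.sub_zero, show i + 1 + (b - 1) = i + b by omega] at this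
    exact near_symm this
  have hnear1 : Y.near 1 (w (i + 1 + b)) (w (i + b)) := by
    have h2 := h.inc_right (i + b)
    rw [show i + b + 1 = i + 1 + b by omega] at h2
    exact near_adj h2 (h.inc_left (i + b))
  obtain ⟨_, Lp⟩ := hS.flag (h.inc_right (i + (b - 1)))
  rw [show i + (b - 1) + 1 = i + b by omega] at Lp
  have hrb : r ∈ Y.Zv (w (i + b)) := Lp.Zs_le (h5 hr)
  have hn1 : Y.Zv (w (i + 1 + b)) ≤ normalizer (Y.Qv (w (i + 1)) : Set G) :=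
    ((h.facts hS hb (by omega) (i + 1)).2.2.2.2.2.2.trans L'.S_le).trans L'.normQ
  refine L.inf_le (h.gen i) (h4 hr) fun s hs => ?_
  obtain ⟨t, ht, a, ha, rfl⟩ := exists_mul_of_mem_sup_normalizer hn1 (g1 hs)
  have htQ : t ∈ Y.Qv (w (i + b)) := hb.le_Qv hnear1 (by omega) ht
  have hat : Commute t r := (Lb.Q_cent htQ r hrb).symm
  exact Commute.mul_left hat (L.Q_cent ha r (L.Zs_le (h4 hr))).symm

theorem le_center' (hS : Setup p q Y) (hb : Y.Below b) (hb2 : 2 ≤ b) (h : Line b Y w f) (i : ℕ) :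
    ⁅Y.Zv (w (i + 1)), Y.Se (f (i + 1))⁆ ≤ Y.Cv (w (i + b)) := by
  intro r hr
  obtain ⟨-, -, -, h4, h5, -, -⟩ := h.facts hS hb (by omega) (i + 1)
  obtain ⟨-, -, -, -, -, g6, -⟩ := h.facts hS hb (by omega) i
  rw [show i + 1 + (b - 1) = i + b by omega] at h5
  obtain ⟨_, L⟩ := hS.flag (h.inc_right (i + (b - 1)))
  rw [show i + (b - 1) + 1 = i + b by omega] at L
  obtain ⟨_, L'⟩ := hS.flag (h.inc_left (i + b))
  obtain ⟨_, L1⟩ := hS.flag (h.inc_left (i + 1))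
  have hgen := h.gen (i + (b - 1))
  rw [show i + (b - 1) + 1 = i + b by omega] at hgen
  refine L'.inf_le ((sup_comm _ _).trans hgen) (h5 hr) fun s hs => ?_
  have hcrit := (h.path i).facts hS hb (by omega)
  obtain ⟨t, ht, a, ha, rfl⟩ := exists_mul_of_mem_sup_normalizer
    (((by simpa using hcrit.2.1 : Y.Zv (w i) ≤ Y.Se (f (i + (b - 1))))).trans (L.S_le.trans L.normQ))
    (g6 hs)
  refine (?_ : Commute (t * a) r).eq
  refine Commute.mul_left ?_ ((L.Q_cent ha r (L'.Zs_le (h5 hr))).symm)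
  have htQ : t ∈ Y.Qv (w (i + 1)) :=
    hb.le_Qv (near_adj (h.inc_left i) (h.inc_right i)) (show 1 < b by omega) ht
  exact (L1.Q_cent htQ r (L1.Zs_le (h4 hr))).symm

theorem turn_comm (hS : Setup p q Y) (hb : Y.Below b) (hb2 : 2 ≤ b) (h : Line b Y w f) (i : ℕ) :
    ⁅Y.Zv (w (i + 2)), Y.Se (f (i + 1))⁆ = ⁅Y.Zv (w i), Y.Se (f i)⁆ := by
  obtain ⟨k, hk, h1, h2⟩ := h.turn i
  rw [h1, h2, ← cj_commutator]
  refine cj_eq_self (centralizer_le_normalizer _ ?_)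
  obtain ⟨_, L⟩ := hS.flag (h.inc_right i)
  intro r hr
  exact (L.P_cent hk r (h.le_center hS hb hb2 i hr))

theorem b_le_two (hS : Setup p q Y) (hb : Y.Below b) (h : Line b Y w f) : b ≤ 2 := by
  by_contra hb3
  have hb2 : 2 ≤ b := by omega
  obtain ⟨_, L3⟩ := hS.flag (h.inc_right 2)
  refine L3.comm_not_le fun r hr => ?_
  rw [show (2 : ℕ) + 1 = 1 + 2 by rfl, h.turn_comm hS hb hb2 1] at hr
  have hr2 : r ∈ Y.Cv (w 2) := h.le_center hS hb hb2 1 hr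
  have hrb : r ∈ Y.Cv (w b) := by simpa using h.le_center' hS hb hb2 0 hr
  obtain ⟨_, L2⟩ := hS.flag (h.inc_left 2)
  obtain ⟨_, Lb⟩ := hS.flag (h.inc_left b)
  obtain ⟨g1, -, -, -, -, -, -⟩ := h.facts hS hb (by omega) 3
  have hr3 : r ∈ Y.Zse (f 2) := L2.C_le hr2
  obtain ⟨_, L3'⟩ := hS.flag (h.inc_left 3)
  refine L3.inf_le (h.gen 2) hr3 fun s hs => ?_
  have hn : Y.Zv (w (3 + b)) ≤ Y.Pv (w b) := by
    have h1 : Y.near 2 (w (3 + b)) (w (b + 1)) := by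
      have h2 := near_trans (near_adj (h.inc_right (b + 2)) (h.inc_left (b + 2)))
        (near_adj (h.inc_right (b + 1)) (h.inc_left (b + 1)))
      simpa [Nat.add_comm 3 b, Nat.add_assoc] using h2
    obtain ⟨_, La⟩ := hS.flag (h.inc_right b)
    exact ((hb.le_Qv h1 (by omega)).trans La.Q_le).trans Lb.S_le
  have hn3 : Y.Zv (w (3 + b)) ≤ normalizer (Y.Qv (w 3) : Set G) :=
    ((h.facts hS hb (by omega) 3).2.2.2.2.2.2.trans L3'.S_le).trans L3'.normQ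
  obtain ⟨t, ht, a, ha, rfl⟩ := exists_mul_of_mem_sup_normalizer hn3 (g1 hs)
  refine (?_ : Commute (t * a) r).eq
  exact Commute.mul_left (Lb.P_cent (hn ht) r hrb).symm ((L3.Q_cent ha r (L3.Zs_le hr3)).symm)

end Line

end Cfsg.Agent.PushUp
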