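/-
Pushing up over `PSL₂(q)`: the configuration at distance two, seen from the middle vertex.

Main results (namespace `Cfsg.Agent.PushUp`):
* `Line.middle`  : the data at a middle vertex of a line with `b = 2`
* `Setup.cases`  : one of the two configurations occurs, and `S` acts quadratically on `Z`
-/
import Cfsg.Agent.Lib.PushUp.Critical

set_option autoImplicit false

namespace Cfsg.Agent.PushUp

open Subgroup
open scoped commutatorElement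

variable {G : Type*} [Group G] [Finite G] {p q : ℕ} [Fact p.Prime] {Y : Sys G} {w f : ℕ → G}

theorem conj_sSup_normalizer {P : Subgroup G} {x δ : G} (hP : P ≤ Y.Pv x)
    (hZ : P ≤ normalizer (Y.Zv x : Set G)) :
    P ≤ normalizer (((⨆ k : ↥P, Y.Zv ((k : G) * δ)) ⊔ Y.Zv x : Subgroup G) : Set G) := fun g hg => by
  have key : ∀ g ∈ P, cj g ((⨆ k : ↥P, Y.Zv ((k : G) * δ)) ⊔ Y.Zv x) ≤
      (⨆ k : ↥P, Y.Zv ((k : G) * δ)) ⊔ Y.Zv x := fun g hg => by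
    rw [cj_sup, cj_eq_self (hZ hg)]
    refine sup_le ?_ le_sup_right
    rw [cj, Subgroup.map_iSup]
    exact iSup_le fun k => le_sup_of_le_left (le_iSup_of_le (⟨g * k, mul_mem hg k.2⟩ : ↥P)
      (by show cj g _ ≤ _; rw [← Zv_mul, mul_assoc]))
  exact mem_normalizer_of_cj_eq (le_antisymm (key g hg) fun x hx => mem_cj.mpr (by
    have := key g⁻¹ (inv_mem hg) (conj_mem_cj (g := g⁻¹) hx)
    rwa [inv_inv] at this))

theorem Line.middle (hS : Setup p q Y) (hquad : Y.Quad) (hb : Y.Below 2) (h : Line 2 Y w f) :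
    ∃ X D U Z₀ : Subgroup G,
    (Y.Pv (w 1) ≤ normalizer (X : Set G) ∧ Y.Zv (w 1) ≤ X ∧ X ≤ Y.Qv (w 1) ∧
      ⁅X, Y.Qv (w 1)⁆ ≤ Y.Cv (w 1) ∧ ¬ ⁅X, Y.Ov (w 1)⁆ ≤ Y.Zv (w 1)) ∧
    (D ≤ Y.Se (f 1) ∧ Y.Se (f 1) ≤ normalizer (D : Set G) ∧
      (Y.Qv (w 1) ⊓ D).relIndex (Y.Qv (w 1)) ≤ q ∧
      Y.Qv (w 1) ≤ X ⊔ (Y.Qv (w 1) ⊓ D) ∧ ⁅X, Y.Se (f 1)⁆ ≤ X ⊓ D ∧
      ⁅X ⊓ D, Y.Se (f 1)⁆ ≤ Y.Zse (f 1)) ∧
    (U ≤ D ∧ U ≤ centralizer (U : Set G) ∧ (∀ u ∈ U, u ^ p = 1) ∧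
      Y.Se (f 1) ≤ U ⊔ Y.Qv (w 1) ∧ ⁅D, U⁆ ≤ Y.Zse (f 1)) ∧
    (Z₀ ≤ X ∧ (∀ x ∈ Z₀, x ^ p = 1) ∧
      ∃ x ∈ Z₀, ∃ u ∈ U, ∀ v ∈ U, v ∉ Y.Qv (w 1) → ⁅⁅x, u⁆, v⁆ ∉ Y.Cv (w 1)) ∧
    ((∀ u ∈ U, u ∉ Y.Qv (w 1) → ∃ x ∈ Z₀, ⁅⁅x, u⁆, u⁆ ∉ Y.Cv (w 1)) ∧
      ⁅D, U⁆ ≤ ⁅Y.Zv (w 1), Y.Se (f 1)⁆ ∧
      ∃ Y' ≤ Y.Qv (w 1), D ≤ centralizer (Y' : Set G) ∧ q ≤ Nat.card ↥⁅Y', Z₀⁆) := by
  obtain ⟨_, L0'⟩ := hS.flag (h.inc_left 0)
  obtain ⟨_, L01⟩ := hS.flag (h.inc_right 0)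
  obtain ⟨_, L1⟩ := hS.flag (h.inc_left 1)
  obtain ⟨_, L12⟩ := hS.flag (h.inc_right 1)
  obtain ⟨_, L2⟩ := hS.flag (h.inc_left 2)
  obtain ⟨_, L3⟩ := hS.flag (h.inc_right 2)
  simp only [show (0 : ℕ) + 1 = 1 from rfl, show (1 : ℕ) + 1 = 2 from rfl,
    show (2 : ℕ) + 1 = 3 from rfl] at L01 L12 L3
  obtain ⟨-, -, hcomm0, hR0s, -, hS1Z0, -⟩ := h.facts hS hb (by omega) 0
  obtain ⟨hS1Z3, hfix3, -, hR1s, -, -, hZ3S⟩ := h.facts hS hb (by omega) 1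
  simp only [show (0 : ℕ) + 2 = 2 from rfl, show (1 : ℕ) + 2 = 3 from rfl,
    show (0 : ℕ) + (2 - 1) = 1 from rfl] at hcomm0 hS1Z0 hS1Z3 hfix3 hZ3S
  have hR0C : ⁅Y.Zv (w 0), Y.Se (f 0)⁆ ≤ Y.Cv (w 1) := h.le_center hS hb le_rfl 0
  have hR1C : ⁅Y.Zv (w 1), Y.Se (f 1)⁆ ≤ Y.Cv (w 2) := h.le_center hS hb le_rfl 1
  have hturn1 : ⁅Y.Zv (w 3), Y.Se (f 2)⁆ = ⁅Y.Zv (w 1), Y.Se (f 1)⁆ := h.turn_comm hS hb le_rfl 1
  have hn10 : Y.near 1 (w 1) (w 0) := near_adj (h.inc_right 0) (h.inc_left 0)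
  have hn12 : Y.near 1 (w 1) (w 2) := near_adj (h.inc_left 1) (h.inc_right 1)
  have hn32 : Y.near 1 (w 3) (w 2) := near_adj (h.inc_right 2) (h.inc_left 2)
  have hZ0Q1 : Y.Zv (w 0) ≤ Y.Qv (w 1) := hb.le_Qv (near_symm hn10) (by omega)
  have hZ2Q1 : Y.Zv (w 2) ≤ Y.Qv (w 1) := hb.le_Qv (near_symm hn12) (by omega)
  have hZ1Q2 : Y.Zv (w 1) ≤ Y.Qv (w 2) := hb.le_Qv hn12 (by omega)
  have hZ3Q2 : Y.Zv (w 3) ≤ Y.Qv (w 2) := hb.le_Qv hn32 (by omega)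
  have hZ0S : Y.Zv (w 0) ≤ Y.Se (f 1) := hZ0Q1.trans L1.Q_le
  have hSN2 : Y.Se (f 1) ≤ normalizer (Y.Qv (w 2) : Set G) := L12.S_le.trans L12.normQ
  have hSN1 : Y.Se (f 1) ≤ normalizer (Y.Qv (w 1) : Set G) := L1.S_le.trans L1.normQ
  set P1 := Y.Pv (w 1)
  set X := (⨆ k : ↥P1, Y.Zv ((k : G) * w 2)) ⊔ Y.Zv (w 1) with hXdef
  have hincX : ∀ k ∈ P1, Y.Inc (k * f 1) (w 1) ∧ Y.Inc (k * f 1) (k * w 2) := fun k hk =>
    ⟨inc_mul_vertex (h.inc_left 1) hk, inc_mul_left (h.inc_right 1) k⟩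
  have hZ1X : Y.Zv (w 1) ≤ X := le_sup_right
  have hXn : P1 ≤ normalizer (X : Set G) := conj_sSup_normalizer le_rfl L1.normZ
  have hXQ : X ≤ Y.Qv (w 1) := sup_le (iSup_le fun k : ↥P1 =>
    hb.le_Qv (near_adj (hincX k k.2).2 (hincX k k.2).1) (by omega)) L1.Z_le
  have hC1 : Y.Se (f 1) ≤ centralizer (Y.Cv (w 1) : Set G) := L1.S_le.trans L1.P_cent
  have hXQC : ⁅X, Y.Qv (w 1)⁆ ≤ Y.Cv (w 1) := by
    have hPC : P1 ≤ normalizer (Y.Cv (w 1) : Set G) := L1.P_cent.trans (centralizer_le_normalizer _)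
    have hXC : X ≤ normalizer (Y.Cv (w 1) : Set G) :=
      ((hXQ.trans L1.Q_le).trans L1.S_le).trans hPC
    have : X ≤ cm X (Y.Cv (w 1)) (Y.Qv (w 1)) := by
      refine sup_le (iSup_le fun k : ↥P1 => fun x hx => (mem_cm hXC).mpr
        ⟨le_sup_of_le_left (le_iSup (fun k : ↥P1 => Y.Zv ((k : G) * w 2)) k) hx, fun t ht => ?_⟩)
        fun x hx => (mem_cm hXC).mpr ⟨hZ1X hx, fun t ht => ?_⟩
      · obtain ⟨_, L'⟩ := hS.flag (hincX k k.2).1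
        rw [← cj_eq_self (hPC k.2)]
        refine cj_mono (?_ : ⁅Y.Zv (w 2), Y.Se (f 1)⁆ ≤ Y.Cv (w 1)) ?_
        · rw [← hcomm0]; exact hR0C
        · rw [cj_commutator, ← Zv_mul, ← Se_mul]
          exact commutator_mem_commutator hx (L'.Q_le ht)
      · rw [commutatorElement_eq_one_iff_mul_comm.mpr (L1.Q_cent ht x hx)]
        exact one_mem _
    exact commutator_le.2 fun x hx a ha => (this hx).2 a ha
  have hZ0X : Y.Zv (w 0) ≤ X := by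
    obtain ⟨k, hk, hk1, -⟩ := h.turn 0
    refine le_sup_of_le_left (le_iSup_of_le (⟨k⁻¹, inv_mem hk⟩ : ↥P1) ?_)
    show Y.Zv (w 0) ≤ Y.Zv (k⁻¹ * w 2)
    rw [Zv_mul, hk1, cj_cj, inv_mul_cancel, cj_one]
  have hXO : ¬ ⁅X, Y.Ov (w 1)⁆ ≤ Y.Zv (w 1) := fun hle => by
    refine (h.path 0).first_edge hS hb le_rfl ?_
    simp only [Nat.zero_add]
    show P1 ≤ _
    rw [← L01.O_sup]
    refine sup_le ?_ ?_ <;> refine le_normalizer_iff_commutator_le_left.mpr ?_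
    · exact ((commutator_mono (sup_le hZ0X hZ1X) le_rfl).trans hle).trans le_sup_right
    · refine le_trans ?_ (le_sup_right : Y.Zv (w 1) ≤ Y.Zv (w 0) ⊔ Y.Zv (w 1))
      have hn : Y.Zv (w 0) ⊔ Y.Zv (w 1) ≤ normalizer (Y.Zv (w 1) : Set G) :=
        ((sup_le hZ0X hZ1X).trans ((hXQ.trans L1.Q_le).trans L1.S_le)).trans L1.normZ
      have : Y.Zv (w 0) ⊔ Y.Zv (w 1) ≤
          cm (Y.Zv (w 0) ⊔ Y.Zv (w 1)) (Y.Zv (w 1)) (Y.Se (f 0)) :=
        sup_le (fun x hx => (mem_cm hn).mpr ⟨mem_sup_left hx, fun s hs =>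
            L01.Zs_le (hR0s (commutator_mem_commutator hx hs))⟩)
          fun x hx => (mem_cm hn).mpr ⟨mem_sup_right hx, fun s hs =>
            le_normalizer_iff_commutator_le_left.mp (L01.S_le.trans L01.normZ)
              (commutator_mem_commutator hx hs)⟩
      exact commutator_le.2 fun x hx s hs => (this hx).2 s hs
  have hZ3N : Y.Zv (w 3) ≤ normalizer (Y.Qv (w 1) : Set G) := hZ3S.trans hSN1
  have hZ0N : Y.Zv (w 0) ≤ normalizer (Y.Qv (w 2) : Set G) := hZ0S.trans hSN2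
  have hD3 : ⁅Y.Qv (w 2), Y.Zv (w 3)⁆ ≤ ⁅Y.Zv (w 1), Y.Se (f 1)⁆ := by
    rw [commutator_comm, ← hturn1]
    exact commutator_mono le_rfl L2.Q_le
  have hCs : Y.Cv (w 1) ≤ Y.Zse (f 1) := L1.C_le
  have hsplitXD : X ≤ Y.Se (f 1) := hXQ.trans L1.Q_le
  -- `S` is abelian modulo `Q_{w 2}`
  have hSab : ∀ x ∈ Y.Se (f 1), ∀ s ∈ Y.Se (f 1), ⁅x, s⁆ ∈ Y.Qv (w 2) := by
    intro x hx s hs
    obtain ⟨t, ht, a, ha, rfl⟩ := exists_mul_of_mem_sup_normalizer hZ0N (hS1Z0 hx)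
    obtain ⟨t', ht', a', ha', rfl⟩ := exists_mul_of_mem_sup_normalizer hZ0N (hS1Z0 hs)
    have hSQ := le_normalizer_iff_commutator_le_left.mp hSN2
    rw [commutatorElement_mul_eq]
    refine mul_mem ((mem_normalizer_iff.mp (hZ0N ht) _).mp
      (hSQ (commutator_mem_commutator ha hs))) ?_
    rw [commutatorElement_right_mul_eq,
      commutatorElement_eq_one_iff_mul_comm.mpr (L0'.Z_comm ht t' ht').symm, one_mul]
    refine (mem_normalizer_iff.mp (hZ0N ht') _).mp ?_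
    exact le_normalizer_iff_commutator_le_right.mp hZ0N (commutator_mem_commutator ht ha')
  refine ⟨X, Y.Qv (w 2), Y.Zv (w 3), Y.Zv (w 0), ⟨hXn, hZ1X, hXQ, hXQC, hXO⟩,
    ⟨L12.Q_le, hSN2, ?_, ?_, ?_, ?_⟩, ⟨hZ3Q2, L3.Z_comm, L3.powZ, hS1Z3, hD3.trans hR1s⟩,
    ?_⟩
  · rw [inf_relIndex_left]
    exact (relIndex_le_of_le_right L1.Q_le index_ne_zero_of_finite).trans L12.relS.le
  · intro a ha
    obtain ⟨t, ht, c, hc, rfl⟩ := exists_mul_of_mem_sup_normalizer hZ0N (hS1Z0 (L1.Q_le ha))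
    refine mul_mem (mem_sup_left (hZ0X ht)) (mem_sup_right ⟨?_, hc⟩)
    have := mul_mem (inv_mem (hZ0Q1 ht)) ha
    rwa [inv_mul_cancel_left] at this
  · rw [commutator_le]
    exact fun x hx s hs => ⟨le_normalizer_iff_commutator_le_left.mp (L1.S_le.trans hXn)
      (commutator_mem_commutator hx hs), hSab x (hsplitXD hx) s hs⟩
  · rw [commutator_le]
    intro d hd s hs
    obtain ⟨t, ht, a, ha, rfl⟩ := exists_mul_of_mem_sup_normalizer hZ3N (hS1Z3 hs)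
    rw [commutatorElement_right_mul_eq]
    have hda : ⁅d, a⁆ ∈ Y.Cv (w 1) := hXQC (commutator_mem_commutator hd.1 ha)
    refine mul_mem (hR1s (hD3 (commutator_mem_commutator hd.2 ht))) ?_
    rw [← hC1 (hZ3S ht) _ hda, mul_inv_cancel_right]
    exact hCs hda
  · -- the middle of the right end
    set P2 := Y.Pv (w 2) with hP2
    set X' := (⨆ k : ↥P2, Y.Zv ((k : G) * w 1)) ⊔ Y.Zv (w 2) with hX'def
    have hincX' : ∀ k ∈ P2, Y.Inc (k * f 1) (w 2) ∧ Y.Inc (k * f 1) (k * w 1) := fun k hk =>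
      ⟨inc_mul_vertex (h.inc_right 1) hk, inc_mul_left (h.inc_left 1) k⟩
    have hX'n : P2 ≤ normalizer (X' : Set G) := conj_sSup_normalizer le_rfl L12.normZ
    have hX'Q : X' ≤ Y.Qv (w 2) := sup_le (iSup_le fun k : ↥P2 =>
      hb.le_Qv (near_adj (hincX' k k.2).2 (hincX' k k.2).1) (by omega)) L12.Z_le
    have hX'S : X' ≤ Y.Se (f 1) := hX'Q.trans L12.Q_le
    have hZ1X' : Y.Zv (w 1) ≤ X' := by
      have : Y.Zv ((1 : G) * w 1) ≤ X' := le_sup_of_le_left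
        (le_iSup (fun k : ↥P2 => Y.Zv ((k : G) * w 1)) ⟨1, one_mem _⟩)
      rwa [one_mul] at this
    obtain ⟨k, hk, hkZ, hkS⟩ := h.turn 1
    simp only [show (1 : ℕ) + 1 = 2 from rfl, show (1 : ℕ) + 2 = 3 from rfl] at hk hkZ hkS
    have hgen : Y.Se (f 1) ⊔ Y.Se (f 2) = P2 := h.gen 1
    have hZ3X' : Y.Zv (w 3) ≤ X' := by
      rw [hkZ, ← Zv_mul]
      exact le_sup_of_le_left (le_iSup (fun k : ↥P2 => Y.Zv ((k : G) * w 1)) ⟨k, hk⟩)
    have hX'Z : X' ≤ normalizer (Y.Zv (w 2) : Set G) :=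
      (hX'S.trans L12.S_le).trans L12.normZ
    set H := cm X' (Y.Zv (w 2)) (Y.Se (f 1))
    set W := cm X' (Y.Zv (w 2)) P2
    have hQ1Z0 : ∀ a ∈ Y.Qv (w 1), ∀ z ∈ Y.Zv (w 0), ⁅a, z⁆ ∈ Y.Cv (w 1) := fun a ha z hz => by
      rw [← commutatorElement_inv]
      exact inv_mem (hR0C (commutator_mem_commutator hz (L01.Q_le ha)))
    have hX'QC : ∀ x ∈ X', ∀ a ∈ Y.Qv (w 2), ⁅x, a⁆ ∈ Y.Cv (w 2) := by
      have hPC : P2 ≤ normalizer (Y.Cv (w 2) : Set G) :=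
        L12.P_cent.trans (centralizer_le_normalizer _)
      have hXC : X' ≤ normalizer (Y.Cv (w 2) : Set G) := (hX'S.trans L12.S_le).trans hPC
      have : X' ≤ cm X' (Y.Cv (w 2)) (Y.Qv (w 2)) := by
        refine sup_le (iSup_le fun k : ↥P2 => fun x hx => (mem_cm hXC).mpr
          ⟨le_sup_of_le_left (le_iSup (fun k : ↥P2 => Y.Zv ((k : G) * w 1)) k) hx, fun t ht => ?_⟩)
          fun x hx => (mem_cm hXC).mpr ⟨mem_sup_right hx, fun t ht => ?_⟩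
        · obtain ⟨_, L'⟩ := hS.flag (hincX' k k.2).1
          rw [← cj_eq_self (hPC k.2)]
          refine cj_mono hR1C ?_
          rw [cj_commutator, ← Zv_mul, ← Se_mul]
          exact commutator_mem_commutator hx (L'.Q_le ht)
        · rw [commutatorElement_eq_one_iff_mul_comm.mpr (L12.Q_cent ht x hx)]
          exact one_mem _
      exact fun x hx a ha => (this hx).2 a ha
    have hC2 : Y.Se (f 1) ≤ centralizer (Y.Cv (w 2) : Set G) := L12.S_le.trans L12.P_cent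
    have hfix : X' ⊓ Y.Qv (w 1) ≤ H := fun x hx => (mem_cm hX'Z).mpr ⟨hx.1, fun s hs => by
      obtain ⟨t, ht, a, ha, rfl⟩ := exists_mul_of_mem_sup_normalizer hZ0N (hS1Z0 hs)
      rw [commutatorElement_right_mul_eq]
      have hxa : ⁅x, a⁆ ∈ Y.Cv (w 2) := hX'QC x hx.1 a ha
      refine mul_mem (L12.Zs_le (hCs (hQ1Z0 x hx.2 t ht))) ?_
      rw [← hC2 (hZ0S ht) _ hxa, mul_inv_cancel_right]
      exact L12.Zs_le (L12.C_le hxa)⟩
    have hgood : ¬ P2 ≤ normalizer ((Y.Zv (w 1) ⊔ Y.Zv (w 2) : Subgroup G) : Set G) := by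
      have := (h.path 0).last_edge hS hquad hb le_rfl
      simpa using this
    have hX'O : ¬ ⁅X', Y.Ov (w 2)⁆ ≤ Y.Zv (w 2) := fun hle => by
      refine hgood ?_
      rw [← L12.O_sup]
      refine sup_le ?_ ?_ <;> refine le_normalizer_iff_commutator_le_left.mpr ?_
      · exact ((commutator_mono (sup_le hZ1X' le_sup_right) le_rfl).trans hle).trans le_sup_right
      · refine le_trans ?_ (le_sup_right : Y.Zv (w 2) ≤ Y.Zv (w 1) ⊔ Y.Zv (w 2))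
        have : Y.Zv (w 1) ⊔ Y.Zv (w 2) ≤ H :=
          sup_le (fun x hx => hfix ⟨hZ1X' hx, L1.Z_le hx⟩)
            fun x hx => hfix ⟨mem_sup_right hx, hZ2Q1 hx⟩
        exact commutator_le.2 fun x hx s hs => (this hx).2 s hs
    obtain ⟨u₀, hu₀, hu₀Q⟩ := SetLike.not_le_iff_exists.mp (fun hle : Y.Se (f 1) ≤ Y.Qv (w 2) => by
      have := L12.relS
      rw [relIndex_eq_one.mpr hle] at this
      exact L12.q_pos.ne this)
    have hHidx : q ≤ H.relIndex X' := L12.disp X' (Y.Zv (w 2)) H le_sup_right hX'Q hX'n L12.normZ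
      hX'O (cm_le _ _ _) u₀ hu₀ hu₀Q fun x hx => hx.2 u₀ hu₀
    have hidx : (X' ⊓ Y.Qv (w 1)).relIndex X' ≤ q := by
      rw [inf_relIndex_left]
      exact (relIndex_le_of_le_right hX'S index_ne_zero_of_finite).trans L1.relS.le
    have hHQ : H ≤ Y.Qv (w 1) := by
      have h1 : (X' ⊓ Y.Qv (w 1)).relIndex H * H.relIndex X' = (X' ⊓ Y.Qv (w 1)).relIndex X' :=
        relIndex_mul_relIndex _ _ _ hfix (cm_le _ _ _)
      have h2 : (X' ⊓ Y.Qv (w 1)).relIndex H = 1 := by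
        refine le_antisymm ?_ (Nat.pos_of_ne_zero index_ne_zero_of_finite)
        refine Nat.le_of_mul_le_mul_right ?_ (by have := L12.q_pos; omega : 0 < H.relIndex X')
        rw [h1, one_mul]
        exact hidx.trans hHidx
      exact (relIndex_eq_one.mp h2).trans inf_le_right
    have hHX : H ≤ X' := cm_le _ _ _
    have hWH : W ≤ H := fun x hx => (mem_cm hX'Z).mpr ⟨hx.1.1, fun s hs => hx.2 s (L12.S_le hs)⟩
    have hint : H ⊓ cj k H ≤ W := fun x hx => by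
      have h2 : x ∈ cm X' (Y.Zv (w 2)) (Y.Se (f 2)) := by
        have := cj_cm k X' (Y.Zv (w 2)) (Y.Se (f 1)) hx.2
        rwa [cj_eq_self (hX'n hk), cj_eq_self (L12.normZ hk), ← hkS] at this
      have := mem_cm_closure (A := (Y.Se (f 1) : Set G) ∪ (Y.Se (f 2) : Set G)) hx.1.1.1 hx.1.1.2
        (Set.union_subset (L12.S_le.trans L12.normZ) (L2.S_le.trans L2.normZ))
        fun t ht => ht.elim (hx.1.2 t) (h2.2 t)
      rwa [← Subgroup.sup_eq_closure, hgen] at this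
    have hWidx : W.relIndex H ≤ q := by
      refine (relIndex_le_of_le_left hint index_ne_zero_of_finite).trans ?_
      rw [inf_relIndex_left]
      refine (relIndex_le_of_le_right hHX index_ne_zero_of_finite).trans ?_
      rw [show (cj k H).relIndex X' = (cj k H).relIndex (cj k X') by rw [cj_eq_self (hX'n hk)],
        relIndex_cj]
      exact (relIndex_le_of_le_left hfix index_ne_zero_of_finite).trans hidx
    have hWX : ∀ y ∈ W, ∀ x ∈ X', Commute y x := by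
      intro y hy x hx
      have hle : X' ≤ centralizer ({y} : Set G) := by
        refine sup_le (iSup_le fun j : ↥P2 => ?_) fun z hz => mem_centralizer_singleton_iff.mpr
          (L12.Q_cent (hX'Q hy.1.1) z hz)
        intro z hz
        rw [Zv_mul] at hz
        obtain ⟨z₁, hz₁, rfl⟩ := hz
        have hy' : (j : G)⁻¹ * y * j ∈ Y.Qv (w 1) := by
          rw [show (j : G)⁻¹ * y * j = ⁅y, (j : G)⁻¹⁆⁻¹ * y by
            simp only [commutatorElement_def]; group]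
          exact mul_mem (inv_mem (hZ2Q1 (hy.2 _ (inv_mem j.2)))) (hHQ (hWH hy))
        refine mem_centralizer_singleton_iff.mpr ?_
        have hc : z₁ * ((j : G)⁻¹ * y * j) = (j : G)⁻¹ * y * j * z₁ := L1.Q_cent hy' z₁ hz₁
        show (j : G) * z₁ * (j : G)⁻¹ * y = y * ((j : G) * z₁ * (j : G)⁻¹)
        calc (j : G) * z₁ * (j : G)⁻¹ * y = j * (z₁ * ((j : G)⁻¹ * y * j)) * (j : G)⁻¹ := by group
          _ = j * ((j : G)⁻¹ * y * j * z₁) * (j : G)⁻¹ := by rw [hc]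
          _ = y * ((j : G) * z₁ * (j : G)⁻¹) := by group
      exact (mem_centralizer_singleton_iff.mp (hle hx)).symm
    have hZW : Y.Zv (w 1) ⊓ W ≤ Y.Zse (f 1) := fun z hz =>
      hfix3 ▸ ⟨hz.1, fun x hx => ((hWX z hz.2 x (hZ3X' hx)).eq).symm⟩
    have hcover : H ≤ Y.Zv (w 1) ⊔ W := by
      have hle : Y.Zv (w 1) ⊔ W ≤ H :=
        sup_le (fun x hx => hfix ⟨hZ1X' hx, L1.Z_le hx⟩) hWH
      have h2 : q ≤ W.relIndex (Y.Zv (w 1) ⊔ W) := by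
        refine le_trans ?_ (relIndex_le_of_le_right le_sup_left index_ne_zero_of_finite)
        rw [← inf_relIndex_left (Y.Zv (w 1)) W]
        exact L1.relZ.ge.trans (relIndex_le_of_le_left hZW index_ne_zero_of_finite)
      have h1 : W.relIndex (Y.Zv (w 1) ⊔ W) * (Y.Zv (w 1) ⊔ W).relIndex H = W.relIndex H :=
        relIndex_mul_relIndex _ _ _ le_sup_right hle
      refine relIndex_eq_one.mp (le_antisymm ?_ (Nat.pos_of_ne_zero index_ne_zero_of_finite))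
      refine Nat.le_of_mul_le_mul_left ?_ (by have := L12.q_pos; omega : 0 < W.relIndex (Y.Zv (w 1) ⊔ W))
      rw [h1, mul_one]
      exact hWidx.trans h2
    have hPW : P2 ≤ normalizer (W : Set G) := fun g hg => by
      have key : ∀ g ∈ P2, cj g W ≤ W := fun g hg => by
        have := cj_cm g X' (Y.Zv (w 2)) P2
        rwa [cj_eq_self (hX'n hg), cj_eq_self (L12.normZ hg), cj_eq_self (le_normalizer hg)] at this
      exact mem_normalizer_of_cj_eq (le_antisymm (key g hg) fun x hx => mem_cj.mpr (by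
        have := key g⁻¹ (inv_mem hg) (conj_mem_cj (g := g⁻¹) hx)
        rwa [inv_inv] at this))
    have hX'W : X' ≤ normalizer (W : Set G) := (hX'S.trans L12.S_le).trans hPW
    have hX'W2 : ¬ ⁅X', Y.Ov (w 2)⁆ ≤ W := fun hle => hX'O (L12.step hX'Q (hWH.trans hHX) hX'n hPW
      L12.normZ hle (commutator_le.2 fun x hx o ho =>
        hx.2 o (by rw [← L12.O_sup]; exact mem_sup_left ho)))
    -- commutators leave `W`
    have hout : ∀ x ∈ Y.Zv (w 0), x ∉ Y.Qv (w 2) → ∀ u ∈ Y.Zv (w 3), u ∉ Y.Qv (w 1) →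
        ⁅x, u⁆ ∉ W := by
      intro x hx hxQ u hu huQ hin
      set H' := cm X' W (zpowers x)
      have hxS := hZ0S hx
      have hsW : ∀ z ∈ Y.Zv (w 2), z ∈ W := fun z hz => (mem_cm hX'Z).mpr
        ⟨mem_sup_right hz, fun g hg =>
          le_normalizer_iff_commutator_le_left.mp L12.normZ (commutator_mem_commutator hz hg)⟩
      have hle : X' ⊓ Y.Qv (w 1) ≤ H' := fun y hy => (mem_cm hX'W).mpr
        ⟨hy.1, fun s hs => hsW _ ((hfix hy).2 s (zpowers_le.mpr hxS hs))⟩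
      have h1 : q ≤ H'.relIndex X' := L12.disp X' W H' (hWH.trans hHX) hX'Q hX'n hPW hX'W2
        (cm_le _ _ _) x hxS hxQ fun y hy => hy.2 x (mem_zpowers x)
      have h2 : (X' ⊓ Y.Qv (w 1)).relIndex H' * H'.relIndex X' = (X' ⊓ Y.Qv (w 1)).relIndex X' :=
        relIndex_mul_relIndex _ _ _ hle (cm_le _ _ _)
      have h3 : H' ≤ X' ⊓ Y.Qv (w 1) := relIndex_eq_one.mp (le_antisymm
        (Nat.le_of_mul_le_mul_right (by rw [h2, one_mul]; exact hidx.trans h1)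
          (by have := L12.q_pos; omega : 0 < H'.relIndex X'))
        (Nat.pos_of_ne_zero index_ne_zero_of_finite))
      refine huQ (h3 ((mem_cm hX'W).mpr ⟨hZ3X' hu, fun s hs => ?_⟩)).2
      have hxN : x ∈ normalizer (W : Set G) := hPW (L12.S_le hxS)
      have hux : ⁅u, x⁆ ∈ W := by rw [← commutatorElement_inv]; exact inv_mem hin
      let K : Subgroup G :=
        { carrier := {s | s ∈ normalizer (W : Set G) ∧ ⁅u, s⁆ ∈ W}
          one_mem' := ⟨one_mem _, by rw [commutatorElement_one_right]; exact one_mem W⟩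
          mul_mem' := fun {a b} ha hb => ⟨mul_mem ha.1 hb.1, by
            rw [commutatorElement_right_mul_eq]
            exact mul_mem ha.2 ((mem_normalizer_iff.mp ha.1 _).mp hb.2)⟩
          inv_mem' := fun {a} ha => ⟨inv_mem ha.1, by
            rw [show ⁅u, a⁻¹⁆ = a⁻¹ * ⁅u, a⁆⁻¹ * a⁻¹⁻¹ by simp only [commutatorElement_def]; group]
            exact (mem_normalizer_iff.mp (inv_mem ha.1) _).mp (inv_mem ha.2)⟩ }
      exact (zpowers_le.mpr (show x ∈ K from ⟨hxN, hux⟩) hs).2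
    obtain ⟨x, hx, hxQ⟩ : ∃ x ∈ Y.Zv (w 0), x ∉ Y.Qv (w 2) := SetLike.not_le_iff_exists.mp fun h0 =>
      hu₀Q (sup_le h0 le_rfl (hS1Z0 hu₀))
    obtain ⟨u, hu, huQ⟩ : ∃ u ∈ Y.Zv (w 3), u ∉ Y.Qv (w 1) := SetLike.not_le_iff_exists.mp fun h0 => by
      have h1 := L1.relS
      rw [relIndex_eq_one.mpr (hS1Z3.trans (sup_le h0 le_rfl))] at h1
      exact L1.q_pos.ne h1
    have hmain : ∀ x ∈ Y.Zv (w 0), x ∉ Y.Qv (w 2) → ∀ u ∈ Y.Zv (w 3), u ∉ Y.Qv (w 1) →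
        ∀ v ∈ Y.Zv (w 3), v ∉ Y.Qv (w 1) → ⁅⁅x, u⁆, v⁆ ∉ Y.Cv (w 1) := by
      intro x hx hxQ u hu huQ v hv hvQ hC
      have hxu := hout x hx hxQ u hu huQ
      have hy : ⁅x, u⁆ ∈ H := hfix ⟨le_normalizer_iff_commutator_le_right.mp
          ((hZ0S.trans L12.S_le).trans hX'n) (commutator_mem_commutator hx (hZ3X' hu)),
        le_normalizer_iff_commutator_le_left.mp hZ3N (commutator_mem_commutator (hZ0Q1 hx) hu)⟩
      obtain ⟨z, hz, y, hyW, he⟩ := exists_mul_of_mem_sup_normalizer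
        ((hZ1X'.trans (hX'S.trans L12.S_le)).trans hPW) (hcover hy)
      have hzs : z ∈ Y.Zse (f 1) := by
        refine L1.fix v (hZ3S hv) hvQ z hz ?_
        rw [he, commutatorElement_mul_eq,
          commutatorElement_eq_one_iff_mul_comm.mpr (hWX y hyW v (hZ3X' hv)).eq, mul_one,
          mul_inv_cancel, one_mul] at hC
        exact hC
      refine hxu (he ▸ mul_mem ((mem_cm hX'Z).mpr ⟨hZ1X' hz, fun g hg =>
        le_normalizer_iff_commutator_le_left.mp L12.normZ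
          (commutator_mem_commutator (L12.Zs_le hzs) hg)⟩) hyW)
    refine ⟨⟨hZ0X, L0'.powZ, x, hx, u, hu, fun v hv hvQ => hmain x hx hxQ u hu huQ v hv hvQ⟩,
      fun u hu huQ => ⟨x, hx, hmain x hx hxQ u hu huQ u hu huQ⟩, hD3, Y.Zv (w 2), hZ2Q1, ?_, ?_⟩
    · exact fun d hd z hz => (L12.Q_cent hd z hz)
    · have hZc : ∀ z ∈ Y.Zv (w 2), ∀ z' ∈ Y.Zv (w 2), z * z' = z' * z := fun z hz z' hz' =>
        (L12.Z_comm hz z' hz').symm
      have hxS := hZ0S hx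
      have hxZ : x ∈ normalizer (Y.Zv (w 2) : Set G) := L12.normZ (L12.S_le hxS)
      have hval : ∀ z ∈ Y.Zv (w 2), ⁅z, x⁆ ∈ Y.Zv (w 2) := fun z hz =>
        le_normalizer_iff_commutator_le_left.mp L12.normZ (commutator_mem_commutator hz (L12.S_le hxS))
      let c : ↥(Y.Zv (w 2)) →* ↥⁅Y.Zv (w 2), Y.Zv (w 0)⁆ := MonoidHom.mk'
        (fun z => ⟨⁅(z : G), x⁆, commutator_mem_commutator z.2 hx⟩) fun a b => Subtype.ext (by
          show ⁅(a : G) * b, x⁆ = ⁅(a : G), x⁆ * ⁅(b : G), x⁆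
          rw [commutatorElement_mul_eq, hZc _ a.2 _ (hval _ b.2), mul_inv_cancel_right,
            hZc _ (hval _ b.2) _ (hval _ a.2)])
      have hker : c.ker ≤ (Y.Zse (f 1)).subgroupOf (Y.Zv (w 2)) := fun z hz =>
        L12.fix x hxS hxQ z z.2 (by
          rw [show ⁅(z : G), x⁆ = 1 from congrArg Subtype.val hz]; exact one_mem _)
      calc q = (Y.Zse (f 1)).relIndex (Y.Zv (w 2)) := L12.relZ.symm
        _ ≤ c.ker.index := Nat.le_of_dvd (Nat.pos_of_ne_zero index_ne_zero_of_finite)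
            (index_dvd_of_le hker)
        _ = Nat.card ↥c.range := index_ker c
        _ ≤ _ := card_le_card_group _

/-- One of the two configurations occurs. -/
theorem Setup.cases (hS : Setup p q Y) : Y.Quad ∧ (CaseOne Y ∨ CaseTwo p q Y) := by
  obtain ⟨b, hb, v, e, hc⟩ := hS.exists_far
  have hb1 : 1 ≤ b := Nat.one_le_iff_ne_zero.mpr fun h0 => hc.2 (by
    subst h0
    obtain ⟨-, h2, h3, -, -⟩ := hS.eqv (x := v 0) (y := v 0) (by simp)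
    exact cj_mono hS.loc.Z_le)
  have hquad : Y.Quad := hS.quad hb hb1 hc
  refine ⟨hquad, ?_⟩
  by_cases hb2 : b = 1
  · subst hb2
    left
    obtain ⟨⟨n, hn, h0⟩, m, hm, h1⟩ := hc.1 0 Nat.one_pos
    refine ⟨m⁻¹ * n, mul_mem (inv_mem hm) hn, fun hle => hc.2 ?_⟩
    rw [(hS.eqv h0).2.2.1, (hS.eqv h1).2.1]
    have := cj_mono (g := e 0 * m) hle
    rwa [cj_cj, show e 0 * m * (m⁻¹ * n) = e 0 * n by group] at this
  obtain ⟨w, f, hL⟩ := exists_line hS hquad hb (by omega) hc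
  obtain rfl : b = 2 := le_antisymm (hL.b_le_two hS hb) (by omega)
  right
  obtain ⟨X, D, U, Z₀, ⟨a1, a2, a3, a4, a5⟩, ⟨b1, b2, b3, b4, b5, b6⟩, ⟨c1, c2, c3, c4, c5⟩,
    ⟨d1, d2, x, hx, u, hu, hxu⟩, e1, e2, Y', e3, e4, e5⟩ := hL.middle hS hquad hb
  obtain ⟨n, hn, h1⟩ := hL.inc_left 1
  set c := f 1 * n
  obtain ⟨hP, hQ, hZ, hC, hO⟩ := hS.eqv h1
  have hP' : cj c⁻¹ (Y.Pv (w 1)) = Y.P := by
    rw [hP, Sys.Pv, cj_cj, inv_mul_cancel, cj_one]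
  have hQ' : cj c⁻¹ (Y.Qv (w 1)) = Y.Q := by
    rw [hQ, Sys.Qv, cj_cj, inv_mul_cancel, cj_one]
  have hZ' : cj c⁻¹ (Y.Zv (w 1)) = Y.Z := by
    rw [hZ, Sys.Zv, cj_cj, inv_mul_cancel, cj_one]
  have hC' : cj c⁻¹ (Y.Cv (w 1)) = Y.C := by
    rw [hC, Sys.Cv, cj_cj, inv_mul_cancel, cj_one]
  have hO' : cj c⁻¹ (Y.Ov (w 1)) = Y.O := by
    rw [hO, Sys.Ov, cj_cj, inv_mul_cancel, cj_one]
  have hS' : cj c⁻¹ (Y.Se (f 1)) = Y.S := by
    rw [show Y.Se (f 1) = cj c Y.S from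
      (congrArg (cj (f 1)) (cj_eq_self (hS.NS hn)).symm).trans (cj_cj ..), cj_cj, inv_mul_cancel, cj_one]
  have hZs' : cj c⁻¹ (Y.Zse (f 1)) = Y.Zs := by
    rw [show Y.Zse (f 1) = cj c Y.Zs from
      (congrArg (cj (f 1)) (cj_eq_self (hS.NZs hn)).symm).trans (cj_cj ..), cj_cj, inv_mul_cancel, cj_one]
  have hnorm : ∀ {H K : Subgroup G}, H ≤ normalizer (K : Set G) →
      cj c⁻¹ H ≤ normalizer (cj c⁻¹ K : Set G) := fun {H K} hHK => by
    rintro _ ⟨g, hg, rfl⟩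
    refine mem_normalizer_of_cj_eq ?_
    show cj (c⁻¹ * g * c⁻¹⁻¹) (cj c⁻¹ K) = cj c⁻¹ K
    rw [cj_cj, inv_mul_cancel_right, ← cj_cj, cj_eq_self (hHK hg)]
  have hcm : ∀ {H K L : Subgroup G}, ⁅H, K⁆ ≤ L → ⁅cj c⁻¹ H, cj c⁻¹ K⁆ ≤ cj c⁻¹ L :=
    fun h => (cj_commutator ..).ge.trans (cj_mono h)
  have hpow : ∀ {H : Subgroup G}, (∀ z ∈ H, z ^ p = 1) → ∀ z ∈ cj c⁻¹ H, z ^ p = 1 := by
    rintro H h _ ⟨z, hz, rfl⟩
    rw [← map_pow, h z hz, map_one]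
  refine ⟨cj c⁻¹ X, cj c⁻¹ D, cj c⁻¹ U, cj c⁻¹ Z₀, ⟨?_, ?_, ?_, ?_, ?_⟩, ⟨?_, ?_, ?_, ?_, ?_, ?_⟩,
    ⟨cj_mono c1, ?_, hpow c3, ?_, ?_⟩, ⟨cj_mono d1, hpow d2,
    _, conj_mem_cj hx, _, conj_mem_cj hu, ?_⟩, ?_, ?_, cj c⁻¹ Y', hQ' ▸ cj_mono e3, ?_, ?_⟩
  · exact hP' ▸ hnorm a1
  · exact hZ' ▸ cj_mono a2
  · exact hQ' ▸ cj_mono a3
  · rw [← hQ', ← hC']; exact hcm a4
  · rw [← hO', ← hZ', ← cj_commutator]
    exact fun h => a5 (le_of_cj_le h)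
  · exact hS' ▸ cj_mono b1
  · exact hS' ▸ hnorm b2
  · rw [← hQ', ← cj_inf, relIndex_cj]; exact b3
  · rw [← hQ', ← cj_inf, ← cj_sup]; exact cj_mono b4
  · rw [← hS', ← cj_inf]; exact hcm b5
  · rw [← hS', ← hZs', ← cj_inf]; exact hcm b6
  · rintro _ ⟨g, hg, rfl⟩ _ ⟨g', hg', rfl⟩
    exact ((map_mul _ _ _).symm.trans (congrArg _ (c2 hg g' hg'))).trans (map_mul _ _ _)
  · rw [← hS', ← hQ', ← cj_sup]; exact cj_mono c4
  · rw [← hZs']; exact hcm c5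
  · rintro _ ⟨v', hv', rfl⟩ hvQ hmem
    refine hxu v' hv' (fun hq => hvQ (hQ' ▸ ⟨v', hq, rfl⟩)) ?_
    rw [← hC'] at hmem
    obtain ⟨r, hr, he⟩ := hmem
    have he' : (MulAut.conj c⁻¹) r = (MulAut.conj c⁻¹) ⁅⁅x, u⁆, v'⁆ := by
      rw [map_commutatorElement, map_commutatorElement]
      exact he
    rwa [(MulAut.conj c⁻¹).injective he'] at hr
  · rintro _ ⟨v', hv', rfl⟩ hvQ
    obtain ⟨x', hx', hxu'⟩ := e1 v' hv' fun hq => hvQ (hQ' ▸ ⟨v', hq, rfl⟩)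
    refine ⟨_, conj_mem_cj hx', fun hmem => hxu' ?_⟩
    rw [← hC'] at hmem
    obtain ⟨r, hr, he⟩ := hmem
    have he' : (MulAut.conj c⁻¹) r = (MulAut.conj c⁻¹) ⁅⁅x', v'⁆, v'⁆ := by
      rw [map_commutatorElement, map_commutatorElement]
      exact he
    rwa [(MulAut.conj c⁻¹).injective he'] at hr
  · rw [← hZ', ← hS', ← cj_commutator c⁻¹ (Y.Zv (w 1)), ← cj_commutator]
    exact cj_mono e2
  · rintro _ ⟨d, hd, rfl⟩ _ ⟨y, hy, rfl⟩
    exact ((map_mul _ _ _).symm.trans (congrArg _ (e4 hd y hy))).trans (map_mul _ _ _)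
  · rw [← cj_commutator]
    exact e5.trans_eq (card_map_of_injective (MulAut.conj c⁻¹).injective).symm

end Cfsg.Agent.PushUp
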