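/-
Groups with a Sylow subgroup in a unique maximal subgroup and a quotient `PSL₂(p^n)`.

Main results (namespace `Cfsg.Agent.PushUp`):
* `index_ge_of_psl` : an element outside the kernel moves at least `p ^ n` elements of a module
* `le_or_le`        : a normal subgroup contains `O^p` or meets the Sylow subgroup inside `O_p`
-/
import Cfsg.Agent.Lib.NatSL2.Section
import Cfsg.Agent.Lib.PReduced.Tools
import Cfsg.Agent.Lib.PIrred.Basic
import Cfsg.Agent.Lib.PLocal.Thompson
import Cfsg.Agent.Lib.PSL2.Overgroups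
import Cfsg.Agent.Lib.PSL2.Soluble

set_option autoImplicit false

namespace Cfsg.Agent.PushUp

variable {G : Type*} [Group G] [Finite G] {p : ℕ} [Fact p.Prime]
  {F : Type*} [Field F] [Fintype F] {n : ℕ}

/-- An element outside the kernel moves at least `p ^ n` elements of a `p`-group it acts on. -/
theorem index_ge_of_psl (hF : Fintype.card F = p ^ n) (hn : 2 ≤ n) {W : Subgroup G} [W.Normal]
    (hW : IsPGroup p W) (π : G →* Matrix.ProjectiveSpecialLinearGroup (Fin 2) F)
    (hπ : Function.Surjective π) (hker : Subgroup.centralizer (W : Set G) ≤ π.ker) {a : G}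
    (ha : IsPGroup p ↥(Subgroup.zpowers a)) (hπa : π a ≠ 1) :
    p ^ n ≤ (W ⊓ Subgroup.centralizer ({a} : Set G)).relIndex W := by
  let c : G →* MulAut ↥W := MulAut.conjNormal
  have hk : c.rangeRestrict.ker ≤ π.ker := by
    refine le_trans (fun x hx => ?_) hker
    rw [MonoidHom.ker_rangeRestrict] at hx
    intro w hw
    have h1 := congrArg (fun f : MulAut ↥W => ((f ⟨w, hw⟩ : ↥W) : G)) (MonoidHom.mem_ker.mp hx)
    simp only [c, MulAut.conjNormal_apply, MulAut.one_apply] at h1
    exact (mul_inv_eq_iff_eq_mul.mp h1).symm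
  let π₁ : ↥c.range →* Matrix.ProjectiveSpecialLinearGroup (Fin 2) F :=
    c.rangeRestrict.liftOfSurjective c.rangeRestrict_surjective ⟨π, hk⟩
  have hπ₁ : ∀ g, π₁ (c.rangeRestrict g) = π g := fun g =>
    MonoidHom.liftOfRightInverse_comp_apply _ _ _ _ g
  let X := SemidirectProduct ↥W ↥c.range c.range.subtype
  haveI : Finite X := Finite.of_equiv _ SemidirectProduct.equivProd.symm
  let iW : ↥W →* X := SemidirectProduct.inl
  let iR : ↥c.range →* X := SemidirectProduct.inr
  let eR : ↥c.range ≃* ↥iR.range := MonoidHom.ofInjective SemidirectProduct.inr_injective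
  have hconj : ∀ (r : ↥c.range) (w : ↥W), iR r * iW w * (iR r)⁻¹ = iW ((r : MulAut ↥W) w) :=
    fun r w => by
      rw [← map_inv]
      exact (SemidirectProduct.inl_aut r w).symm
  have hnorm : iR.range ≤ Subgroup.normalizer (iW.range : Set X) := by
    rintro _ ⟨r, rfl⟩
    rw [Subgroup.mem_normalizer_iff]
    intro y
    constructor
    · rintro ⟨w, rfl⟩
      exact ⟨_, (hconj r w).symm⟩
    · rintro ⟨w, hw⟩
      refine ⟨(r⁻¹ : ↥c.range).1 w, ?_⟩
      rw [← hconj, hw, map_inv]
      simp [mul_assoc]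
  have hfix : ∀ (r : ↥c.range) (w : ↥W), iR r * iW w = iW w * iR r ↔ (r : MulAut ↥W) w = w :=
    fun r w => by
      rw [← mul_inv_eq_iff_eq_mul, hconj]
      exact SemidirectProduct.inl_injective.eq_iff
  have hfaith : iR.range ⊓ Subgroup.centralizer (iW.range : Set X) = ⊥ := by
    rw [eq_bot_iff]
    rintro _ ⟨⟨r, rfl⟩, hc⟩
    have h1 : r = 1 := Subtype.ext (MulEquiv.ext fun w =>
      (hfix r w).mp (hc _ ⟨w, rfl⟩).symm)
    rw [Subgroup.mem_bot, h1, map_one]
  have hsp : IsPGroup p ↥(Subgroup.zpowers (iR (c.rangeRestrict a))) := by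
    rw [show iR (c.rangeRestrict a) = (iR.comp c.rangeRestrict) a from rfl, ← MonoidHom.map_zpowers]
    exact ha.map _
  have hπ₂ : Function.Surjective (π₁.comp eR.symm.toMonoidHom) := fun x => by
    obtain ⟨g, hg⟩ := hπ x
    exact ⟨eR (c.rangeRestrict g), by simp [hπ₁, hg]⟩
  have hb := (NatSL2.psl_bounds_of_hom hF (V := iW.range)
    (hW.of_surjective iW.rangeRestrict iW.rangeRestrict_surjective) hnorm hfaith
    (π₁.comp eR.symm.toMonoidHom) hπ₂ hn (s := iR (c.rangeRestrict a)) ⟨_, rfl⟩ hsp (by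
      show π₁ (eR.symm (eR (c.rangeRestrict a))) ≠ 1
      rw [eR.symm_apply_apply, hπ₁]
      exact hπa)).1
  have hmap : iW.range ⊓ Subgroup.centralizer ({iR (c.rangeRestrict a)} : Set X) =
      ((W ⊓ Subgroup.centralizer ({a} : Set G)).subgroupOf W).map iW := by
    ext y
    constructor
    · rintro ⟨⟨w, rfl⟩, hy⟩
      refine ⟨w, ⟨w.2, Subgroup.mem_centralizer_singleton_iff.mpr ?_⟩, rfl⟩
      have h1 := congrArg (Subtype.val (p := fun x => x ∈ W)) ((hfix _ w).mp (hy _ rfl))
      change a * (w : G) * a⁻¹ = w at h1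
      exact (mul_inv_eq_iff_eq_mul.mp h1).symm
    · rintro ⟨w, hw, rfl⟩
      refine ⟨⟨w, rfl⟩, Subgroup.mem_centralizer_singleton_iff.mpr ?_⟩
      refine ((hfix _ w).mpr (Subtype.ext ?_)).symm
      show a * (w : G) * a⁻¹ = w
      rw [mul_inv_eq_iff_eq_mul]
      exact (Subgroup.mem_centralizer_singleton_iff.mp hw.2).symm
  rw [hmap, show iW.range = (⊤ : Subgroup ↥W).map iW from MonoidHom.range_eq_map iW, Subgroup.relIndex_map_map_of_injective _ _
    SemidirectProduct.inl_injective, Subgroup.relIndex_top_right] at hb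
  exact hb

omit [Field F] [Fintype F] in
/-- A normal subgroup contains `O^p` or meets `S` inside `O_p`. -/
theorem le_or_le {S : Sylow p G} (hu : ∃! M : Subgroup G, IsCoatom M ∧ (S : Subgroup G) ≤ M)
    (N : Subgroup G) [N.Normal] :
    Cfsg.pResidual p G ≤ N ∨ (S : Subgroup G) ⊓ N ≤ Cfsg.pCore p G := by
  by_cases h : (S : Subgroup G) ⊔ N = ⊤
  · exact Or.inl (Transfer.pResidual_le (PIrred.isPGroup_quotient_of_sup S.2 h))
  refine Or.inr ?_
  obtain ⟨M, hM, -⟩ := id hu
  have hNM : N ≤ M := le_sup_right.trans (PIrred.le_of_ne_top hu hM le_sup_left h)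
  set T := (S : Subgroup G) ⊓ N
  have hST : (S : Subgroup G) ≤ Subgroup.normalizer (T : Set G) :=
    (le_inf Subgroup.le_normalizer (by rw [Subgroup.normalizer_eq_top]; exact le_top)).trans
      Subgroup.inf_normalizer_le_normalizer_inf
  have htop : Subgroup.normalizer (T : Set G) = ⊤ := by
    refine PIrred.eq_top_of_not_le hu hM hST fun h' => hM.1.1 (top_le_iff.1 ?_)
    rw [← PReduced.frattini_sylow_inf S N]
    exact sup_le h' hNM
  exact Cores.le_pCore (Subgroup.normalizer_eq_top_iff.1 htop) (S.2.to_le inf_le_left)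

omit [Finite G] [Field F] [Fintype F] in
/-- A subgroup centralised by `G` is normal. -/
theorem normal_of_le_center {H : Subgroup G} (h : ∀ x ∈ H, ∀ g : G, g * x = x * g) : H.Normal :=
  ⟨fun x hx g => by rw [h x hx g, mul_inv_cancel_right]; exact hx⟩

omit [Field F] [Fintype F] in
/-- Elements centralised by `O^p` and by a Sylow subgroup are central. -/
theorem central_of_pResidual (S : Sylow p G) {Z : Subgroup G}
    (h1 : Cfsg.pResidual p G ≤ Subgroup.centralizer (Z : Set G))
    (h2 : (S : Subgroup G) ≤ Subgroup.centralizer (Z : Set G)) :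
    ∀ x ∈ Z, ∀ g : G, g * x = x * g := fun x hx g => by
  have : g ∈ Subgroup.centralizer (Z : Set G) :=
    ((PReduced.pResidual_sup_sylow S).ge.trans (sup_le h1 h2)) (Subgroup.mem_top g)
  exact (this x hx).symm

omit [Finite G] [Field F] [Fintype F] in
/-- A `p'`-element fixing every element of order `p` of an abelian `p`-group centralises it. -/
theorem centralizes_of_fix_powers {V : Subgroup G} [hVn : V.Normal]
    (hab : ∀ x ∈ V, ∀ y ∈ V, Commute x y) (hV : IsPGroup p V) {t : G}
    (hco : (orderOf t).Coprime p) (hfix : ∀ x ∈ V, x ^ p = 1 → t * x * t⁻¹ = x) :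
    t ∈ Subgroup.centralizer (V : Set G) := by
  have key : ∀ (i : ℕ), ∀ x ∈ V, x ^ p ^ i = 1 → t * x * t⁻¹ = x := by
    intro i
    induction i with
    | zero =>
      intro x _ hx
      rw [pow_zero, pow_one] at hx
      simp [hx]
    | succ i ih =>
      intro x hx hxi
      have hy : t * x ^ p * t⁻¹ = x ^ p := ih _ (pow_mem hx p) (by rw [← pow_mul, ← pow_succ', hxi])
      have hx' : t * x * t⁻¹ ∈ V := hVn.conj_mem x hx t
      set d := t * x * t⁻¹ * x⁻¹ with hd
      have hdV : d ∈ V := mul_mem hx' (inv_mem hx)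
      have hdp : d ^ p = 1 := by
        rw [hd, (hab _ hx' _ (inv_mem hx)).mul_pow, conj_pow, hy, inv_pow, mul_inv_cancel]
      have hdfix := hfix d hdV hdp
      have hpow : ∀ j : ℕ, t ^ j * x * (t ^ j)⁻¹ = d ^ j * x := by
        intro j
        induction j with
        | zero => simp
        | succ j ihj =>
          calc t ^ (j + 1) * x * (t ^ (j + 1))⁻¹ = t * (t ^ j * x * (t ^ j)⁻¹) * t⁻¹ := by
                rw [pow_succ']; group
            _ = (t * d * t⁻¹) ^ j * (t * x * t⁻¹) := by rw [ihj, conj_pow]; group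
            _ = d ^ j * (d * x) := by rw [hdfix, hd]; group
            _ = d ^ (j + 1) * x := by rw [← mul_assoc, ← pow_succ]
      have h := hpow (orderOf t)
      rw [pow_orderOf_eq_one, one_mul, inv_one, mul_one, right_eq_mul] at h
      have hd1 : d = 1 := orderOf_eq_one_iff.mp (Nat.eq_one_of_dvd_coprimes hco
        (orderOf_dvd_of_pow_eq_one h) (orderOf_dvd_of_pow_eq_one hdp))
      exact mul_inv_eq_one.mp (hd ▸ hd1)
  intro x hx
  obtain ⟨i, hi⟩ := hV ⟨x, hx⟩
  exact (mul_inv_eq_iff_eq_mul.mp (key i x hx (by simpa using congrArg Subtype.val hi))).symm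

/-- An abelian `p`-subgroup of `PSL₂(p^n)` has order at most `p ^ n`, and the group is no `p`-group. -/
theorem card_le_of_psl (hF : Fintype.card F = p ^ n)
    {A : Subgroup (Matrix.ProjectiveSpecialLinearGroup (Fin 2) F)} (hA : IsPGroup p A) :
    Nat.card A ≤ p ^ n ∧ ¬ IsPGroup p (Matrix.ProjectiveSpecialLinearGroup (Fin 2) F) := by
  haveI := NatSL2.charP_of_card hF
  obtain ⟨x, hx, hx0, hc, hgx⟩ := PSL2.card_psl_split (F := F) p
  have hF' : Nat.card F = p ^ n := by rw [Nat.card_eq_fintype_card, hF]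
  have hp : p.Prime := Fact.out
  constructor
  · obtain ⟨k, hk⟩ := IsPGroup.iff_card.mp hA
    have h1 : Nat.card A ∣ p ^ n * x := by
      rw [← hF', ← hc]
      exact Subgroup.card_subgroup_dvd_card A
    rw [hk] at h1 ⊢
    exact Nat.le_of_dvd (pow_pos hp.pos n)
      (((hp.coprime_iff_not_dvd.2 hx).pow_left k).dvd_of_dvd_mul_right h1)
  · intro h
    obtain ⟨k, hk⟩ := IsPGroup.iff_card.mp h
    have h1 : x = 1 := by
      have h2 : x ∣ p ^ k := hk ▸ hc ▸ Dvd.intro_left _ rfl
      exact Nat.eq_one_of_dvd_coprimes ((hp.coprime_iff_not_dvd.2 hx).pow_left k).symm dvd_rfl h2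
    rw [h1, mul_one] at hgx
    have hq : 2 ≤ Nat.card F := Finite.one_lt_card
    have h2 : Nat.gcd 2 (Nat.card F - 1) ≤ 2 := Nat.le_of_dvd two_pos (Nat.gcd_dvd_left _ _)
    nlinarith [Nat.sub_add_cancel (le_trans one_le_two hq), Nat.zero_le (Nat.card F - 1)]

end Cfsg.Agent.PushUp
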