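/-
Pushing up over `PSL₂(q)`: the two configurations in a group with a suitable ambient group.

Main definitions and results (namespace `Cfsg.Agent.PushUp`):
* `Amb`           : an injective map into a finite group with a subgroup permuting the Sylow subgroup
* `One`           : the first configuration
* `Amb.exists_hyp`: the basic hypotheses hold
* `Hyp.config`    : one of the configurations occurs
-/
import Cfsg.Agent.Lib.PushUp.Base
import Cfsg.Agent.Lib.PushUp.DistanceTwo
import Cfsg.Agent.Lib.PGroup.Regular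
import Cfsg.Agent.S2770

set_option autoImplicit false

namespace Cfsg.Agent.PushUp

open Subgroup
open scoped commutatorElement

section Maps

variable {A B : Type*} [Group A] [Group B]

theorem map_inf_centralizer {f : A →* B} (hf : Function.Injective f) (X Y : Subgroup A) :
    (X ⊓ centralizer (Y : Set A)).map f = X.map f ⊓ centralizer (Y.map f : Set B) := by
  refine le_antisymm ?_ ?_
  · rintro _ ⟨x, hx, rfl⟩
    refine ⟨⟨x, hx.1, rfl⟩, ?_⟩
    rintro _ ⟨y, hy, rfl⟩
    rw [← map_mul, ← map_mul, hx.2 y hy]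
  · rintro _ ⟨⟨x, hx, rfl⟩, hc⟩
    refine ⟨x, ⟨hx, fun y hy => hf ?_⟩, rfl⟩
    rw [map_mul, map_mul]
    exact hc _ ⟨y, hy, rfl⟩

theorem cj_inf_centralizer (g : A) (X Y : Subgroup A) :
    cj g (X ⊓ centralizer (Y : Set A)) = cj g X ⊓ centralizer (cj g Y : Set A) :=
  map_inf_centralizer (MulAut.conj g).injective X Y

theorem mem_normalizer_inf_centralizer {g : A} {X Y : Subgroup A} (hX : g ∈ normalizer (X : Set A))
    (hY : g ∈ normalizer (Y : Set A)) :
    g ∈ normalizer ((X ⊓ centralizer (Y : Set A) : Subgroup A) : Set A) :=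
  mem_normalizer_of_cj_eq (by rw [cj_inf_centralizer, cj_eq_self hX, cj_eq_self hY])

end Maps

variable {G : Type*} [Group G] {Γ : Type*} [Group Γ]

/-- A suitable ambient group. -/
structure Amb (S : Subgroup G) (ι : G →* Γ) (N : Subgroup Γ) : Prop where
  inj : Function.Injective ι
  norm : N ≤ normalizer (S.map ι : Set Γ)
  hd : ∀ T : Subgroup G, T ≤ S → T ≠ ⊥ → T.Normal → N ≤ normalizer (T.map ι : Set Γ) → False

/-- The first configuration. -/
structure One (p : ℕ) (S Z' : Subgroup G) : Prop where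
  le : Z' ≤ S
  comm : Z' ≤ centralizer (Z' : Set G)
  pow : ∀ z ∈ Z', z ^ p = 1
  not_le : ¬ Z' ≤ Cfsg.pCore p G
  cover : S ≤ Z' ⊔ Cfsg.pCore p G
  coverQ : Cfsg.pCore p G ≤ normalClosure ((S ⊓ centralizer (S : Set G) : Subgroup G) : Set G) ⊔
    (Cfsg.pCore p G ⊓ centralizer (Z' : Set G))
  quad : ⁅Z', S⁆ ≤ S ⊓ centralizer (S : Set G)

namespace Amb

variable {S : Subgroup G} {ι : G →* Γ} {N : Subgroup Γ}

theorem bot_of_normal (hA : Amb S ι N) {T : Subgroup G} (hT : T ≤ S) (hn : T.Normal)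
    (hN : N ≤ normalizer (T.map ι : Set Γ)) : T = ⊥ :=
  by_contra fun h => hA.hd T hT h hn hN

theorem norm_center (hA : Amb S ι N) :
    N ≤ normalizer ((S ⊓ centralizer (S : Set G)).map ι : Set Γ) := fun n hn => by
  rw [map_inf_centralizer hA.inj]
  exact mem_normalizer_inf_centralizer (hA.norm hn) (hA.norm hn)

theorem center_not_normal (hA : Amb S ι N) (hS : S ⊓ centralizer (S : Set G) ≠ ⊥) :
    ¬ (S ⊓ centralizer (S : Set G)).Normal := fun h =>
  hS (hA.bot_of_normal inf_le_left h hA.norm_center)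

theorem lcs_eq_bot (hA : Amb S ι N) {k : ℕ} (h : (S.lowerCentralSeries k).Normal) :
    S.lowerCentralSeries k = ⊥ := by
  refine hA.bot_of_normal (lowerCentralSeries_le_self S k) h fun n hn => mem_normalizer_of_cj_eq ?_
  show ((S.lowerCentralSeries k).map ι).map _ = _
  rw [map_lowerCentralSeries, map_lowerCentralSeries]
  exact congrArg (fun X : Subgroup Γ => X.lowerCentralSeries k) (cj_eq_self (hA.norm hn))

theorem powerClosure_eq_bot (hA : Amb S ι N) {p k : ℕ} (h : (Cfsg.powerClosure p k S).Normal) :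
    Cfsg.powerClosure p k S = ⊥ := by
  refine hA.bot_of_normal ((closure_le _).mpr ?_) h fun n hn => mem_normalizer_of_cj_eq ?_
  · rintro _ ⟨x, hx, rfl⟩
    exact pow_mem hx _
  show ((Cfsg.powerClosure p k S).map ι).map _ = _
  rw [PGroup.map_powerClosure, PGroup.map_powerClosure]
  exact congrArg (Cfsg.powerClosure p k) (cj_eq_self (hA.norm hn))

/-- The basic hypotheses. -/
theorem exists_hyp [Finite G] {p n : ℕ} [Fact p.Prime] {S : Sylow p G}
    (hA : Amb (S : Subgroup G) ι N)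
    (hE₁ : centralizer (Cfsg.pCore p G : Set G) ≤ Cfsg.pCore p G)
    (hE₂ : ∃! M : Subgroup G, IsCoatom M ∧ (S : Subgroup G) ≤ M) (K : Subgroup G) [K.Normal]
    (F : Type) [Field F] [Fintype F] (hn : 1 ≤ n) (hF : Fintype.card F = p ^ n)
    (hE₃ : Nonempty (G ⧸ K ≃* Matrix.ProjectiveSpecialLinearGroup (Fin 2) F)) :
    ∃ (M : Subgroup G) (π : G →* Matrix.ProjectiveSpecialLinearGroup (Fin 2) F),
      Hyp p n G (S : Subgroup G) M F π := by
  obtain ⟨M, hM, -⟩ := id hE₂
  obtain ⟨e⟩ := id hE₃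
  refine ⟨M, e.toMonoidHom.comp (QuotientGroup.mk' K),
    { sylow := ⟨S, rfl⟩, E1 := hE₁, E2 := hE₂, max := hM
      surj := e.surjective.comp (QuotientGroup.mk'_surjective K)
      one_le := hn, card := hF
      center_not := ?_, tilde_not := ?_, center_pow := ?_ }⟩
  all_goals
    have hSne : (S : Subgroup G) ≠ ⊥ := fun h0 => by
      refine not_le_sylow_of_psl hF S (e.toMonoidHom.comp (QuotientGroup.mk' K))
        (e.surjective.comp (QuotientGroup.mk'_surjective K)) fun x _ => ?_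
      have h1 : Cfsg.pCore p G = ⊥ := le_bot_iff.mp (h0 ▸ Cores.pCore_le_sylow S)
      have h2 : x ∈ Cfsg.pCore p G := hE₁ fun y hy => by
        rw [mem_bot.mp (h1 ▸ hy : y ∈ (⊥ : Subgroup G)), one_mul, mul_one]
      rw [mem_bot.mp (h1 ▸ h2 : x ∈ (⊥ : Subgroup G))]
      exact one_mem _
    have hZne : (S : Subgroup G) ⊓ centralizer ((S : Subgroup G) : Set G) ≠ ⊥ := fun h0 => by
      haveI := (Subgroup.nontrivial_iff_ne_bot _).mpr hSne
      haveI := S.2.center_nontrivial
      obtain ⟨z, hz⟩ := exists_ne (1 : center ↥(S : Subgroup G))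
      refine hz (Subtype.ext (Subtype.ext ?_))
      exact mem_bot.mp (h0 ▸ (show ((z : ↥(S : Subgroup G)) : G) ∈ _ from
        ⟨(z : ↥(S : Subgroup G)).2, fun s hs =>
          congrArg Subtype.val (mem_center_iff.mp z.2 ⟨s, hs⟩)⟩))
  · exact hA.center_not_normal hZne
  · intro h
    refine hZne (le_bot_iff.mp ?_)
    rw [← hA.bot_of_normal inf_le_left h fun k hk => ?_]
    · exact le_inf inf_le_left fun z hz x hx =>
        hz.2 x (PLocal.thompsonSubgroupAOf_le _ hx.1)
    · rw [map_inf_centralizer hA.inj]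
      refine mem_normalizer_inf_centralizer (hA.norm hk) ?_
      show k ∈ normalizer (((Cfsg.thompsonSubgroupAOf (S : Subgroup G)) ⊓ centralizer
        (Cfsg.thompsonSubgroupAOf (S : Subgroup G) : Set G)).map ι : Set Γ)
      rw [map_inf_centralizer hA.inj, PLocal.map_thompsonSubgroupAOf ι hA.inj.injOn]
      have := PLocal.normalizer_le_normalizer_thompsonSubgroupAOf _ (hA.norm hk)
      exact mem_normalizer_inf_centralizer this this
  · by_contra hpow
    have hel : ¬ Cfsg.IsElementaryAbelian p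
        ((S : Subgroup G) ⊓ centralizer ((S : Subgroup G) : Set G)) := fun h => hpow h.2
    set Zs := (S : Subgroup G) ⊓ centralizer ((S : Subgroup G) : Set G)
    rcases Cfsg.Agent.S2770.result S hE₁ hE₂ K F n hn hF hE₃ hel with h | h
    · refine hpow fun z hz => ?_
      have h1 : Cfsg.powerClosure p 1 Zs = ⊥ := by
        refine hA.bot_of_normal ((closure_le _).mpr ?_) h fun k hk => mem_normalizer_of_cj_eq ?_
        · rintro _ ⟨x, hx, rfl⟩
          exact pow_mem hx.1 _
        show ((Cfsg.powerClosure p 1 Zs).map ι).map _ = _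
        rw [PGroup.map_powerClosure, PGroup.map_powerClosure]
        exact congrArg (Cfsg.powerClosure p 1) (cj_eq_self (hA.norm_center hk))
      have h2 : z ^ p ^ 1 ∈ Cfsg.powerClosure p 1 Zs := PGroup.pow_mem_powerClosure 1 hz
      rwa [h1, mem_bot, pow_one] at h2
    · refine hZne (le_bot_iff.mp ?_)
      rw [← hA.bot_of_normal inf_le_left h fun k hk => ?_]
      · exact le_inf inf_le_left fun z hz x hx =>
          hz.2 x (PLocal.thompsonSubgroupAOf_le _ hx.1)
      · rw [map_inf_centralizer hA.inj]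
        refine mem_normalizer_inf_centralizer (hA.norm hk) ?_
        show k ∈ normalizer (((Cfsg.thompsonSubgroupAOf (S : Subgroup G)) ⊓ centralizer
          (Cfsg.thompsonSubgroupAOf (S : Subgroup G) : Set G)).map ι : Set Γ)
        rw [map_inf_centralizer hA.inj, PLocal.map_thompsonSubgroupAOf ι hA.inj.injOn]
        have := PLocal.normalizer_le_normalizer_thompsonSubgroupAOf _ (hA.norm hk)
        exact mem_normalizer_inf_centralizer this this

end Amb

variable [Finite G] [Finite Γ] {p n : ℕ} [Fact p.Prime] {F : Type*} [Field F] [Fintype F]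
  {S M : Subgroup G} {π : G →* Matrix.ProjectiveSpecialLinearGroup (Fin 2) F}
  {ι : G →* Γ} {N : Subgroup Γ}

/-- One of the configurations occurs. -/
theorem Hyp.config (h : Hyp p n G S M F π) (hA : Amb S ι N) :
    ⁅(sysOf p S M).Z, S⁆ ≤ (sysOf p S M).Zs ∧
    ((∃ Z', One p S Z' ∧ ∃ k ∈ N, cj k ((Cfsg.pCore p G).map ι) =
        (Z' ⊔ (Cfsg.pCore p G ⊓ centralizer (Z' : Set G))).map ι) ∨
      CaseTwo p (p ^ n) (sysOf p S M)) := by
  set Q := Cfsg.pCore p G
  set Zs := S ⊓ centralizer (S : Set G)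
  set Z := normalClosure (Zs : Set G)
  have L : Loc p (p ^ n) ⊤ S Q Z (Z ⊓ center G) Zs (Cfsg.pResidual p G) M := h.loc
  have Lg := L.mapHom ι hA.inj
  let Y : Sys Γ :=
    { P := (⊤ : Subgroup G).map ι, S := S.map ι, Q := Q.map ι, Z := Z.map ι
      C := (Z ⊓ center G).map ι, Zs := Zs.map ι, O := (Cfsg.pResidual p G).map ι, M := M.map ι, N := N }
  have hY : Setup p (p ^ n) Y :=
    { loc := Lg, NS := hA.norm, NZs := hA.norm_center
      ne_bot := fun h0 => by
        have h1 := Lg.relZ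
        rw [show Z.map ι = ⊥ from h0, relIndex_eq_one.mpr bot_le] at h1
        exact Lg.q_pos.ne h1
      hd := fun T hT hne hP hN => by
        have hTr : T ≤ ι.range := hT.trans (map_le_range ι S)
        refine hA.hd (T.comap ι) ?_ ?_ ?_ ?_
        · exact fun x hx => by
            obtain ⟨y, hy, he⟩ := hT hx
            rwa [← hA.inj he]
        · intro h0
          refine hne ?_
          rw [← map_comap_eq_self hTr, h0, Subgroup.map_bot]
        · refine ⟨fun x hx g => ?_⟩
          show ι (g * x * g⁻¹) ∈ T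
          rw [map_mul, map_mul, map_inv]
          exact (mem_normalizer_iff.mp (hP ⟨g, mem_top g, rfl⟩) _).mp hx
        · rwa [map_comap_eq_self hTr] }
  obtain ⟨hquad, hcase⟩ := hY.cases
  have hq : ⁅Z, S⁆ ≤ Zs := by
    rw [← map_le_map_iff_of_injective hA.inj, map_commutator]
    exact hquad
  refine ⟨hq, ?_⟩
  rcases hcase with ⟨k, hk, hnot⟩ | ⟨X, D, U, Z₀, ⟨a1, a2, a3, a4, a5⟩,
    ⟨b1, b2, b3, b4, b5, b6⟩, ⟨c1, c2, c3, c4, c5⟩, ⟨d1, d2, x, hx, u, hu, hxu⟩, e1, e2, Y', e3, e4,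
    e5⟩
  · left
    have Ln := Lg.map k
    have hSk : cj k (S.map ι) = S.map ι := cj_eq_self (hA.norm hk)
    have hZsk : cj k (Zs.map ι) = Zs.map ι := cj_eq_self (hA.norm_center hk)
    rw [hSk, hZsk] at Ln
    set Z'' := cj k (Z.map ι)
    set Q'' := cj k (Q.map ι)
    have hnot' : ¬ Z'' ≤ Q.map ι := hnot
    have hfar : ¬ Z.map ι ≤ Q'' := fun hle => hnot' fun z hz => Lg.cent_S
      ⟨Ln.Z_le_S hz, fun x hx => (Ln.Q_cent (hle hx) z hz).symm⟩
    obtain ⟨u₁, hu₁, hu₁Q⟩ := SetLike.not_le_iff_exists.mp hfar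
    obtain ⟨u₂, hu₂, hu₂Q⟩ := SetLike.not_le_iff_exists.mp hnot'
    have hcov₁ : S.map ι ≤ Z'' ⊔ Q.map ι := Lg.cover Ln.Z_le_S
      (Ln.relZ.ge.trans (relIndex_le_of_le_left (fun z hz => Ln.mem_of_comm (Lg.Z_le_S hu₁) hu₁Q hz.1
        (commutatorElement_eq_one_iff_mul_comm.mpr (Lg.Q_cent hz.2 u₁ hu₁).symm))
        index_ne_zero_of_finite))
    have hcov₂ : S.map ι ≤ Z.map ι ⊔ Q'' := Ln.cover Lg.Z_le_S
      (Lg.relZ.ge.trans (relIndex_le_of_le_left (fun z hz => Lg.mem_of_comm (Ln.Z_le_S hu₂) hu₂Q hz.1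
        (commutatorElement_eq_one_iff_mul_comm.mpr (Ln.Q_cent hz.2 u₂ hu₂).symm))
        index_ne_zero_of_finite))
    set Z' := Z''.comap ι
    have hZ' : Z'.map ι = Z'' := map_comap_eq_self (Ln.Z_le_S.trans (map_le_range ι S))
    have hle : Z' ≤ S := by
      rw [← map_le_map_iff_of_injective hA.inj, hZ']
      exact Ln.Z_le_S
    have hQ'' : ∀ a, ι a ∈ Q'' ↔ a ∈ S ⊓ centralizer (Z' : Set G) := fun a => by
      constructor
      · intro ha
        refine ⟨?_, fun z hz => hA.inj ?_⟩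
        · obtain ⟨y, hy, he⟩ := Ln.Q_le ha
          rwa [← hA.inj he]
        · rw [map_mul, map_mul]
          exact Ln.Q_cent ha _ hz
      · intro ha
        refine Ln.cent_S ⟨mem_map_of_mem ι ha.1, ?_⟩
        rw [← hZ']
        rintro _ ⟨z, hz, rfl⟩
        rw [← map_mul, ← map_mul, ha.2 z hz]
    have hcoverQ : Q ≤ Z ⊔ (Q ⊓ centralizer (Z' : Set G)) := fun a ha => by
      obtain ⟨z', hz', b, hb, he⟩ := exists_mul_of_mem_sup_normalizer
        (Lg.Z_le_S.trans (Ln.S_le.trans Ln.normQ)) (hcov₂ (Lg.Q_le (mem_map_of_mem ι ha)))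
      obtain ⟨z, hz, rfl⟩ := hz'
      have hb' : b = ι (z⁻¹ * a) := by rw [map_mul, map_inv, he, inv_mul_cancel_left]
      rw [show a = z * (z⁻¹ * a) by group]
      refine mul_mem (mem_sup_left hz) (mem_sup_right (mem_inf.mpr ⟨mul_mem (inv_mem (L.Z_le hz)) ha, ?_⟩))
      exact ((hQ'' _).mp (hb' ▸ hb)).2
    refine ⟨Z', { le := hle, comm := ?_, pow := ?_, not_le := ?_, cover := ?_, coverQ := hcoverQ,
                  quad := ?_ }, k, hk, ?_⟩
    · intro a ha b hb
      refine hA.inj ?_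
      rw [map_mul, map_mul]
      exact Ln.Z_comm ha _ hb
    · intro z hz
      refine hA.inj ?_
      rw [map_pow, map_one]
      exact Ln.powZ _ hz
    · intro h1
      exact hnot' (hZ' ▸ map_mono h1)
    · rw [← map_le_map_iff_of_injective hA.inj, Subgroup.map_sup, hZ']
      exact hcov₁
    · rw [← map_le_map_iff_of_injective hA.inj, map_commutator, hZ']
      have := cj_mono (g := k) hquad
      rw [cj_commutator, show cj k Y.S = S.map ι from hSk, show cj k Y.Zs = Zs.map ι from hZsk] at this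
      exact this
    · refine le_antisymm ?_ ?_
      · intro b hb
        obtain ⟨a, ha, rfl⟩ := Ln.Q_le hb
        refine ⟨a, ?_, rfl⟩
        have haS : a ∈ Z' ⊔ Q := (map_le_map_iff_of_injective hA.inj).mp (by
          rw [Subgroup.map_sup, hZ']; exact hcov₁) ha
        obtain ⟨z, hz, c, hc, rfl⟩ := exists_mul_of_mem_sup_normalizer
          (hle.trans (le_top.trans L.normQ)) haS
        refine mul_mem (mem_sup_left hz) (mem_sup_right ⟨hc, ?_⟩)
        have h2 : ι c ∈ Q'' := by
          rw [show c = z⁻¹ * (z * c) by group, map_mul, map_inv]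
          exact mul_mem (inv_mem (Ln.Z_le hz)) hb
        exact ((hQ'' c).mp h2).2
      · rw [Subgroup.map_sup, hZ']
        refine sup_le Ln.Z_le ?_
        rintro _ ⟨a, ha, rfl⟩
        exact (hQ'' a).mpr ⟨L.Q_le ha.1, ha.2⟩
  · right
    have hrS : ∀ {T : Subgroup Γ}, T ≤ S.map ι → (T.comap ι).map ι = T := fun hT =>
      map_comap_eq_self (hT.trans (map_le_range ι S))
    have hX := hrS (a3.trans (map_mono L.Q_le))
    have hD := hrS b1
    have hU := hrS (c1.trans b1)
    have hZ₀ := hrS (d1.trans (a3.trans (map_mono L.Q_le)))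
    have hinf : ((X.comap ι) ⊓ (D.comap ι)).map ι = X ⊓ D := by
      rw [map_inf _ _ _ hA.inj, hX, hD]
    have hQD : (Q ⊓ D.comap ι).map ι = Q.map ι ⊓ D := by rw [map_inf _ _ _ hA.inj, hD]
    have hle := fun {A B : Subgroup G} => (map_le_map_iff_of_injective hA.inj (H := A) (K := B))
    obtain ⟨x', rfl⟩ : x ∈ ι.range :=
      (map_le_range ι _) (a3 (d1 hx) : x ∈ Q.map ι)
    obtain ⟨u', rfl⟩ : u ∈ ι.range := (map_le_range ι _) (b1 (c1 hu) : u ∈ S.map ι)
    refine ⟨X.comap ι, D.comap ι, U.comap ι, Z₀.comap ι, ⟨?_, ?_, ?_, ?_, ?_⟩,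
      ⟨?_, ?_, ?_, ?_, ?_, ?_⟩, ⟨comap_mono c1, ?_, ?_, ?_, ?_⟩, ⟨comap_mono d1, ?_,
      x', hx, u', hu, ?_⟩, ?_, ?_, Y'.comap ι, ?_, ?_, ?_⟩
    · intro g _
      rw [mem_normalizer_iff]
      intro y
      simp only [mem_comap, map_mul, map_inv]
      exact mem_normalizer_iff.mp (a1 ⟨g, mem_top g, rfl⟩) (ι y)
    · rw [← hle, hX]; exact a2
    · rw [← hle, hX]; exact a3
    · rw [← hle, map_commutator, hX]; exact a4
    · rw [← hle, map_commutator, hX]; exact a5
    · rw [← hle, hD]; exact b1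
    · intro g hg
      rw [mem_normalizer_iff]
      intro y
      simp only [mem_comap, map_mul, map_inv]
      exact mem_normalizer_iff.mp (b2 ⟨g, hg, rfl⟩) (ι y)
    · show (Q ⊓ D.comap ι).relIndex Q ≤ p ^ n
      rw [← relIndex_map_map_of_injective _ _ hA.inj, hQD]; exact b3
    · show Q ≤ X.comap ι ⊔ (Q ⊓ D.comap ι)
      rw [← hle, Subgroup.map_sup, hX, hQD]; exact b4
    · show ⁅X.comap ι, S⁆ ≤ X.comap ι ⊓ D.comap ι
      rw [← hle, map_commutator, hinf, hX]; exact b5
    · show ⁅X.comap ι ⊓ D.comap ι, S⁆ ≤ Zs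
      rw [← hle, map_commutator, hinf]; exact b6
    · intro a ha b hb
      refine hA.inj ?_
      rw [map_mul, map_mul]
      exact c2 ha _ hb
    · intro a ha
      refine hA.inj ?_
      rw [map_pow, map_one]
      exact c3 _ ha
    · show S ≤ U.comap ι ⊔ Q
      rw [← hle, Subgroup.map_sup, hU]; exact c4
    · show ⁅D.comap ι, U.comap ι⁆ ≤ Zs
      rw [← hle, map_commutator, hD, hU]; exact c5
    · intro a ha
      refine hA.inj ?_
      rw [map_pow, map_one]
      exact d2 _ ha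
    · intro v hv hvQ hC
      refine hxu (ι v) hv (fun hq' => hvQ ?_) ?_
      · obtain ⟨y, hy, he⟩ := hq'
        exact hA.inj he ▸ hy
      · show ⁅⁅ι x', ι u'⁆, ι v⁆ ∈ (Z ⊓ center G).map ι
        rw [← map_commutatorElement, ← map_commutatorElement]
        exact mem_map_of_mem ι hC
    · intro v hv hvQ
      obtain ⟨y, hy, hxy⟩ := e1 (ι v) hv fun hq' => hvQ (by
        obtain ⟨z, hz, he⟩ := hq'
        exact hA.inj he ▸ hz)
      obtain ⟨y', rfl⟩ : y ∈ ι.range := (map_le_range ι _) (a3 (d1 hy) : y ∈ Q.map ι)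
      refine ⟨y', hy, fun hC => hxy ?_⟩
      show ⁅⁅ι y', ι v⁆, ι v⁆ ∈ (Z ⊓ center G).map ι
      rw [← map_commutatorElement, ← map_commutatorElement]
      exact mem_map_of_mem ι hC
    · show ⁅D.comap ι, U.comap ι⁆ ≤ ⁅Z, S⁆
      rw [← hle, map_commutator, map_commutator, hD, hU]; exact e2
    · show Y'.comap ι ≤ Q
      rw [← hle, map_comap_eq_self (e3.trans (map_le_range ι Q))]; exact e3
    · intro d hd y hy
      refine hA.inj ?_
      rw [map_mul, map_mul]
      exact e4 hd (ι y) hy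
    · refine e5.trans_eq ?_
      have h1 : Y' = (Y'.comap ι).map ι := (map_comap_eq_self (e3.trans (map_le_range ι Q))).symm
      conv_lhs => rw [h1, ← hZ₀, ← map_commutator]
      exact card_map_of_injective hA.inj

end Cfsg.Agent.PushUp
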