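/-
Pushing up over `PSL₂(q)`: the first configuration.

Main results (namespace `Cfsg.Agent.PushUp`):
* `Hyp.natural_center` : `Z / C` is natural
* `One.main`           : `G / O_p(G) ≅ SL₂(q)` and `O^p` centralises `O_p(G) / Z`
* `One.classTwo`       : the Sylow subgroup has class two
* `One.exponent_eq`    : its exponent
-/
import Cfsg.Agent.Lib.PushUp.Config
import Cfsg.Agent.Lib.PushUp.Chief
import Cfsg.Agent.Lib.PGroup.Power
import Mathlib.GroupTheory.Exponent

set_option autoImplicit false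

namespace Cfsg.Agent.PushUp

open Subgroup
open scoped commutatorElement

variable {G : Type*} [Group G] [Finite G] {p n : ℕ} [Fact p.Prime]
  {F : Type*} [Field F] [Fintype F] {S M : Subgroup G}
  {π : G →* Matrix.ProjectiveSpecialLinearGroup (Fin 2) F}

/-- The normal closure of the centre of `S`. -/
abbrev zn (S : Subgroup G) : Subgroup G :=
  normalClosure ((S ⊓ centralizer (S : Set G) : Subgroup G) : Set G)

omit [Finite G] [Fact p.Prime] in
theorem le_pCore_of_coprime {K : Subgroup G} [hK : K.Normal] [Finite G] [Fact p.Prime]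
    (h : ∀ x ∈ K, (orderOf x).Coprime p → x = 1) : K ≤ Cfsg.pCore p G := by
  refine Cores.le_pCore hK fun x => ?_
  have hp : p.Prime := Fact.out
  obtain ⟨a, m, hm, hxm⟩ := Nat.exists_eq_pow_mul_and_not_dvd (orderOf_pos (x : G)).ne' p hp.ne_one
  refine ⟨a, Subtype.ext ?_⟩
  simp only [SubmonoidClass.coe_pow, OneMemClass.coe_one]
  refine h _ (pow_mem x.2 _) ?_
  rw [orderOf_pow' _ (pow_ne_zero _ hp.ne_zero), hxm, Nat.gcd_mul_right_left, Nat.mul_div_cancel_left _
    (pow_pos hp.pos a)]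
  exact ((Nat.Prime.coprime_iff_not_dvd hp).mpr hm).symm

theorem Hyp.locG (h : Hyp p n G S M F π) :
    Loc p (p ^ n) ⊤ S (Cfsg.pCore p G) (zn S) (zn S ⊓ center G) (S ⊓ centralizer (S : Set G))
      (Cfsg.pResidual p G) M := h.loc

theorem Hyp.le_or (h : Hyp p n G S M F π) (N : Subgroup G) [N.Normal] :
    Cfsg.pResidual p G ≤ N ∨ S ⊓ N ≤ Cfsg.pCore p G := by
  obtain ⟨P, rfl⟩ := h.sylow
  exact PushUp.le_or_le h.E2 N

theorem Hyp.exists_w (h : Hyp p n G S M F π) : ∃ w, w ∉ M := by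
  by_contra hno
  push Not at hno
  exact h.max.1.1 (eq_top_iff.mpr fun x _ => hno x)

/-- The normal closure of the centre is natural modulo the centre. -/
theorem Hyp.natural_center (h : Hyp p n G S M F π)
    (hquad : ⁅zn S, S⁆ ≤ S ⊓ centralizer (S : Set G)) {w : G} (hw : w ∉ M) :
    ∃ (ρ : G →* Matrix.SpecialLinearGroup (Fin 2) F) (ψ : G → Fin 2 → F),
      Natural F S (Cfsg.pCore p G) M w (S ⊓ centralizer (S : Set G)) (zn S) (zn S ⊓ center G) ρ ψ := by
  have L := h.locG
  refine exists_natural (q := p ^ n) (L.pS.to_le L.Z_le_S) L.C_le L.Zs_le ?_ L.Q_le L.Z_le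
    (inf_le_left.trans L.Z_le) L.relS ?_ ?_ ?_ L.fix L.relZ.le ?_
    (fun g hg => h.sup_conj_eq_top hg) h.max.2 hw F h.card
  · intro hle
    exact L.comm_not_le ((commutator_mono hle le_rfl).trans (commutator_le.mpr fun z hz s _ => by
      rw [commutatorElement_eq_one_iff_mul_comm.mpr (mem_center_iff.mp hz.2 s).symm]
      exact one_mem _))
  · intro x hx a ha
    rw [commutatorElement_eq_one_iff_mul_comm.mpr (L.Q_cent ha x hx)]
    exact one_mem _
  · exact fun x hx s hs => hquad (commutator_mem_commutator hx hs)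
  · intro x hx s hs
    rw [commutatorElement_eq_one_iff_mul_comm.mpr ((L.S_cent hs) x hx)]
    exact one_mem _
  · intro x hx hxg
    obtain ⟨u, hu, huQ⟩ := SetLike.not_le_iff_exists.mp (fun hle : S ≤ Cfsg.pCore p G => by
      have h1 := L.relS
      rw [relIndex_eq_one.mpr hle] at h1
      exact L.q_pos.ne h1)
    refine L.inf_le (h.sup_conj_eq_top hw) (L.fix u hu huQ x hx (hxg u)) ?_
    rintro _ ⟨s, hs, rfl⟩
    have h2 : w⁻¹ * x * w ∈ S ⊓ centralizer (S : Set G) := by
      refine L.fix u hu huQ _ ?_ ?_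
      · have := (inferInstance : (zn S).Normal).conj_mem x hx w⁻¹
        rwa [inv_inv] at this
      · have h3 := hxg (w * u * w⁻¹)
        rw [show ⁅w⁻¹ * x * w, u⁆ = w⁻¹ * ⁅x, w * u * w⁻¹⁆ * w by
          simp only [commutatorElement_def]; group]
        have := (inferInstance : (zn S ⊓ center G).Normal).conj_mem _ h3 w⁻¹
        rwa [inv_inv] at this
    show w * s * w⁻¹ * x = x * (w * s * w⁻¹)
    calc w * s * w⁻¹ * x = w * (s * (w⁻¹ * x * w)) * w⁻¹ := by group
      _ = w * (w⁻¹ * x * w * s) * w⁻¹ := by rw [L.S_cent hs _ h2]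
      _ = x * (w * s * w⁻¹) := by group

theorem cm_top_normal {X W : Subgroup G} [hX : X.Normal] [hW : W.Normal] : (cm ⊤ W X).Normal :=
  ⟨fun x hx g => by
    have h1 : cj g (cm ⊤ W X) ≤ cm ⊤ W X := by
      refine (cj_cm g ⊤ W X).trans ?_
      rw [cj_eq_self (le_normalizer (mem_top g) : g ∈ normalizer ((⊤ : Subgroup G) : Set G)),
        cj_eq_self (by rw [normalizer_eq_top]; trivial), cj_eq_self (by rw [normalizer_eq_top]; trivial)]
    exact h1 (conj_mem_cj hx)⟩

variable {Z' : Subgroup G}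

/-- The structure of `G / O_p(G)` in the first configuration. -/
theorem One.main (h1 : One p S Z') (h : Hyp p n G S M F π)
    (hquad : ⁅zn S, S⁆ ≤ S ⊓ centralizer (S : Set G)) {w : G} (hw : w ∉ M) :
    ∃ (ρ : G →* Matrix.SpecialLinearGroup (Fin 2) F) (ψ : G → Fin 2 → F),
      Natural F S (Cfsg.pCore p G) M w (S ⊓ centralizer (S : Set G)) (zn S) (zn S ⊓ center G) ρ ψ ∧
      ρ.ker = Cfsg.pCore p G ∧ ⁅Cfsg.pCore p G, Cfsg.pResidual p G⁆ ≤ zn S := by
  have L := h.locG
  set Q := Cfsg.pCore p G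
  haveI hQn : Q.Normal := Cores.pCore_normal p G
  obtain ⟨ρ, ψ, N⟩ := h.natural_center hquad hw
  have hQO : ⁅Q, Cfsg.pResidual p G⁆ ≤ zn S := by
    haveI := cm_top_normal (X := Q) (W := zn S)
    obtain ⟨u, hu, huQ⟩ := SetLike.not_le_iff_exists.mp h1.not_le
    have hmem : u ∈ cm ⊤ (zn S) Q := (mem_cm (by simp [normalizer_eq_top])).mpr ⟨mem_top u, fun a ha => by
      obtain ⟨z, hz, d, hd, rfl⟩ := mem_sup_of_normal_left.mp (h1.coverQ ha)
      rw [commutatorElement_right_mul_eq,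
        commutatorElement_eq_one_iff_mul_comm.mpr (hd.2 u hu), mul_one, mul_inv_cancel, mul_one]
      exact le_normalizer_iff_commutator_le_right.mp
        (by simp [normalizer_eq_top] : (⊤ : Subgroup G) ≤ normalizer (zn S : Set G))
        (commutator_mem_commutator (mem_top u) hz)⟩
    have hle := (h.le_or (cm ⊤ (zn S) Q)).resolve_right fun h0 => huQ (h0 ⟨h1.le hu, hmem⟩)
    rw [commutator_comm, commutator_le]
    exact fun o ho a ha => (hle ho).2 a ha
  refine ⟨ρ, ψ, N, le_antisymm (le_pCore_of_coprime fun x hx hco => ?_)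
    (fun a ha => MonoidHom.mem_ker.mpr ((N.kerS a (L.Q_le ha)).mpr ha)), hQO⟩
  have hxO : x ∈ Cfsg.pResidual p G := subset_closure hco
  have hQp : IsPGroup p Q := Cores.isPGroup_pCore p G
  have hbot : ∀ g : G, g ∈ normalizer ((⊥ : Subgroup G) : Set G) := fun g => by
    rw [normalizer_eq_top]; trivial
  have hZ : ∀ z ∈ zn S, ⁅x, z⁆ = 1 := fun z hz => by
    have hc : ⁅x, z⁆ ∈ zn S ⊓ center G := N.toNatSec.mem_ker_iff.mp hx z hz
    refine mem_bot.mp (mem_of_step (p := p) (k := 1) (hbot x) (hbot z) ?_ ?_ hco)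
    · exact mem_bot.mpr (commutatorElement_eq_one_iff_mul_comm.mpr (mem_center_iff.mp hc.2 x))
    · rw [pow_one]
      exact L.powZ _ hc.1
  have hxc : x ∈ centralizer (Q : Set G) := fun a ha => by
    have h2 : ⁅x, a⁆ ∈ zn S := by
      rw [← commutatorElement_inv]
      exact inv_mem (hQO (commutator_mem_commutator ha hxO))
    refine (commutatorElement_eq_one_iff_mul_comm.mp (mem_bot.mp
      (mem_of_step (p := p) (k := 1) (hbot x) (hbot a) ?_ ?_ hco))).symm
    · exact mem_bot.mpr (hZ _ h2)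
    · rw [pow_one]
      exact L.powZ _ h2
  obtain ⟨k, hk⟩ := hQp ⟨x, h.E1 hxc⟩
  have hk' : x ^ p ^ k = 1 := by simpa using congrArg Subtype.val hk
  exact orderOf_eq_one_iff.mp (Nat.eq_one_of_dvd_coprimes (hco.pow_right k) dvd_rfl
    (orderOf_dvd_of_pow_eq_one hk'))

/-- The commuting decomposition of `S`. -/
theorem One.decomp (h1 : One p S Z') (h : Hyp p n G S M F π)
    (hquad : ⁅zn S, S⁆ ≤ S ⊓ centralizer (S : Set G)) :
    ∀ s ∈ S, ∃ r ∈ Z' ⊔ zn S, ∃ d ∈ Cfsg.pCore p G ⊓ centralizer (Z' : Set G), s = r * d ∧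
      Commute r d ∧ ∀ a ∈ Z' ⊔ zn S, ∀ b ∈ Z' ⊔ zn S, ⁅a, b⁆ ∈ S ⊓ centralizer (S : Set G) := by
  have L := h.locG
  haveI hQn : (Cfsg.pCore p G).Normal := Cores.pCore_normal p G
  have hRS : Z' ⊔ zn S ≤ S := sup_le h1.le L.Z_le_S
  have hZsn : S ≤ normalizer ((S ⊓ centralizer (S : Set G) : Subgroup G) : Set G) := fun g hg =>
    mem_normalizer_inf_centralizer (le_normalizer hg) (le_normalizer hg)
  have hR : Z' ⊔ zn S ≤ cm S (S ⊓ centralizer (S : Set G)) S := sup_le
    (fun x hx => (mem_cm hZsn).mpr ⟨h1.le hx, fun t ht => h1.quad (commutator_mem_commutator hx ht)⟩)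
    fun x hx => (mem_cm hZsn).mpr
      ⟨L.Z_le_S hx, fun t ht => hquad (commutator_mem_commutator hx ht)⟩
  have hD : Cfsg.pCore p G ⊓ centralizer (Z' : Set G) ≤ centralizer ((Z' ⊔ zn S : Subgroup G) : Set G) := by
    rw [le_centralizer_iff]
    exact sup_le (fun z hz d hd => (hd.2 z hz).symm) (fun z hz d hd => (L.Q_cent hd.1 z hz).symm)
  intro s hs
  obtain ⟨z', hz', a, ha, rfl⟩ := mem_sup_of_normal_right.mp (h1.cover hs)
  obtain ⟨z, hz, d, hd, rfl⟩ := mem_sup_of_normal_left.mp (h1.coverQ ha)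
  refine ⟨z' * z, mul_mem (mem_sup_left hz') (mem_sup_right hz), d, hd, (mul_assoc _ _ _).symm,
    hD hd _ (mul_mem (mem_sup_left hz') (mem_sup_right hz)), fun a ha b hb => (hR ha).2 b (hRS hb)⟩

theorem One.sup_le_centralizer (h1 : One p S Z') (h : Hyp p n G S M F π) :
    Z' ⊔ zn S ≤ centralizer ((Cfsg.pCore p G ⊓ centralizer (Z' : Set G) : Subgroup G) : Set G) :=
  sup_le (fun z hz d hd => (hd.2 z hz).symm) (fun z hz d hd => (h.locG.Q_cent hd.1 z hz).symm)

theorem lcs_normal {Q : Subgroup G} [hQ : Q.Normal] (k : ℕ) : (Q.lowerCentralSeries k).Normal := by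
  induction k with
  | zero => exact hQ
  | succ k ih =>
    haveI := ih
    rw [Subgroup.lowerCentralSeries_succ]
    infer_instance

/-- The Sylow subgroup has class two. -/
theorem One.classTwo (h1 : One p S Z') (h : Hyp p n G S M F π)
    (hquad : ⁅zn S, S⁆ ≤ S ⊓ centralizer (S : Set G)) {Γ : Type*} [Group Γ] {ι : G →* Γ}
    {N : Subgroup Γ} (hA : Amb S ι N) :
    S.lowerCentralSeries 2 = ⊥ ∧ S.lowerCentralSeries 1 ≠ ⊥ := by
  have L := h.locG
  haveI hQn : (Cfsg.pCore p G).Normal := Cores.pCore_normal p G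
  set D := Cfsg.pCore p G ⊓ centralizer (Z' : Set G)
  set Zs := S ⊓ centralizer (S : Set G)
  have hdec := h1.decomp h hquad
  have hcR := h1.sup_le_centralizer h
  constructor
  · have hC : ∀ z ∈ Zs, ∀ s ∈ S, Commute s z := fun z hz s hs => hz.2 s hs
    have h1' : ⁅S, S⁆ ≤ Zs ⊔ ⁅D, D⁆ := by
      rw [commutator_le]
      intro s hs t ht
      obtain ⟨r, hr, d, hd, rfl, hrd, hR⟩ := hdec s hs
      obtain ⟨r', hr', d', hd', rfl, hrd', -⟩ := hdec t ht
      have c1 : ⁅r, d'⁆ = 1 := commutatorElement_eq_one_iff_mul_comm.mpr (hcR hr d' hd').symm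
      have c2 : ⁅d, r'⁆ = 1 := commutatorElement_eq_one_iff_mul_comm.mpr (hcR hr' d hd)
      have c3 : Commute d ⁅r, r'⁆ := hC _ (hR r hr r' hr') d (L.Q_le hd.1)
      have c4 : Commute r ⁅d, d'⁆ := by
        rw [commutatorElement_def]
        exact (((hrd.mul_right (hcR hr d' hd').symm).mul_right hrd.inv_right).mul_right
          (show Commute r d' from (hcR hr d' hd').symm).inv_right)
      have c5 : Commute r' ⁅d, d'⁆ := by
        rw [commutatorElement_def]
        exact ((((show Commute r' d from (hcR hr' d hd).symm).mul_right hrd').mul_right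
          (show Commute r' d from (hcR hr' d hd).symm).inv_right).mul_right hrd'.inv_right)
      have e : ⁅r * d, r' * d'⁆ = ⁅r, r'⁆ * ⁅d, d'⁆ := by
        rw [commutatorElement_mul_eq, commutatorElement_right_mul_eq (x := d), c2, one_mul,
          c5.eq, mul_inv_cancel_right, c4.eq, mul_inv_cancel_right, commutatorElement_right_mul_eq,
          c1, mul_one, mul_inv_cancel, mul_one]
        exact (hC _ (hR r hr r' hr') _ (L.Q_le (mul_mem (mul_mem (mul_mem hd hd') (inv_mem hd))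
          (inv_mem hd')).1)).eq
      rw [e]
      exact mul_mem (mem_sup_left (hR r hr r' hr'))
        (mem_sup_right (commutator_mem_commutator hd hd'))
    have h2 : S.lowerCentralSeries 2 ≤ D.lowerCentralSeries 2 := by
      show ⁅⁅S, S⁆, S⁆ ≤ ⁅⁅D, D⁆, D⁆
      have hn : Zs ≤ centralizer ((⁅D, D⁆ : Subgroup G) : Set G) := fun z hz c hc =>
        hC z hz c (L.Q_le ((commutator_le.mpr (fun a ha b hb => mul_mem (mul_mem (mul_mem ha.1 hb.1)
          (inv_mem ha.1)) (inv_mem hb.1)) : ⁅D, D⁆ ≤ Cfsg.pCore p G) hc))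
      refine (commutator_mono h1' le_rfl).trans (commutator_le.mpr fun x hx s hs => ?_)
      obtain ⟨z, hz, c, hc, rfl⟩ := exists_mul_of_mem_sup_normalizer
        (hn.trans (centralizer_le_normalizer _)) hx
      obtain ⟨r, hr, d, hd, rfl, hrd, -⟩ := hdec s hs
      have hcD : c ∈ D := (commutator_le.mpr fun a ha b hb =>
        mul_mem (mul_mem (mul_mem ha hb) (inv_mem ha)) (inv_mem hb) : ⁅D, D⁆ ≤ D) hc
      have c1 : ⁅c, r⁆ = 1 := commutatorElement_eq_one_iff_mul_comm.mpr (hcR hr c hcD)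
      have hcd : ⁅c, d⁆ ∈ D := mul_mem (mul_mem (mul_mem hcD hd) (inv_mem hcD)) (inv_mem hd)
      have c2 : z * ⁅c, r * d⁆ * z⁻¹ = ⁅c, d⁆ := by
        rw [commutatorElement_right_mul_eq, c1, one_mul, ← hcR hr _ hcd, mul_inv_cancel_right,
          ← (hC z hz _ (L.Q_le hcd.1)).eq, mul_inv_cancel_right]
      rw [commutatorElement_mul_eq, c2,
        commutatorElement_eq_one_iff_mul_comm.mpr (hz.2 (r * d) hs).symm, mul_one]
      exact commutator_mem_commutator hc hd
    refine hA.lcs_eq_bot ?_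
    rw [le_antisymm (h2.trans (lowerCentralSeries_mono 2 inf_le_left)) (lowerCentralSeries_mono 2 L.Q_le)]
    exact lcs_normal 2
  · intro h0
    refine L.comm_not_le ((commutator_mono L.Z_le_S le_rfl).trans ?_)
    exact h0.le.trans bot_le

/-- The exponent of the Sylow subgroup. -/
theorem One.exponent_eq (h1 : One p S Z') (h : Hyp p n G S M F π)
    (hquad : ⁅zn S, S⁆ ≤ S ⊓ centralizer (S : Set G)) {Γ : Type*} [Group Γ] {ι : G →* Γ}
    {N : Subgroup Γ} (hA : Amb S ι N) :
    (p = 2 → Monoid.exponent ↥S = 4) ∧ (p ≠ 2 → Monoid.exponent ↥S = p) := by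
  have hp : p.Prime := Fact.out
  have L := h.locG
  haveI hQn : (Cfsg.pCore p G).Normal := Cores.pCore_normal p G
  set D := Cfsg.pCore p G ⊓ centralizer (Z' : Set G)
  have hdec := h1.decomp h hquad
  have hcl := h1.classTwo h hquad hA
  have hexp : ∀ k : ℕ, (∀ r ∈ Z' ⊔ zn S, r ^ p ^ k = 1) → ∀ s ∈ S, s ^ p ^ k = 1 := by
    intro k hk
    have hle : Cfsg.powerClosure p k S ≤ Cfsg.powerClosure p k (Cfsg.pCore p G) := by
      rw [Cfsg.powerClosure, closure_le]
      rintro _ ⟨s, hs, rfl⟩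
      obtain ⟨r, hr, d, hd, rfl, hrd, -⟩ := hdec s hs
      rw [hrd.mul_pow, hk r hr, one_mul]
      exact PGroup.pow_mem_powerClosure k hd.1
    have hn : (Cfsg.powerClosure p k (Cfsg.pCore p G)).Normal := by
      rw [← normalizer_eq_top_iff, eq_top_iff]
      intro g _
      refine mem_normalizer_of_cj_eq ?_
      show (Cfsg.powerClosure p k (Cfsg.pCore p G)).map _ = _
      rw [PGroup.map_powerClosure]
      exact congrArg (Cfsg.powerClosure p k)
        (cj_eq_self (by rw [normalizer_eq_top]; trivial))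
    have h0 := hA.powerClosure_eq_bot (p := p) (k := k)
      (le_antisymm hle (PGroup.powerClosure_mono k L.Q_le) ▸ hn)
    intro s hs
    exact mem_bot.mp (h0 ▸ PGroup.pow_mem_powerClosure k hs)
  have hne : ∀ {m : ℕ}, Monoid.exponent ↥S ∣ m → Monoid.exponent ↥S ≠ 1 := fun _ h0 => by
    haveI := Monoid.exp_eq_one_iff.mp h0
    refine hcl.2 ?_
    rw [eq_bot_iff]
    refine (lowerCentralSeries_le_self S 1).trans fun x hx => mem_bot.mpr ?_
    exact congrArg Subtype.val (Subsingleton.elim (⟨x, hx⟩ : ↥S) 1)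
  have hdvd : ∀ k : ℕ, (∀ s ∈ S, s ^ p ^ k = 1) → Monoid.exponent ↥S ∣ p ^ k := fun k hk =>
    Monoid.exponent_dvd_of_forall_pow_eq_one fun s => Subtype.ext (by simpa using hk s s.2)
  refine ⟨fun h2 => ?_, fun h2 => ?_⟩
  · subst h2
    have h4 : ∀ r ∈ Z' ⊔ zn S, r ^ 2 ^ 2 = 1 := by
      intro r hr
      obtain ⟨z', hz', z, hz, rfl⟩ := mem_sup_of_normal_right.mp hr
      obtain ⟨_, _, _, _, -, -, hR⟩ := hdec 1 (one_mem S)
      have hc := hR z (mem_sup_right hz) z' (mem_sup_left hz')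
      rw [show (2 : ℕ) ^ 2 = 2 * 2 by rfl, pow_mul,
        PGroup.mul_pow_eq (hc.2 z' (h1.le hz')) (hc.2 z (L.Z_le_S hz)), h1.pow _ hz', L.powZ _ hz,
        mul_one, mul_one, show Nat.choose 2 2 = 1 by rfl, pow_one]
      exact h.center_pow _ hc
    obtain ⟨k, hk2, hk⟩ := (Nat.dvd_prime_pow hp).mp (hdvd 2 (hexp 2 h4))
    interval_cases k
    · exact absurd hk (hne (dvd_refl _))
    · refine absurd ?_ hcl.2
      rw [eq_bot_iff]
      refine commutator_le.mpr fun a ha b hb => mem_bot.mpr (commutatorElement_eq_one_iff_mul_comm.mpr ?_)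
      have hsq : ∀ x ∈ S, x * x = 1 := fun x hx => by
        have h3 := Monoid.pow_exponent_eq_one (⟨x, hx⟩ : ↥S)
        rw [hk, pow_one, pow_two] at h3
        exact congrArg Subtype.val h3
      calc a * b = a * (a * b * (a * b)) * b := by rw [hsq _ (mul_mem ha hb), mul_one]
        _ = a * a * (b * a) * (b * b) := by group
        _ = b * a := by rw [hsq a ha, hsq b hb, one_mul, mul_one]
    · simpa using hk
  · have hpp : ∀ r ∈ Z' ⊔ zn S, r ^ p ^ 1 = 1 := by
      intro r hr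
      obtain ⟨z', hz', z, hz, rfl⟩ := mem_sup_of_normal_right.mp hr
      obtain ⟨_, _, _, _, -, -, hR⟩ := hdec 1 (one_mem S)
      have hc := hR z (mem_sup_right hz) z' (mem_sup_left hz')
      rw [pow_one, PGroup.mul_pow_prime_eq hp h2 (hc.2 z' (h1.le hz')) (hc.2 z (L.Z_le_S hz))
        (h.center_pow _ hc), h1.pow _ hz', L.powZ _ hz, one_mul]
    have hd1 := hdvd 1 (hexp 1 hpp)
    rw [pow_one] at hd1
    exact (Nat.dvd_prime hp).mp hd1 |>.resolve_left (hne hd1)

end Cfsg.Agent.PushUp
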