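/-
Pushing up over `PSL₂(q)`: the second configuration.

Main results (namespace `Cfsg.Agent.PushUp`):
* `Two`, `exists_two` : the configuration with `X / C` of exponent `p`
* `Two.natural`       : `X / W` is natural, for `W` the part centralised modulo `Z`
* `Two.main`          : `G / O_p(G) ≅ SL₂(q)` through both sections
* `Two.eq_three`      : `p = 3`
-/
import Cfsg.Agent.Lib.PushUp.One
import Mathlib.Tactic.NormNum
import Mathlib.Tactic.LinearCombination

set_option autoImplicit false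

namespace Cfsg.Agent.PushUp

open Subgroup
open Quadratic (upperE lowerE upperE_val lowerE_val)
open scoped commutatorElement

variable {G : Type*} [Group G]

theorem comm_sup_le {S T A B K : Subgroup G} (hA : A ≤ S) (hB : B ≤ S)
    (hS : S ≤ normalizer (T : Set G)) (h₁ : ⁅A, K⁆ ≤ T) (h₂ : ⁅B, K⁆ ≤ T) : ⁅A ⊔ B, K⁆ ≤ T := by
  have h : A ⊔ B ≤ cm S T K := sup_le
    (fun a ha => (mem_cm hS).mpr ⟨hA ha, fun t ht => h₁ (commutator_mem_commutator ha ht)⟩)
    fun a ha => (mem_cm hS).mpr ⟨hB ha, fun t ht => h₂ (commutator_mem_commutator ha ht)⟩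
  exact commutator_le.mpr fun a ha t ht => (h ha).2 t ht

theorem cm_top_normal' {X W : Subgroup G} [hX : X.Normal] [hW : W.Normal] : (cm X W ⊤).Normal :=
  ⟨fun x hx g => by
    have h1 : cj g (cm X W ⊤) ≤ cm X W ⊤ := by
      refine (cj_cm g X W ⊤).trans ?_
      rw [cj_eq_self (by rw [normalizer_eq_top]; trivial : g ∈ normalizer (X : Set G)),
        cj_eq_self (by rw [normalizer_eq_top]; trivial : g ∈ normalizer (W : Set G)),
        cj_eq_self (le_normalizer (mem_top g) : g ∈ normalizer ((⊤ : Subgroup G) : Set G))]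
    exact h1 (conj_mem_cj hx)⟩

variable [Finite G] {p n : ℕ} [Fact p.Prime]
  {F : Type*} [Field F] [Fintype F] {S M : Subgroup G}
  {π : G →* Matrix.ProjectiveSpecialLinearGroup (Fin 2) F}

local notation "𝐐" => Cfsg.pCore p G
local notation "𝐎" => Cfsg.pResidual p G
local notation "SL₂" F:max => Matrix.SpecialLinearGroup (Fin 2) F

/-- The second configuration, without the condition on `p`-th powers. -/
structure TwoData (p q : ℕ) (S X D U : Subgroup G) (x u : G) : Prop where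
  normal : X.Normal
  Z_le : zn S ≤ X
  X_le : X ≤ Cfsg.pCore p G
  XQ : ⁅X, Cfsg.pCore p G⁆ ≤ zn S ⊓ center G
  XO : ¬ ⁅X, Cfsg.pResidual p G⁆ ≤ zn S
  D_le : D ≤ S
  normD : S ≤ normalizer (D : Set G)
  idxD : (Cfsg.pCore p G ⊓ D).relIndex (Cfsg.pCore p G) ≤ q
  cover : Cfsg.pCore p G ≤ X ⊔ (Cfsg.pCore p G ⊓ D)
  XS : ⁅X, S⁆ ≤ X ⊓ D
  XDS : ⁅X ⊓ D, S⁆ ≤ S ⊓ centralizer (S : Set G)
  U_le : U ≤ D
  comm : U ≤ centralizer (U : Set G)
  powU : ∀ v ∈ U, v ^ p = 1
  coverU : S ≤ U ⊔ Cfsg.pCore p G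
  DU : ⁅D, U⁆ ≤ S ⊓ centralizer (S : Set G)
  x_mem : x ∈ X
  x_pow : x ^ p = 1
  u_mem : u ∈ U
  far : ∀ v ∈ U, v ∉ Cfsg.pCore p G → ⁅⁅x, u⁆, v⁆ ∉ zn S ⊓ center G

/-- The second configuration. -/
structure Two (p q : ℕ) (S X D U : Subgroup G) (x u : G) : Prop extends TwoData p q S X D U x u where
  powX : ∀ a ∈ X, a ^ p ∈ zn S ⊓ center G

namespace TwoData

variable {X D U : Subgroup G} {x u : G}

theorem exists_far (t : TwoData p (p ^ n) S X D U x u) (h : Hyp p n G S M F π) :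
    ∃ v ∈ U, v ∉ 𝐐 := by
  by_contra hno
  push Not at hno
  have L := h.locG
  have hle : S ≤ 𝐐 := t.coverU.trans (sup_le hno le_rfl)
  have h1 := L.relS
  rw [relIndex_eq_one.mpr hle] at h1
  exact L.q_pos.ne h1

theorem u_not_mem (t : TwoData p (p ^ n) S X D U x u) (h : Hyp p n G S M F π) : u ∉ 𝐐 := fun hu => by
  obtain ⟨v, hv, hvQ⟩ := t.exists_far h
  refine t.far v hv hvQ ?_
  have h1 : ⁅x, u⁆ ∈ zn S ⊓ center G := t.XQ (commutator_mem_commutator t.x_mem hu)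
  rw [commutatorElement_eq_one_iff_mul_comm.mpr (mem_center_iff.mp h1.2 v).symm]
  exact one_mem _

theorem x_not_mem (t : TwoData p (p ^ n) S X D U x u) (h : Hyp p n G S M F π) : x ∉ X ⊓ D := fun hx => by
  obtain ⟨v, hv, hvQ⟩ := t.exists_far h
  refine t.far v hv hvQ ?_
  have h1 : ⁅x, u⁆ ∈ S ⊓ centralizer (S : Set G) :=
    t.XDS (commutator_mem_commutator hx (t.D_le (t.U_le t.u_mem)))
  rw [commutatorElement_eq_one_iff_mul_comm.mpr (h1.2 v (t.D_le (t.U_le hv))).symm]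
  exact one_mem _

/-- `X / W` is natural. -/
theorem natural (t : TwoData p (p ^ n) S X D U x u) (h : Hyp p n G S M F π) {w : G} (hw : w ∉ M) :
    ∃ (ρ : G →* SL₂ F) (ψ : G → Fin 2 → F),
      Natural F S 𝐐 M w (X ⊓ D) X (cm X (zn S) ⊤) ρ ψ ∧ zn S ≤ cm X (zn S) ⊤ ∧
        cm X (zn S) ⊤ ≤ X ⊓ D := by
  have L := h.locG
  haveI := t.normal
  haveI : (cm X (zn S) ⊤).Normal := cm_top_normal'
  set W := cm X (zn S) ⊤
  have htop : ∀ {K : Subgroup G} [K.Normal], (⊤ : Subgroup G) ≤ normalizer (K : Set G) := fun {K} _ => by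
    rw [normalizer_eq_top]
  have hXn : X ≤ normalizer (zn S : Set G) := le_top.trans htop
  have hWX : W ≤ X := cm_le _ _ _
  have hZW : zn S ≤ W := fun z hz => (mem_cm hXn).mpr ⟨t.Z_le hz, fun g _ => by
    exact le_normalizer_iff_commutator_le_left.mp htop (commutator_mem_commutator hz (mem_top g))⟩
  have hWO : ⁅W, 𝐎⁆ ≤ zn S := commutator_le.mpr fun a ha o _ => ha.2 o (mem_top o)
  have hXOW : ¬ ⁅X, 𝐎⁆ ≤ W := fun h1 => t.XO (L.step t.X_le hWX htop htop htop h1 hWO)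
  set H₀ := (X ⊓ D) ⊔ W
  have hH₀X : H₀ ≤ X := sup_le inf_le_left hWX
  have hH₀S : ∀ a ∈ H₀, ∀ s ∈ S, ⁅a, s⁆ ∈ zn S := by
    have h1 : H₀ ≤ cm X (zn S) S := sup_le
      (fun a ha => (mem_cm hXn).mpr ⟨ha.1, fun s hs =>
        L.Zs_le (t.XDS (commutator_mem_commutator ha hs))⟩)
      fun a ha => (mem_cm hXn).mpr ⟨hWX ha, fun s _ => ha.2 s (mem_top s)⟩
    exact fun a ha s hs => (h1 ha).2 s hs
  have hidxD : (X ⊓ D).relIndex X ≤ p ^ n := by
    rw [inf_relIndex_left]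
    refine (relIndex_le_of_le_right t.X_le index_ne_zero_of_finite).trans ?_
    rw [← inf_relIndex_left]
    exact t.idxD
  have hlow : p ^ n ≤ H₀.relIndex X := L.disp X W H₀ hWX t.X_le htop htop hXOW hH₀X u
    (t.D_le (t.U_le t.u_mem)) (t.u_not_mem h) fun a ha =>
      hZW (hH₀S a ha u (t.D_le (t.U_le t.u_mem)))
  have hHeq : H₀ = X ⊓ D := by
    refine le_antisymm (relIndex_eq_one.mp (le_antisymm ?_ (Nat.pos_of_ne_zero index_ne_zero_of_finite)))
      le_sup_left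
    refine Nat.le_of_mul_le_mul_right ?_ (Nat.lt_of_lt_of_le (Nat.zero_lt_of_lt L.q_pos) hlow)
    rw [relIndex_mul_relIndex _ _ _ le_sup_left hH₀X, one_mul]
    exact hidxD.trans hlow
  have hWH : W ≤ X ⊓ D := hHeq ▸ le_sup_right
  have hfix : ∀ s ∈ S, s ∉ 𝐐 → ∀ a ∈ X, ⁅a, s⁆ ∈ W → a ∈ X ⊓ D := by
    intro s hs hsQ a ha has
    have hXW : X ≤ normalizer (W : Set G) := le_top.trans htop
    set D' := cm X W (zpowers s)
    have haD : a ∈ D' := by
      have := mem_cm_closure (A := {s}) ha (hXW ha) (Set.singleton_subset_iff.mpr (htop (mem_top s)))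
        fun y hy => hy ▸ has
      rwa [← zpowers_eq_closure] at this
    have hHD : X ⊓ D ≤ D' := fun b hb => (mem_cm hXW).mpr ⟨hb.1, fun y hy =>
      hZW (L.Zs_le (t.XDS (commutator_mem_commutator hb (zpowers_le.mpr hs hy))))⟩
    have h1 : p ^ n ≤ D'.relIndex X := L.disp X W D' hWX t.X_le htop htop hXOW (cm_le _ _ _) s hs hsQ
      fun b hb => hb.2 s (mem_zpowers s)
    refine relIndex_eq_one.mp (le_antisymm ?_ (Nat.pos_of_ne_zero index_ne_zero_of_finite)) haD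
    refine Nat.le_of_mul_le_mul_right ?_ (Nat.lt_of_lt_of_le (Nat.zero_lt_of_lt L.q_pos) h1)
    rw [relIndex_mul_relIndex _ _ _ hHD (cm_le _ _ _), one_mul]
    exact hidxD.trans h1
  have hcent : ∀ a ∈ X, (∀ g : G, ⁅a, g⁆ ∈ W) → a ∈ W := by
    intro a ha hag
    have hXW : X ≤ normalizer (W : Set G) := le_top.trans htop
    haveI : (cm X W ⊤).Normal := cm_top_normal'
    have h2 : ⁅cm X W ⊤, 𝐎⁆ ≤ zn S := L.step ((cm_le _ _ _).trans t.X_le)
      (fun b hb => (mem_cm hXW).mpr ⟨hWX hb, fun g _ =>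
        le_normalizer_iff_commutator_le_left.mp htop (commutator_mem_commutator hb (mem_top g))⟩)
      htop htop htop (commutator_le.mpr fun b hb o _ => hb.2 o (mem_top o)) hWO
    have haH : a ∈ X ⊓ D := hfix u (t.D_le (t.U_le t.u_mem)) (t.u_not_mem h) a ha (hag u)
    have := mem_cm_closure (A := (𝐎 : Set G) ∪ (S : Set G)) ha (hXn ha)
      (fun y _ => htop (mem_top y)) fun y hy => hy.elim
        (fun hy => h2 (commutator_mem_commutator ((mem_cm hXW).mpr ⟨ha, fun g _ => hag g⟩) hy))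
        (fun hy => L.Zs_le (t.XDS (commutator_mem_commutator haH hy)))
    rwa [← Subgroup.sup_eq_closure, L.O_sup] at this
  obtain ⟨ρ, ψ, N⟩ := exists_natural (q := p ^ n) (L.pS.to_le (t.X_le.trans L.Q_le)) hWH inf_le_left
    (fun hle => hXOW ((commutator_mono hle le_rfl).trans (hWO.trans hZW))) L.Q_le t.X_le
    (hWX.trans t.X_le) L.relS
    (fun a ha b hb => hZW ((t.XQ (commutator_mem_commutator ha hb)).1))
    (fun a ha s hs => t.XS (commutator_mem_commutator ha hs))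
    (fun a ha s hs => hZW (L.Zs_le (t.XDS (commutator_mem_commutator ha hs)))) hfix hidxD hcent
    (fun g hg => h.sup_conj_eq_top hg) h.max.2 hw F h.card
  exact ⟨ρ, ψ, N, hZW, hWH⟩

end TwoData

/-- Further properties of the second configuration. -/
structure TwoExtra (p q : ℕ) (S X D U : Subgroup G) : Prop where
  each : ∀ v ∈ U, v ∉ Cfsg.pCore p G → ∃ x ∈ X, ⁅⁅x, v⁆, v⁆ ∉ zn S ⊓ center G
  DUZ : ⁅D, U⁆ ≤ ⁅zn S, S⁆
  large : ∃ Y' ≤ Cfsg.pCore p G, D ≤ centralizer (Y' : Set G) ∧ q ≤ Nat.card ↥⁅Y', X⁆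

/-- The second configuration with `X / C` of exponent `p`. -/
theorem exists_two_extra (h : Hyp p n G S M F π) (hc : CaseTwo p (p ^ n) (sysOf p S M)) :
    ∃ X D U x u, Two p (p ^ n) S X D U x u ∧ TwoExtra p (p ^ n) S X D U := by
  obtain ⟨X, D, U, Z₀, ⟨a1, a2, a3, a4, a5⟩, ⟨b1, b2, b3, b4, b5, b6⟩, ⟨c1, c2, c3, c4, c5⟩, ⟨d1,
    d2, x, hx, u, hu, hxu⟩, e1, e2, Y', e3, e4, e5⟩ := hc
  haveI hXn : X.Normal := normalizer_eq_top_iff.mp (top_le_iff.mp a1)
  have t : TwoData p (p ^ n) S X D U x u :=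
    ⟨hXn, a2, a3, a4, a5, b1, b2, b3, b4, b5, b6, c1, c2, c3, c4, c5, d1 hx, d2 x hx, hu, hxu⟩
  obtain ⟨w, hw⟩ := h.exists_w
  obtain ⟨ρ, ψ, N, hZW, hWH⟩ := t.natural h hw
  have L := h.locG
  haveI : (cm X (zn S) ⊤).Normal := cm_top_normal'
  set W := cm X (zn S) ⊤
  set X₁ := normalClosure (Z₀ : Set G) ⊔ zn S
  have hX₁ : X₁ ≤ X := sup_le (normalClosure_le_normal d1) a2
  have hxX₁ : x ∈ X₁ := mem_sup_left (subset_normalClosure hx)
  have hcov : X ≤ X₁ ⊔ W := by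
    rcases N.toNatSec.eq_or_eq (N := X₁ ⊔ W) le_sup_right (sup_le hX₁ (cm_le _ _ _)) with h1 | h1
    · exact absurd (hWH (h1 (mem_sup_left hxX₁))) (t.x_not_mem h)
    · exact h1
  have hWQD : W ≤ 𝐐 ⊓ D := fun y hy => ⟨a3 (cm_le _ _ _ hy), (hWH hy).2⟩
  haveI hzn : (zn S).Normal := normalClosure_normal
  haveI : X₁.Normal := inferInstance
  refine ⟨X₁, D, U, x, u,
    ⟨⟨inferInstance, le_sup_right, hX₁.trans a3, (commutator_mono hX₁ le_rfl).trans a4, ?_, b1, b2, b3,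
      ?_, ?_, ?_, c1, c2, c3, c4, c5, hxX₁, d2 x hx, hu, hxu⟩, ?_⟩,
    ⟨fun v hv hvQ => (e1 v hv hvQ).imp fun y hy => ⟨mem_sup_left (subset_normalClosure hy.1), hy.2⟩,
      e2, Y', e3, e4, e5.trans (card_le_of_le (commutator_mono le_rfl
        fun z hz => mem_sup_left (subset_normalClosure hz)))⟩⟩
  · intro h1
    refine a5 ((commutator_mono hcov le_rfl).trans ?_)
    exact comm_sup_le (S := X) hX₁ (cm_le _ _ _) (le_top.trans (normalizer_eq_top_iff.mpr hzn).ge) h1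
      (commutator_le.mpr fun a ha o _ => ha.2 o (mem_top o))
  · exact b4.trans (sup_le (hcov.trans (sup_le le_sup_left (hWQD.trans le_sup_right))) le_sup_right)
  · refine le_inf ?_ ((commutator_mono hX₁ le_rfl).trans (b5.trans inf_le_right))
    exact le_normalizer_iff_commutator_le_left.mp (by rw [normalizer_eq_top]; exact le_top)
  · exact (commutator_mono (inf_le_inf_right D hX₁) le_rfl).trans b6
  · intro a ha
    let f := QuotientGroup.mk' (zn S ⊓ center G)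
    let T : Subgroup G :=
      { carrier := {a | a ∈ X ∧ f a ^ p = 1}
        one_mem' := ⟨one_mem X, by simp⟩
        mul_mem' := fun {a b} ha hb => ⟨mul_mem ha.1 hb.1, by
          have hab : Commute (f a) (f b) := commutatorElement_eq_one_iff_mul_comm.mp (by
            rw [← map_commutatorElement]
            exact (QuotientGroup.eq_one_iff _).mpr (a4 (commutator_mem_commutator ha.1 (a3 hb.1))))
          rw [map_mul, hab.mul_pow, ha.2, hb.2, one_mul]⟩
        inv_mem' := fun {a} ha => ⟨inv_mem ha.1, by rw [map_inv, inv_pow, ha.2, inv_one]⟩ }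
    have hT : X₁ ≤ T := by
      refine sup_le ((closure_le _).mpr fun y hy => ?_) fun z hz => ⟨a2 hz, by
        rw [← map_pow, L.powZ z hz, map_one]⟩
      obtain ⟨z, hz, hzy⟩ := Group.mem_conjugatesOfSet_iff.mp hy
      obtain ⟨c, rfl⟩ := isConj_iff.mp hzy
      exact ⟨hXn.conj_mem z (d1 hz) c, by rw [← map_pow, conj_pow, d2 z hz, mul_one, mul_inv_cancel, map_one]⟩
    have h2 := (hT ha).2
    rw [← map_pow] at h2
    exact (QuotientGroup.eq_one_iff _).mp h2

theorem exists_two (h : Hyp p n G S M F π) (hc : CaseTwo p (p ^ n) (sysOf p S M)) :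
    ∃ X D U x u, Two p (p ^ n) S X D U x u := by
  obtain ⟨X, D, U, x, u, t, -⟩ := exists_two_extra h hc
  exact ⟨X, D, U, x, u, t⟩

namespace Two

variable {X D U : Subgroup G} {x u : G}

/-- The trilinear map. -/
def tri (a s v : G) : G := ⁅⁅a, s⁆, v⁆

omit [Finite G] in
theorem tri_conj (g a s v : G) :
    g * tri a s v * g⁻¹ = tri (g * a * g⁻¹) (g * s * g⁻¹) (g * v * g⁻¹) := by
  simp only [tri, commutatorElement_def]; group

theorem mem_center_S (t : Two p (p ^ n) S X D U x u) (h : Hyp p n G S M F π) {c : G}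
    (hc : c ∈ zn S ⊓ center G) : c ∈ S ⊓ centralizer (S : Set G) :=
  h.locG.C_le hc

theorem tri_mem (t : Two p (p ^ n) S X D U x u) {a s v : G} (ha : a ∈ X) (hs : s ∈ S) (hv : v ∈ S) :
    tri a s v ∈ S ⊓ centralizer (S : Set G) :=
  t.XDS (commutator_mem_commutator (t.XS (commutator_mem_commutator ha hs)) hv)

theorem comm_mul_mem (t : Two p (p ^ n) S X D U x u) {a b v : G} (ha : a ∈ X ⊓ D) (hb : b ∈ X ⊓ D)
    (hv : v ∈ S) : ⁅a * b, v⁆ = ⁅a, v⁆ * ⁅b, v⁆ := by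
  have hb' := t.XDS (commutator_mem_commutator hb hv)
  rw [commutatorElement_mul_eq, hb'.2 a (t.D_le ha.2), mul_inv_cancel_right,
    hb'.2 _ (t.XDS (commutator_mem_commutator ha hv)).1]

theorem comm_central_mul (t : Two p (p ^ n) S X D U x u) {z a v : G}
    (hz : z ∈ S ⊓ centralizer (S : Set G)) (ha : a ∈ X ⊓ D) (hv : v ∈ S) : ⁅z * a, v⁆ = ⁅a, v⁆ := by
  have h1 := t.XDS (commutator_mem_commutator ha hv)
  rw [commutatorElement_mul_eq, ← hz.2 _ h1.1, mul_inv_cancel_right,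
    commutatorElement_eq_one_iff_mul_comm.mpr (hz.2 v hv).symm, mul_one]

theorem tri_mul_left (t : Two p (p ^ n) S X D U x u) (h : Hyp p n G S M F π) {a b s v : G}
    (ha : a ∈ X) (hb : b ∈ X) (hs : s ∈ S) (hv : v ∈ S) :
    tri (a * b) s v = tri b s v * tri a s v := by
  have h1 := t.XS (commutator_mem_commutator hb hs)
  have h2 := t.XS (commutator_mem_commutator ha hs)
  have h3 : ⁅a, ⁅b, s⁆⁆ ∈ zn S ⊓ center G := t.XQ (commutator_mem_commutator ha (t.X_le h1.1))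
  show ⁅⁅a * b, s⁆, v⁆ = _
  rw [commutatorElement_mul_eq, show a * ⁅b, s⁆ * a⁻¹ * ⁅a, s⁆ = ⁅a, ⁅b, s⁆⁆ * (⁅b, s⁆ * ⁅a, s⁆) by
    simp only [commutatorElement_def]; group,
    t.comm_central_mul (t.mem_center_S h h3) (mul_mem h1 h2) hv, t.comm_mul_mem h1 h2 hv]
  rfl

theorem tri_mul_mid (t : Two p (p ^ n) S X D U x u) {a s s' v : G}
    (ha : a ∈ X) (hs : s ∈ S) (hs' : s' ∈ S) (hv : v ∈ S) :
    tri a (s * s') v = tri a s v * tri a s' v := by
  have h1 := t.XS (commutator_mem_commutator ha hs)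
  have h2 := t.XS (commutator_mem_commutator ha hs')
  have h3 : ⁅s, ⁅a, s'⁆⁆ ∈ S ⊓ centralizer (S : Set G) := by
    rw [← commutatorElement_inv]
    exact inv_mem (t.XDS (commutator_mem_commutator h2 hs))
  show ⁅⁅a, s * s'⁆, v⁆ = _
  rw [commutatorElement_right_mul_eq, show ⁅a, s⁆ * (s * ⁅a, s'⁆ * s⁻¹) =
    ⁅a, s⁆ * ⁅s, ⁅a, s'⁆⁆ * ⁅a, s'⁆ by simp only [commutatorElement_def]; group,
    h3.2 ⁅a, s⁆ (t.D_le h1.2), mul_assoc, t.comm_central_mul h3 (mul_mem h1 h2) hv,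
    t.comm_mul_mem h1 h2 hv]
  rfl

theorem tri_mul_right (t : Two p (p ^ n) S X D U x u) {a s v v' : G}
    (ha : a ∈ X) (hs : s ∈ S) (hv : v ∈ S) (hv' : v' ∈ S) :
    tri a s (v * v') = tri a s v * tri a s v' := by
  show ⁅⁅a, s⁆, v * v'⁆ = _
  rw [commutatorElement_right_mul_eq]
  show tri a s v * (v * tri a s v' * v⁻¹) = _
  rw [(t.tri_mem ha hs hv').2 v hv, mul_inv_cancel_right]

theorem tri_left_one (t : Two p (p ^ n) S X D U x u) {a s v : G} (ha : a ∈ X ⊓ D) (hs : s ∈ S)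
    (hv : v ∈ S) : tri a s v = 1 :=
  commutatorElement_eq_one_iff_mul_comm.mpr ((t.XDS (commutator_mem_commutator ha hs)).2 v hv).symm

theorem tri_mid_one (t : Two p (p ^ n) S X D U x u) {a s v : G} (ha : a ∈ X) (hs : s ∈ 𝐐) :
    tri a s v = 1 :=
  commutatorElement_eq_one_iff_mul_comm.mpr
    (mem_center_iff.mp (t.XQ (commutator_mem_commutator ha hs)).2 v).symm

theorem tri_right_mem (t : Two p (p ^ n) S X D U x u) {a s v : G} (ha : a ∈ X) (hs : s ∈ S)
    (hv : v ∈ 𝐐) : tri a s v ∈ zn S ⊓ center G :=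
  t.XQ (commutator_mem_commutator (t.XS (commutator_mem_commutator ha hs)).1 hv)

theorem tri_inv_left (t : Two p (p ^ n) S X D U x u) (h : Hyp p n G S M F π) {a s v : G}
    (ha : a ∈ X) (hs : s ∈ S) (hv : v ∈ S) : tri a⁻¹ s v = (tri a s v)⁻¹ := by
  refine eq_inv_of_mul_eq_one_left ?_
  rw [← t.tri_mul_left h ha (inv_mem ha) hs hv, mul_inv_cancel]
  exact t.tri_left_one (one_mem _) hs hv

theorem tri_pow_left (t : Two p (p ^ n) S X D U x u) (h : Hyp p n G S M F π) {a s v : G}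
    (ha : a ∈ X) (hs : s ∈ S) (hv : v ∈ S) (k : ℕ) : tri (a ^ k) s v = tri a s v ^ k := by
  induction k with
  | zero => rw [pow_zero, pow_zero]; exact t.tri_left_one (one_mem _) hs hv
  | succ k ih => rw [pow_succ, t.tri_mul_left h (pow_mem ha k) ha hs hv, ih, ← pow_succ']

theorem tri_pow_mid (t : Two p (p ^ n) S X D U x u) {a s v : G}
    (ha : a ∈ X) (hs : s ∈ S) (hv : v ∈ S) (k : ℕ) : tri a (s ^ k) v = tri a s v ^ k := by
  induction k with
  | zero => rw [pow_zero, pow_zero]; exact t.tri_mid_one ha (one_mem _)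
  | succ k ih => rw [pow_succ, t.tri_mul_mid ha (pow_mem hs k) hs hv, ih, ← pow_succ]

theorem tri_pow_right (t : Two p (p ^ n) S X D U x u) {a s v : G}
    (ha : a ∈ X) (hs : s ∈ S) (hv : v ∈ S) (k : ℕ) : tri a s (v ^ k) = tri a s v ^ k := by
  induction k with
  | zero => rw [pow_zero, pow_zero]; exact commutatorElement_one_right _
  | succ k ih => rw [pow_succ, t.tri_mul_right ha hs (pow_mem hv k) hv, ih, ← pow_succ]

theorem ne_two (t : Two p (p ^ n) S X D U x u) (h : Hyp p n G S M F π) : p ≠ 2 := by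
  rintro rfl
  refine t.far u t.u_mem (t.u_not_mem h) ?_
  have hu2 : u⁻¹ = u := inv_eq_of_mul_eq_one_right (by rw [← pow_two]; exact t.powU u t.u_mem)
  have hh : ⁅⁅x, u⁆, u⁆ = ⁅x, u⁆ ^ 2 := by
    simp only [commutatorElement_def, mul_inv_rev, inv_inv, hu2, pow_two]
    calc x * u * x⁻¹ * u * u * (u * (x * (u * x⁻¹))) * u
        = x * u * x⁻¹ * (u * u) * u * x * u * x⁻¹ * u := by group
      _ = x * u * x⁻¹ * u * x * u * x⁻¹ * u := by
          rw [show u * u = 1 by rw [← pow_two]; exact t.powU u t.u_mem, mul_one]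
      _ = _ := by group
  rw [hh]
  exact t.powX _ (t.XS (commutator_mem_commutator t.x_mem (t.D_le (t.U_le t.u_mem)))).1

/-- An element with all conjugates fixing a line is scalar. -/
theorem eq_scalar {m : SL₂ F} (hm : ∀ a : SL₂ F, (a * m * a⁻¹).1 1 0 = 0) :
    ∃ c : F, c * c = 1 ∧ ∀ v, m.1.mulVec v = c • v := by
  have h1 := hm 1
  rw [one_mul, inv_one, mul_one] at h1
  have h2 := hm (SL2Natural.wE 1)
  rw [show (SL2Natural.wE (1 : F))⁻¹ = SL2Natural.wE (-1) from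
    inv_eq_of_mul_eq_one_right (SL2Natural.wE_neg one_ne_zero)] at h2
  have h3 := hm (lowerE 1)
  rw [show (lowerE (1 : F))⁻¹ = lowerE (-1) from inv_eq_of_mul_eq_one_right (Subtype.ext (by
    show (lowerE (1 : F)).1 * (lowerE (-1 : F)).1 = 1
    rw [lowerE_val, lowerE_val]
    ext i j
    fin_cases i <;> fin_cases j <;> simp))] at h3
  simp [SL2Natural.wE_val, lowerE_val, Matrix.mul_apply, Matrix.vecMul, dotProduct, Fin.sum_univ_two, h1] at h2 h3
  have hd : m.1.det = 1 := m.2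
  rw [Matrix.det_fin_two, h1, h2, mul_zero, sub_zero] at hd
  have h4 : m.1 0 0 = m.1 1 1 := by linear_combination h3 + h2
  refine ⟨m.1 0 0, by linear_combination hd + (m.1 0 0) * h4, fun v => ?_⟩
  funext i
  fin_cases i <;> simp [Matrix.mulVec, dotProduct, Fin.sum_univ_two, h1, h2, h4]

/-- The structure of `G / O_p(G)` in the second configuration. -/
theorem main (t : Two p (p ^ n) S X D U x u) (h : Hyp p n G S M F π)
    (hquad : ⁅zn S, S⁆ ≤ S ⊓ centralizer (S : Set G)) {w : G} (hw : w ∉ M) :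
    ∃ (ρ : G →* SL₂ F) (ψ : G → Fin 2 → F) (ρ' : G →* SL₂ F) (ψ' : G → Fin 2 → F),
      Natural F S 𝐐 M w (S ⊓ centralizer (S : Set G)) (zn S) (zn S ⊓ center G) ρ ψ ∧
      Natural F S 𝐐 M w (X ⊓ D) X (cm X (zn S) ⊤) ρ' ψ' ∧
      zn S ≤ cm X (zn S) ⊤ ∧ cm X (zn S) ⊤ ≤ X ⊓ D ∧
      ρ.ker = 𝐐 ∧ ρ'.ker = 𝐐 ∧ ⁅𝐐, 𝐎⁆ ≤ X := by
  have L := h.locG
  have hp : p.Prime := Fact.out
  haveI hQn : (𝐐).Normal := Cores.pCore_normal p G
  haveI := t.normal
  obtain ⟨ρ, ψ, N⟩ := h.natural_center hquad hw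
  obtain ⟨ρ', ψ', N', hZW, hWH⟩ := t.toTwoData.natural h hw
  have hQO : ⁅𝐐, 𝐎⁆ ≤ X := by
    haveI := cm_top_normal (X := 𝐐) (W := X)
    obtain ⟨v, hv, hvQ⟩ := t.exists_far h
    have hvS := t.D_le (t.U_le hv)
    have hmem : v ∈ cm ⊤ X 𝐐 := (mem_cm (by rw [normalizer_eq_top])).mpr ⟨mem_top v, fun a ha => by
      obtain ⟨b, hb, d, hd, rfl⟩ := mem_sup_of_normal_left.mp (t.cover ha)
      rw [commutatorElement_right_mul_eq]
      refine mul_mem (le_normalizer_iff_commutator_le_right.mp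
        (by rw [normalizer_eq_top] : (⊤ : Subgroup G) ≤ normalizer (X : Set G))
        (commutator_mem_commutator (mem_top v) hb)) (t.normal.conj_mem _ ?_ b)
      rw [← commutatorElement_inv]
      exact inv_mem (t.Z_le (L.Zs_le (t.DU (commutator_mem_commutator hd.2 hv))))⟩
    have hle := (h.le_or (cm ⊤ X 𝐐)).resolve_right fun h0 => hvQ (h0 ⟨hvS, hmem⟩)
    rw [commutator_comm, commutator_le]
    exact fun o ho a ha => (hle ho).2 a ha
  -- the intersection of the kernels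
  have hinter : ρ.ker ⊓ ρ'.ker ≤ 𝐐 := by
    refine le_pCore_of_coprime fun y hy hco => ?_
    have hyO : y ∈ 𝐎 := subset_closure hco
    have hQp : IsPGroup p (𝐐) := Cores.isPGroup_pCore p G
    have hbot : ∀ g : G, g ∈ normalizer ((⊥ : Subgroup G) : Set G) := fun g => by
      rw [normalizer_eq_top]; trivial
    have key : ∀ a ∈ 𝐐, ∀ T : Subgroup G, ⁅y, a⁆ ∈ T → T ≤ 𝐐 → (∀ b ∈ T, ⁅y, b⁆ = 1) → ⁅y, a⁆ = 1 := by
      intro a _ T hT hTQ hfix
      obtain ⟨k, hk⟩ := hQp ⟨_, hTQ hT⟩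
      exact mem_bot.mp (mem_of_step (p := p) (k := k) (hbot y) (hbot a) (mem_bot.mpr (hfix _ hT))
        (by simpa using congrArg Subtype.val hk) hco)
    have hC : ∀ c ∈ zn S ⊓ center G, ⁅y, c⁆ = 1 := fun c hc =>
      commutatorElement_eq_one_iff_mul_comm.mpr (mem_center_iff.mp hc.2 y)
    have hZ : ∀ z ∈ zn S, ⁅y, z⁆ = 1 := fun z hz =>
      key z (L.Z_le hz) _ (N.toNatSec.mem_ker_iff.mp hy.1 z hz) (inf_le_left.trans L.Z_le) hC
    have hW : ∀ b ∈ cm X (zn S) ⊤, ⁅y, b⁆ = 1 := fun b hb =>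
      key b (t.X_le (cm_le _ _ _ hb)) (zn S)
        (by rw [← commutatorElement_inv]; exact inv_mem (hb.2 y (mem_top y))) L.Z_le hZ
    have hX : ∀ b ∈ X, ⁅y, b⁆ = 1 := fun b hb =>
      key b (t.X_le hb) _ (N'.toNatSec.mem_ker_iff.mp hy.2 b hb) ((cm_le _ _ _).trans t.X_le) hW
    have hQ : ∀ a ∈ 𝐐, ⁅y, a⁆ = 1 := fun a ha =>
      key a ha X (by rw [← commutatorElement_inv]; exact inv_mem (hQO (commutator_mem_commutator ha hyO)))
        t.X_le hX
    obtain ⟨k, hk⟩ := hQp ⟨y, h.E1 fun a ha => (commutatorElement_eq_one_iff_mul_comm.mp (hQ a ha)).symm⟩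
    have hk' : y ^ p ^ k = 1 := by simpa using congrArg Subtype.val hk
    exact orderOf_eq_one_iff.mp (Nat.eq_one_of_dvd_coprimes (hco.pow_right k) dvd_rfl
      (orderOf_dvd_of_pow_eq_one hk'))
  have hQρ : 𝐐 ≤ ρ.ker := fun a ha => (N.kerS a (L.Q_le ha)).mpr ha
  have hQρ' : 𝐐 ≤ ρ'.ker := fun a ha => (N'.kerS a (L.Q_le ha)).mpr ha
  have hker : ρ.ker = 𝐐 := by
    refine le_antisymm (fun r hr => hinter (mem_inf.mpr ⟨hr, ?_⟩)) hQρ
    obtain ⟨c, hc, hcv⟩ := eq_scalar (m := ρ' r) fun a => by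
      obtain ⟨g, rfl⟩ := N'.surj a
      have h1 : g * r * g⁻¹ ∈ M := N.ker_le ((MonoidHom.normal_ker ρ).conj_mem r hr g)
      obtain ⟨b, hb, hbv⟩ := N'.onto ![1, 0]
      have h2 := N'.stab _ h1 b ((N'.line b hb).mpr (by rw [hbv]; rfl))
      have h3 := (N'.line _ (t.normal.conj_mem b hb _)).mp h2
      rw [N'.act _ b hb, hbv, map_mul, map_mul, map_inv] at h3
      simpa [Matrix.mulVec, dotProduct, Fin.sum_univ_two] using h3
    rcases mul_self_eq_one_iff.mp hc with rfl | rfl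
    · refine MonoidHom.mem_ker.mpr (Subtype.ext (Matrix.ext_of_mulVec_single fun i => ?_))
      rw [hcv, one_smul]
      exact (Matrix.one_mulVec _).symm
    exfalso
    have hρ'c : ∀ g, ρ' ⁅g, r⁆ = 1 := fun g => by
      rw [map_commutatorElement, commutatorElement_eq_one_iff_mul_comm]
      refine Subtype.ext (Matrix.ext_of_mulVec_single fun i => ?_)
      show ((ρ' g).1 * (ρ' r).1).mulVec _ = ((ρ' r).1 * (ρ' g).1).mulVec _
      rw [← Matrix.mulVec_mulVec, ← Matrix.mulVec_mulVec, hcv, hcv, Matrix.mulVec_smul]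
    have hmove : ∀ g, ∃ a ∈ 𝐐, r * g * r⁻¹ = g * a := fun g => by
      refine ⟨⁅g⁻¹, r⁆, hinter (mem_inf.mpr ⟨?_, hρ'c _⟩), ?_⟩
      · rw [MonoidHom.mem_ker, map_commutatorElement, MonoidHom.mem_ker.mp hr,
          commutatorElement_one_right]
      · simp only [commutatorElement_def]; group
    obtain ⟨v, hv, hvQ⟩ := t.exists_far h
    have huS := t.D_le (t.U_le t.u_mem)
    have hvS := t.D_le (t.U_le hv)
    obtain ⟨a₁, ha₁, he₁⟩ := hmove u
    obtain ⟨a₂, ha₂, he₂⟩ := hmove v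
    have hrx := t.normal.conj_mem x t.x_mem r
    have hxW : x * (r * x * r⁻¹) ∈ cm X (zn S) ⊤ := by
      rw [← N'.ker _ (mul_mem t.x_mem hrx), N'.add x t.x_mem _ hrx, N'.act r x t.x_mem, hcv,
        neg_one_smul, add_neg_cancel]
    set y := tri x u v
    have hy : y ∈ zn S := L.Zs_le (t.tri_mem t.x_mem huS hvS)
    have hcalc : r * y * r⁻¹ = y⁻¹ * tri (x⁻¹ * (x * (r * x * r⁻¹))) (u * a₁) a₂ := by
      rw [tri_conj, he₁, he₂, inv_mul_cancel_left,
        t.tri_mul_right hrx (mul_mem huS (L.Q_le ha₁)) hvS (L.Q_le ha₂),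
        t.tri_mul_mid hrx huS (L.Q_le ha₁) hvS, t.tri_mid_one hrx ha₁, mul_one]
      congr 1
      conv_lhs => rw [show r * x * r⁻¹ = x⁻¹ * (x * (r * x * r⁻¹)) by group]
      rw [t.tri_mul_left h (inv_mem t.x_mem) (cm_le _ _ _ hxW) huS hvS,
        t.tri_left_one (hWH hxW) huS hvS, one_mul, t.tri_inv_left h t.x_mem huS hvS]
    have hc2 : tri (x⁻¹ * (x * (r * x * r⁻¹))) (u * a₁) a₂ ∈ zn S ⊓ center G :=
      t.tri_right_mem (by rw [inv_mul_cancel_left]; exact hrx) (mul_mem huS (L.Q_le ha₁)) ha₂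
    refine t.far v hv hvQ ((N.ker y hy).mp ?_)
    have h1 := congrArg ψ hcalc
    rw [N.act r y hy, MonoidHom.mem_ker.mp hr, Matrix.SpecialLinearGroup.coe_one, Matrix.one_mulVec,
      N.add _ (inv_mem hy) _ hc2.1, N.toNatSec.map_inv hy, (N.ker _ hc2.1).mpr hc2, add_zero] at h1
    haveI := NatSL2.charP_of_card h.card
    have h2 : (2 : F) ≠ 0 := fun h0 => t.ne_two h ((Nat.prime_dvd_prime_iff_eq hp Nat.prime_two).mp
      ((CharP.cast_eq_zero_iff F p 2).mp (by exact_mod_cast h0)))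
    funext i
    have h3 := congrFun h1 i
    simp only [Pi.neg_apply, eq_neg_iff_add_eq_zero, ← two_mul, mul_eq_zero] at h3
    exact h3.resolve_left h2
  refine ⟨ρ, ψ, ρ', ψ', N, N', hZW, hWH, hker, (le_antisymm hQρ' ?_).symm, hQO⟩
  have h1 : ρ'.ker.index = (𝐐).index := by
    rw [← hker, index_ker, index_ker, MonoidHom.range_eq_top.mpr N.surj,
      MonoidHom.range_eq_top.mpr N'.surj]
  have h2 := relIndex_mul_index hQρ'
  rw [h1] at h2
  exact relIndex_eq_one.mp (Nat.eq_of_mul_eq_mul_right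
    (Nat.pos_of_ne_zero index_ne_zero_of_finite) (h2.trans (one_mul _).symm))

/-- The prime is three. -/
theorem eq_three (t : Two p (p ^ n) S X D U x u) (h : Hyp p n G S M F π)
    (hquad : ⁅zn S, S⁆ ≤ S ⊓ centralizer (S : Set G)) {w : G} (hw : w ∉ M) : p = 3 := by
  classical
  have L := h.locG
  have hp : p.Prime := Fact.out
  haveI := NatSL2.charP_of_card h.card
  obtain ⟨ρ, ψ, ρ', ψ', N, N', -, hWH, hker, hker', -⟩ := t.main h hquad hw
  haveI := t.normal
  by_contra hp3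
  have hp5 : 5 ≤ p := by
    have h2 := t.ne_two h
    have h4 : p ≠ 4 := fun h4 => by rw [h4] at hp; exact absurd hp (by decide)
    have := hp.two_le
    omega
  have hcast : ∀ k : ℕ, (k : F) = 0 → p ∣ k := fun k hk => (CharP.cast_eq_zero_iff F p k).mp hk
  have h2 : (2 : F) ≠ 0 := fun h0 => by
    have := Nat.le_of_dvd (by norm_num) (hcast 2 (by exact_mod_cast h0)); omega
  let φ : SL₂ F →* SL₂ F := ρ.liftOfSurjective N.surj ⟨ρ', by rw [hker, hker']⟩
  have hφ : ∀ g, φ (ρ g) = ρ' g := fun g => MonoidHom.liftOfRightInverse_comp_apply _ _ _ _ g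
  have hup : ∀ a, ∃ b, φ (upperE a) = upperE b := fun a => by
    obtain ⟨s, hs, he⟩ := N.upper_onto a
    rw [← he, hφ]
    exact N'.upper s hs
  have hlo : ∀ a, ∃ b, φ (lowerE a) = lowerE b := fun a => by
    obtain ⟨s, hs, he⟩ := N.lower_onto a
    rw [← he, hφ]
    exact N'.lower s hs
  obtain ⟨c, hc⟩ := hup 1
  obtain ⟨d, hd⟩ := hlo (-1)
  obtain ⟨d₂, hd₂⟩ := hlo (-(2 : F)⁻¹)
  obtain ⟨e₁, he₁⟩ := hlo (-1 * (1 : F))
  obtain ⟨c', hc'⟩ := hup (-1)
  obtain ⟨d', hd'⟩ := hlo 1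
  obtain ⟨c₂, hc₂⟩ := hup 2
  have hLmul : ∀ a b : F, lowerE a * lowerE b = lowerE (a + b) := fun a b => Subtype.ext (by
    show (lowerE a).1 * (lowerE b).1 = (lowerE (a + b)).1
    rw [lowerE_val, lowerE_val, lowerE_val]
    ext i j
    fin_cases i <;> fin_cases j <;> simp [Matrix.mul_apply, Fin.sum_univ_two])
  have hLinj : ∀ a b : F, lowerE a = lowerE b → a = b := fun a b h0 => by
    have := congrFun (congrFun (congrArg Subtype.val h0) 1) 0
    simpa [lowerE] using this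
  have hUinj := Quadratic.upperE_injective (K := F)
  have hc2' : c₂ = c + c := hUinj (by
    rw [← hc₂, ← Quadratic.upperE_mul, ← hc, ← map_mul, Quadratic.upperE_mul, one_add_one_eq_two])
  have hcn : c' = -c := hUinj (by
    refine mul_left_cancel (a := upperE c) ?_
    rw [Quadratic.upperE_mul c (-c), add_neg_cancel, Quadratic.upperE_zero, ← hc, ← hc',
      ← map_mul, Quadratic.upperE_mul, add_neg_cancel, Quadratic.upperE_zero, map_one])
  have hd2' : d₂ + d₂ = d := hLinj _ _ (by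
    rw [← hLmul, ← hd₂, ← map_mul, hLmul, ← hd]
    congr 2
    field_simp
    ring)
  have hdn : d' = -d := hLinj _ _ (by
    refine mul_left_cancel (a := lowerE d) ?_
    rw [hLmul d (-d), add_neg_cancel, ← hd, ← hd', ← map_mul, hLmul, neg_add_cancel]
    have h0 : (lowerE (0 : F)) = 1 := Subtype.ext Matrix.one_fin_two.symm
    rw [h0, map_one])
  have hc0 : c ≠ 0 := fun h0 => by
    rw [h0, Quadratic.upperE_zero] at hc
    obtain ⟨s, hs, he⟩ := N.upper_onto 1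
    rw [← he, hφ] at hc
    have h1 : s ∈ ρ'.ker := hc
    rw [hker', ← hker, MonoidHom.mem_ker, he, Quadratic.upperE_eq_one_iff] at h1
    exact one_ne_zero h1
  have hcd : 1 + c * d = 0 := by
    have key : SL2Natural.wE (1 : F) * upperE 1 = lowerE (-1 * (1 : F)) * SL2Natural.wE (1 : F) := by
      refine Subtype.ext ?_
      show (SL2Natural.wE (1 : F)).1 * (upperE (1 : F)).1 = (lowerE (-1 * (1 : F))).1 * (SL2Natural.wE (1 : F)).1
      rw [SL2Natural.wE_val one_ne_zero, upperE_val, lowerE_val]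
      ext i j
      fin_cases i <;> fin_cases j <;> simp [Matrix.mul_apply, Fin.sum_univ_two]
    have h1 := congrArg φ key
    rw [map_mul, map_mul, SL2Natural.wE, map_mul, map_mul, inv_one, hd, hc, he₁] at h1
    have h3 : ((upperE c * lowerE d * upperE c * upperE c : SL₂ F)).1 0 1 =
        ((lowerE e₁ * (upperE c * lowerE d * upperE c) : SL₂ F)).1 0 1 := by rw [h1]
    simp [upperE_val, lowerE_val, Matrix.mul_apply, Fin.sum_univ_two] at h3
    exact h3.resolve_right hc0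
  have hdiag : φ (SL2Natural.wE 2 * SL2Natural.wE (-1)) = SL2Natural.wE 2 * SL2Natural.wE (-1) := by
    have hinv : -(c + c)⁻¹ = d₂ := by
      have hd' : d = -c⁻¹ := by
        field_simp
        linear_combination hcd
      have h4 : d₂ * 2 = d := by linear_combination hd2'
      rw [show c + c = c * 2 by ring, mul_inv, ← neg_mul, ← hd', ← h4, mul_inv_cancel_right₀ h2]
    have hinv' : -(-c)⁻¹ = d' := by
      rw [hdn]
      field_simp
      linear_combination hcd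
    have hL : φ (SL2Natural.wE 2 * SL2Natural.wE (-1)) = SL2Natural.wE (c + c) * SL2Natural.wE (-c) := by
      simp only [SL2Natural.wE, map_mul, hc₂, hd₂, hc', inv_neg, inv_one, neg_neg, hd']
      rw [hc2', ← hinv, hcn, ← hinv', inv_neg, neg_neg]
    rw [hL]
    refine Subtype.ext ?_
    show (SL2Natural.wE (c + c)).1 * (SL2Natural.wE (-c)).1 = (SL2Natural.wE (2 : F)).1 * (SL2Natural.wE (-1 : F)).1
    have hcc : c + c ≠ 0 := by rw [← two_mul]; exact mul_ne_zero h2 hc0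
    rw [SL2Natural.wE_val hcc, SL2Natural.wE_val (neg_ne_zero.mpr hc0), SL2Natural.wE_val h2,
      SL2Natural.wE_val (neg_ne_zero.mpr one_ne_zero)]
    ext i j
    fin_cases i <;> fin_cases j <;>
      simp [Matrix.mul_apply, Fin.sum_univ_two, hc0] <;>
      field_simp <;> first | ring1 | exact inv_mul_cancel₀ h2 | exact (div_self h2) | simp [h2, one_add_one_eq_two]
  obtain ⟨g, hg⟩ := N.surj (SL2Natural.wE 2 * SL2Natural.wE (-1))
  have hg' : ρ' g = ρ g := by rw [← hφ, hg, hdiag]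
  have hgval : ∀ v : Fin 2 → F, (ρ g).1.mulVec v = ![2 * v 0, (2 : F)⁻¹ * v 1] := fun v => by
    rw [hg, Matrix.SpecialLinearGroup.coe_mul, SL2Natural.wE_val h2,
      SL2Natural.wE_val (neg_ne_zero.mpr one_ne_zero)]
    funext i
    fin_cases i <;> simp [Matrix.mulVec, dotProduct, Fin.sum_univ_two, Matrix.mul_apply]
  have hmove : ∀ s ∈ S, ∃ a ∈ 𝐐, g * s * g⁻¹ = s ^ 4 * a := fun s hs => by
    refine ⟨(s ^ 4)⁻¹ * (g * s * g⁻¹), ?_, by group⟩
    obtain ⟨a, ha⟩ := N.upper s hs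
    rw [← hker, MonoidHom.mem_ker, map_mul, map_inv, inv_mul_eq_one, map_pow, map_mul, map_mul, map_inv,
      ha, Quadratic.upperE_pow, hg, eq_mul_inv_iff_mul_eq]
    refine Subtype.ext ?_
    show (upperE _).1 * _ = _ * (upperE a).1
    rw [Matrix.SpecialLinearGroup.coe_mul, SL2Natural.wE_val h2,
      SL2Natural.wE_val (neg_ne_zero.mpr one_ne_zero), upperE_val, upperE_val]
    ext i j
    fin_cases i <;> fin_cases j <;> simp [Matrix.mul_apply, Fin.sum_univ_two] <;> field_simp <;> ring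
  obtain ⟨v, hv, hvQ⟩ := t.exists_far h
  have huS := t.D_le (t.U_le t.u_mem)
  have hvS := t.D_le (t.U_le hv)
  obtain ⟨a₁, ha₁, he₁'⟩ := hmove u huS
  obtain ⟨a₂, ha₂, he₂'⟩ := hmove v hvS
  set y := tri x u v
  have hyS := t.tri_mem t.x_mem huS hvS
  have hy : y ∈ zn S := L.Zs_le hyS
  set xg := g * x * g⁻¹
  have hxg : xg ∈ X := t.normal.conj_mem x t.x_mem g
  have hxH : x⁻¹ * xg ^ 2 ∈ X ⊓ D := by
    rw [N'.line _ (mul_mem (inv_mem t.x_mem) (pow_mem hxg 2)),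
      N'.add _ (inv_mem t.x_mem) _ (pow_mem hxg 2), N'.toNatSec.map_inv t.x_mem, N'.toNatSec.pow hxg,
      N'.act g x t.x_mem, hg', hgval]
    simp only [Pi.add_apply, Pi.neg_apply, Pi.smul_apply, Matrix.cons_val_one, Matrix.cons_val_fin_one,
      nsmul_eq_mul]
    push_cast
    have e : ∀ a b : F, (![a, b] : Fin 2 → F) 1 = b := fun a b => rfl
    rw [Pi.mul_apply, e, Pi.ofNat_apply]
    field_simp
    ring
  have hcalc : (g * y * g⁻¹) ^ 2 = y ^ 16 * tri (xg ^ 2) (u ^ 4 * a₁) a₂ := by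
    rw [tri_conj, ← t.tri_pow_left h hxg (by rw [he₁']; exact mul_mem (pow_mem huS 4) (L.Q_le ha₁))
      (by rw [he₂']; exact mul_mem (pow_mem hvS 4) (L.Q_le ha₂)) 2, he₁', he₂',
      t.tri_mul_right (pow_mem hxg 2) (mul_mem (pow_mem huS 4) (L.Q_le ha₁)) (pow_mem hvS 4) (L.Q_le ha₂),
      t.tri_mul_mid (pow_mem hxg 2) (pow_mem huS 4) (L.Q_le ha₁) (pow_mem hvS 4),
      t.tri_mid_one (pow_mem hxg 2) ha₁, mul_one, t.tri_pow_right (pow_mem hxg 2) (pow_mem huS 4) hvS,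
      t.tri_pow_mid (pow_mem hxg 2) huS hvS, ← pow_mul]
    congr 2
    conv_lhs => rw [show xg ^ 2 = x * (x⁻¹ * xg ^ 2) by group]
    rw [t.tri_mul_left h t.x_mem hxH.1 huS hvS, t.tri_left_one hxH huS hvS, one_mul]
  have hc2 : tri (xg ^ 2) (u ^ 4 * a₁) a₂ ∈ zn S ⊓ center G :=
    t.tri_right_mem (pow_mem hxg 2) (mul_mem (pow_mem huS 4) (L.Q_le ha₁)) ha₂
  refine t.far v hv hvQ ((N.ker y hy).mp ?_)
  have hgy : g * y * g⁻¹ ∈ zn S := N.normal.conj_mem y hy g
  have h1 := congrArg ψ hcalc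
  rw [N.toNatSec.pow hgy, N.act g y hy, N.add _ (pow_mem hy 16) _ hc2.1, N.toNatSec.pow hy,
    (N.ker _ hc2.1).mpr hc2, add_zero, hgval] at h1
  have hy1 : ψ y 1 = 0 := (N.line y hy).mp hyS
  funext i
  fin_cases i
  · have h3 := congrFun h1 0
    simp only [Fin.zero_eta, Fin.isValue, Pi.smul_apply, Matrix.cons_val_zero, nsmul_eq_mul] at h3 ⊢
    push_cast at h3
    have h12 : ((12 : ℕ) : F) ≠ 0 := fun h0 => by
      have h12' := hcast 12 h0
      rcases (Nat.Prime.dvd_mul hp).mp (show p ∣ 4 * 3 by simpa using h12') with h' | h'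
      · have := Nat.le_of_dvd (by norm_num) h'; omega
      · have := Nat.le_of_dvd (by norm_num) h'; omega
    refine (mul_eq_zero.mp (?_ : ((12 : ℕ) : F) * ψ y 0 = 0)).resolve_left h12
    push_cast
    linear_combination (-1 : F) * h3
  · exact hy1

end Two

end Cfsg.Agent.PushUp
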