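/-
Pushing up over `PSL₂(q)`: the shape of the Sylow subgroup in the second configuration.

Main results (namespace `Cfsg.Agent.PushUp`):
* `Two.classThree`   : class three
* `Two.exponent_eq`  : exponent nine
-/
import Cfsg.Agent.Lib.PushUp.Two

set_option autoImplicit false

namespace Cfsg.Agent.PushUp

open Subgroup
open scoped commutatorElement

variable {G : Type*} [Group G] [Finite G] {p n : ℕ} [Fact p.Prime]
  {F : Type*} [Field F] [Fintype F] {S M : Subgroup G}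
  {π : G →* Matrix.ProjectiveSpecialLinearGroup (Fin 2) F}
  {X D U : Subgroup G} {x u : G}

local notation "𝐐" => Cfsg.pCore p G

theorem Two.decomp (t : Two p (p ^ n) S X D U x u) {s : G} (hs : s ∈ S) :
    ∃ v ∈ U, ∃ a ∈ X, ∃ d ∈ 𝐐 ⊓ D, s = v * a * d := by
  haveI hQn : (𝐐).Normal := Cores.pCore_normal p G
  haveI := t.normal
  obtain ⟨v, hv, b, hb, rfl⟩ := mem_sup_of_normal_right.mp (t.coverU hs)
  obtain ⟨a, ha, d, hd, rfl⟩ := mem_sup_of_normal_left.mp (t.cover hb)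
  exact ⟨v, hv, a, ha, d, hd, (mul_assoc _ _ _).symm⟩

/-- The Sylow subgroup has class three. -/
theorem Two.classThree (t : Two p (p ^ n) S X D U x u) (h : Hyp p n G S M F π)
    (hquad : ⁅zn S, S⁆ ≤ S ⊓ centralizer (S : Set G)) {w : G} (hw : w ∉ M)
    {Γ : Type*} [Group Γ] {ι : G →* Γ} {N : Subgroup Γ} (hA : Amb S ι N) :
    S.lowerCentralSeries 3 = ⊥ ∧ S.lowerCentralSeries 2 ≠ ⊥ := by
  have L := h.locG
  haveI hQn : (𝐐).Normal := Cores.pCore_normal p G
  haveI := t.normal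
  constructor
  swap
  · intro h0
    obtain ⟨v, hv, hvQ⟩ := t.exists_far h
    refine t.far v hv hvQ ?_
    have h1 : ⁅⁅x, u⁆, v⁆ ∈ S.lowerCentralSeries 2 :=
      commutator_mem_commutator (commutator_mem_commutator (L.Q_le (t.X_le t.x_mem))
        (t.D_le (t.U_le t.u_mem))) (t.D_le (t.U_le hv))
    rw [h0, mem_bot] at h1
    rw [h1]
    exact one_mem _
  obtain ⟨_, _, _, _, -, -, hZW, hWH, -, -, -⟩ := t.main h hquad hw
  set D₀ := 𝐐 ⊓ D
  set Zs := S ⊓ centralizer (S : Set G)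
  have hUS : U ≤ S := t.U_le.trans t.D_le
  have hXS : X ≤ S := t.X_le.trans L.Q_le
  have hD₀S : D₀ ≤ S := inf_le_left.trans L.Q_le
  have hS : S = U ⊔ X ⊔ D₀ := le_antisymm (fun s hs => by
    obtain ⟨v, hv, a, ha, d, hd, rfl⟩ := t.decomp hs
    exact mul_mem (mem_sup_left (mul_mem (mem_sup_left hv) (mem_sup_right ha))) (mem_sup_right hd))
    (sup_le (sup_le hUS hXS) hD₀S)
  have hsplit : ∀ {A T : Subgroup G}, A ≤ S → S ≤ normalizer (T : Set G) → ⁅A, U⁆ ≤ T → ⁅A, X⁆ ≤ T →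
      ⁅A, D₀⁆ ≤ T → ⁅A, S⁆ ≤ T := fun {A T} _ hT h1 h2 h3 => by
    rw [commutator_comm, hS]
    exact comm_sup_le (sup_le hUS hXS) hD₀S hT
      (comm_sup_le hUS hXS hT (by rwa [commutator_comm]) (by rwa [commutator_comm])) (by rwa [commutator_comm])
  have hXDn : S ≤ normalizer ((X ⊓ D : Subgroup G) : Set G) :=
    (le_inf (by rw [normalizer_eq_top]; exact le_top) t.normD).trans inf_normalizer_le_normalizer_inf
  have hD₀n : S ≤ normalizer (D₀ : Set G) :=
    (le_inf (by rw [normalizer_eq_top]; exact le_top) t.normD).trans inf_normalizer_le_normalizer_inf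
  have hlcsn : ∀ k, S ≤ normalizer ((D₀.lowerCentralSeries k : Subgroup G) : Set G) := fun k g hg =>
    mem_normalizer_of_cj_eq (by
      show (D₀.lowerCentralSeries k).map _ = _
      rw [map_lowerCentralSeries]
      exact congrArg (fun A : Subgroup G => A.lowerCentralSeries k) (cj_eq_self (hD₀n hg)))
  have hZsn : S ≤ normalizer (Zs : Set G) := fun g hg =>
    mem_normalizer_inf_centralizer (le_normalizer hg) (le_normalizer hg)
  have hsupn : ∀ A B : Subgroup G, S ≤ normalizer (A : Set G) → S ≤ normalizer (B : Set G) →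
      S ≤ normalizer ((A ⊔ B : Subgroup G) : Set G) := fun A B hA' hB' g hg =>
    mem_normalizer_of_cj_eq (by rw [cj_sup, cj_eq_self (hA' hg), cj_eq_self (hB' hg)])
  have hZsXD : Zs ≤ X ⊓ D := L.Zs_le.trans (hZW.trans hWH)
  have hXQ : ⁅X, 𝐐⁆ ≤ Zs := t.XQ.trans L.C_le
  have hUD₀ : ⁅D₀, U⁆ ≤ Zs := (commutator_mono inf_le_right le_rfl).trans t.DU
  have hD₀X : ⁅D₀, X⁆ ≤ Zs := by
    rw [commutator_comm]
    exact (commutator_mono le_rfl inf_le_left).trans hXQ
  have hUU : ⁅U, U⁆ ≤ Zs := by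
    rw [commutator_le]
    intro a ha b hb
    rw [commutatorElement_eq_one_iff_mul_comm.mpr (t.comm ha b hb).symm]
    exact one_mem _
  have hUXS : ⁅X, U⁆ ≤ X ⊓ D := (commutator_mono le_rfl hUS).trans t.XS
  -- the first two steps
  set T₁ := X ⊓ D ⊔ D₀.lowerCentralSeries 1
  have hT₁ : S ≤ normalizer (T₁ : Set G) := hsupn _ _ hXDn (hlcsn 1)
  have h1 : ⁅S, S⁆ ≤ T₁ := by
    have hz : Zs ≤ T₁ := hZsXD.trans le_sup_left
    rw [hS]
    rw [hS] at hT₁
    refine comm_sup_le (S := U ⊔ X ⊔ D₀) le_sup_left le_sup_right hT₁ ?_ ?_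
    · refine comm_sup_le (S := U ⊔ X ⊔ D₀) (le_sup_left.trans le_sup_left) (le_sup_right.trans le_sup_left)
        hT₁ ?_ ?_
      · rw [← hS] at hT₁ ⊢
        refine hsplit hUS hT₁ (hUU.trans hz) ?_ ?_
        · rw [commutator_comm]; exact hUXS.trans le_sup_left
        · rw [commutator_comm]; exact hUD₀.trans hz
      · rw [← hS]
        exact t.XS.trans le_sup_left
    · rw [← hS] at hT₁ ⊢
      exact hsplit hD₀S hT₁ (hUD₀.trans hz) (hD₀X.trans hz) le_sup_right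
  have hcen : ∀ A : Subgroup G, A ≤ S → ⁅Zs, A⁆ = ⊥ := fun A hA' =>
    le_bot_iff.mp (commutator_le.mpr fun z hz a ha => mem_bot.mpr
      (commutatorElement_eq_one_iff_mul_comm.mpr (hz.2 a (hA' ha)).symm))
  have hrot : ∀ A : Subgroup G, A ≤ S → ⁅D₀, A⁆ ≤ Zs → ⁅D₀.lowerCentralSeries 1, A⁆ = ⊥ := by
    intro A hA' hDA
    have e1 : ⁅⁅D₀, A⁆, D₀⁆ = ⊥ := le_bot_iff.mp ((commutator_mono hDA le_rfl).trans (hcen D₀ hD₀S).le)
    refine commutator_commutator_eq_bot_of_rotate (H₁ := D₀) (H₂ := D₀) (H₃ := A) e1 ?_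
    rw [commutator_comm A D₀]
    exact e1
  have hl1 : D₀.lowerCentralSeries 1 ≤ S := (lowerCentralSeries_le_self _ _).trans hD₀S
  set T₂ := Zs ⊔ D₀.lowerCentralSeries 2
  have hT₂ : S ≤ normalizer (T₂ : Set G) := hsupn _ _ hZsn (hlcsn 2)
  have h2 : ⁅⁅S, S⁆, S⁆ ≤ T₂ := by
    refine (commutator_mono h1 le_rfl).trans (comm_sup_le (S := S) (inf_le_right.trans t.D_le) hl1 hT₂
      (t.XDS.trans le_sup_left) (hsplit hl1 hT₂ ?_ ?_ le_sup_right))
    · rw [hrot U hUS hUD₀]; exact bot_le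
    · rw [hrot X hXS hD₀X]; exact bot_le
  have hl2 : D₀.lowerCentralSeries 2 ≤ S := (lowerCentralSeries_le_self _ _).trans hD₀S
  have h3 : S.lowerCentralSeries 3 ≤ D₀.lowerCentralSeries 3 := by
    refine (commutator_mono h2 le_rfl).trans (comm_sup_le (S := S) inf_le_left hl2 (hlcsn 3)
      (by rw [hcen S le_rfl]; exact bot_le) (hsplit hl2 (hlcsn 3) ?_ ?_ le_rfl))
    · refine le_trans (commutator_mono (Subgroup.lowerCentralSeries_antitone D₀ (show 1 ≤ 2 by norm_num)) le_rfl) ?_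
      rw [hrot U hUS hUD₀]; exact bot_le
    · refine le_trans (commutator_mono (Subgroup.lowerCentralSeries_antitone D₀ (show 1 ≤ 2 by norm_num)) le_rfl) ?_
      rw [hrot X hXS hD₀X]; exact bot_le
  refine hA.lcs_eq_bot ?_
  rw [le_antisymm (h3.trans (lowerCentralSeries_mono 3 inf_le_left)) (lowerCentralSeries_mono 3 L.Q_le)]
  exact lcs_normal 3

/-- The Sylow subgroup has exponent nine. -/
theorem Two.exponent_eq (t : Two p (p ^ n) S X D U x u) (h : Hyp p n G S M F π)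
    (hp3 : p = 3) {Γ : Type*} [Group Γ] {ι : G →* Γ} {N : Subgroup Γ} (hA : Amb S ι N) :
    Monoid.exponent ↥S = 9 := by
  subst hp3
  have L := h.locG
  haveI hQn : (Cfsg.pCore 3 G).Normal := Cores.pCore_normal 3 G
  haveI := t.normal
  set Zs := S ⊓ centralizer (S : Set G)
  set C := zn S ⊓ center G
  have hcube : ∀ v ∈ U, ∀ a ∈ X, ∃ c ∈ C, (v * a) ^ 3 = ⁅v, ⁅v, a⁆⁆ * c := by
    intro v hv a ha
    set hh := ⁅v, a⁆ with hhdef
    have hhX : hh ∈ X ⊓ D := by
      rw [hhdef, ← commutatorElement_inv]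
      exact inv_mem (t.XS (commutator_mem_commutator ha (t.D_le (t.U_le hv))))
    have hc : ⁅a, hh * hh⁆ ∈ C :=
      t.XQ (commutator_mem_commutator ha (t.X_le (mul_mem hhX.1 hhX.1)))
    set z := ⁅v, hh⁆
    have hzS : z ∈ Zs := by
      rw [show z = ⁅hh, v⁆⁻¹ from (commutatorElement_inv _ _).symm]
      exact inv_mem (t.XDS (commutator_mem_commutator hhX (t.D_le (t.U_le hv))))
    refine ⟨⁅a, hh * hh⁆ * hh ^ 3 * a ^ 3, mul_mem (mul_mem hc (t.powX _ hhX.1)) (t.powX _ ha), ?_⟩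
    have e1 : v * a * v⁻¹ = hh * a := by rw [hhdef, commutatorElement_def]; group
    have e2 : v * hh * v⁻¹ = z * hh := by simp only [z, commutatorElement_def]; group
    have hv3 : v ^ 3 = 1 := t.powU v hv
    have hha : hh * a ∈ S := mul_mem (L.Q_le (t.X_le hhX.1)) (L.Q_le (t.X_le ha))
    have hcm : hh * ⁅a, hh * hh⁆ = ⁅a, hh * hh⁆ * hh := (mem_center_iff.mp hc.2 hh)
    calc (v * a) ^ 3 = v * a * v⁻¹ * (v * (v * a * v⁻¹) * v⁻¹) * (v ^ 3 * a) := by
          simp only [pow_succ, pow_zero, one_mul]; group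
      _ = hh * a * (v * (hh * a) * v⁻¹) * a := by rw [e1, hv3, one_mul]
      _ = hh * a * (v * hh * v⁻¹ * (v * a * v⁻¹)) * a := by group
      _ = hh * a * (z * hh * (hh * a)) * a := by rw [e1, e2]
      _ = hh * a * z * (hh * hh * a * a) := by group
      _ = z * (hh * a) * (hh * hh * a * a) := by rw [hzS.2 (hh * a) hha]
      _ = z * hh * ⁅a, hh * hh⁆ * (hh * hh * a) * a * a := by simp only [commutatorElement_def]; group
      _ = z * (⁅a, hh * hh⁆ * hh) * (hh * hh * a) * a * a := by rw [mul_assoc z hh, hcm]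
      _ = _ := by simp only [pow_succ, pow_zero, one_mul]; group
  have hXn := t.normal
  have hle : Cfsg.powerClosure 3 2 S ≤ Cfsg.powerClosure 3 2 (Cfsg.pCore 3 G) := by
    rw [Cfsg.powerClosure, closure_le]
    rintro _ ⟨s, hs, rfl⟩
    obtain ⟨v, hv, a, ha, d, hd, rfl⟩ := t.decomp hs
    have hvS := t.D_le (t.U_le hv)
    have haS := L.Q_le (t.X_le ha)
    obtain ⟨c, hc, e⟩ := hcube v hv a ha
    have hrz : (v * a) ^ 3 ∈ Zs := by
      rw [e]
      refine mul_mem ?_ (L.C_le hc)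
      rw [← commutatorElement_inv]
      refine inv_mem (t.XDS (commutator_mem_commutator ?_ hvS))
      rw [← commutatorElement_inv]
      exact inv_mem (t.XS (commutator_mem_commutator ha hvS))
    have hdr : ⁅d, v * a⁆ ∈ Zs := by
      have h1 : ⁅d, v⁆ ∈ Zs := t.DU (commutator_mem_commutator hd.2 hv)
      have h2 : ⁅d, a⁆ ∈ Zs := by
        rw [← commutatorElement_inv]
        exact inv_mem (L.C_le (t.XQ (commutator_mem_commutator ha hd.1)))
      rw [commutatorElement_right_mul_eq, h2.2 v hvS, mul_inv_cancel_right]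
      exact mul_mem h1 h2
    have hchoose : Nat.choose 3 2 = 3 := rfl
    have e3 : (v * a * d) ^ 3 = (v * a) ^ 3 * d ^ 3 := by
      rw [PGroup.mul_pow_eq (hdr.2 (v * a) (mul_mem hvS haS)) (hdr.2 d (L.Q_le hd.1)), hchoose,
        h.center_pow _ hdr, one_mul]
    have e9 : (v * a * d) ^ 3 ^ 2 = d ^ 3 ^ 2 := by
      rw [show (3 : ℕ) ^ 2 = 3 * 3 from rfl, pow_mul, e3,
        (show Commute ((v * a) ^ 3) (d ^ 3) from
          ((hrz.2 (d ^ 3) (pow_mem (L.Q_le hd.1) 3)).symm)).mul_pow, h.center_pow _ hrz, one_mul, ← pow_mul]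
    rw [e9]
    exact PGroup.pow_mem_powerClosure 2 hd.1
  have hn : (Cfsg.powerClosure 3 2 (Cfsg.pCore 3 G)).Normal := by
    rw [← normalizer_eq_top_iff, eq_top_iff]
    intro g _
    refine mem_normalizer_of_cj_eq ?_
    show (Cfsg.powerClosure 3 2 (Cfsg.pCore 3 G)).map _ = _
    rw [PGroup.map_powerClosure]
    exact congrArg (Cfsg.powerClosure 3 2) (cj_eq_self (by rw [normalizer_eq_top]; trivial))
  have h0 := hA.powerClosure_eq_bot (p := 3) (k := 2)
    (le_antisymm hle (PGroup.powerClosure_mono 2 L.Q_le) ▸ hn)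
  have h9 : Monoid.exponent ↥S ∣ 3 ^ 2 := Monoid.exponent_dvd_of_forall_pow_eq_one fun s => Subtype.ext (by
    simpa using mem_bot.mp (h0 ▸ PGroup.pow_mem_powerClosure (p := 3) 2 s.2))
  have hnot : ¬ Monoid.exponent ↥S ∣ 3 := fun h3 => by
    refine t.far u t.u_mem (t.u_not_mem h) ?_
    have huS := t.D_le (t.U_le t.u_mem)
    have hxS := L.Q_le (t.X_le t.x_mem)
    obtain ⟨c, hc, e⟩ := hcube u t.u_mem x t.x_mem
    have h1 : (u * x) ^ 3 = 1 := by
      have := Monoid.exponent_dvd_iff_forall_pow_eq_one.mp h3 (⟨u * x, mul_mem huS hxS⟩ : ↥S)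
      simpa using congrArg Subtype.val this
    rw [h1] at e
    have h2 : ⁅u, ⁅u, x⁆⁆ ∈ C := by
      rw [show ⁅u, ⁅u, x⁆⁆ = c⁻¹ from eq_inv_of_mul_eq_one_left e.symm]
      exact inv_mem hc
    have h5 := (inferInstance : C.Normal).conj_mem _ h2 ⁅u, x⁆⁻¹
    rw [inv_inv] at h5
    rwa [show ⁅⁅x, u⁆, u⁆ = ⁅u, x⁆⁻¹ * ⁅u, ⁅u, x⁆⁆ * ⁅u, x⁆ by
      simp only [commutatorElement_def]; group]
  obtain ⟨k, hk2, hk⟩ := (Nat.dvd_prime_pow Nat.prime_three).mp h9
  interval_cases k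
  · exact absurd (hk ▸ one_dvd 3) hnot
  · exact absurd (hk ▸ dvd_refl 3) hnot
  · simpa using hk

end Cfsg.Agent.PushUp
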