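/-
Pushing up over `PSL₂(q)`: the conclusions.

Main results (namespace `Cfsg.Agent.PushUp`):
* `amb_perm`        : the regular permutation representation is a suitable ambient group
* `Hyp.conclusion`  : `G / O_p(G) ≅ SL₂(q)` and the noncentral chief factors in `O_p(G)` are natural
* `Hyp.shape`       : class, exponent and number of noncentral chief factors
-/
import Cfsg.Agent.Lib.PushUp.TwoShape

set_option autoImplicit false

namespace Cfsg.Agent.PushUp

open Subgroup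
open scoped commutatorElement

variable {G : Type*} [Group G]

/-- The right regular representation. -/
def regRight (G : Type*) [Group G] : G →* Equiv.Perm G where
  toFun g := Equiv.mulRight g⁻¹
  map_one' := by ext x; simp
  map_mul' g h := by ext x; simp [mul_assoc]

theorem regRight_apply (g x : G) : regRight G g x = x * g⁻¹ := rfl

/-- The regular representation with the normalizer of the image of `S`. -/
theorem amb_perm (S : Subgroup G)
    (hd : ∀ T : Subgroup ↥S, T ≠ ⊥ → T.Characteristic → ¬ (T.map S.subtype).Normal) :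
    Amb S (regRight G) (normalizer (S.map (regRight G) : Set (Equiv.Perm G))) := by
  classical
  have hinj : Function.Injective (regRight G) := fun a b h => by
    have := congrArg (fun e : Equiv.Perm G => e 1) h
    simpa [regRight_apply] using this
  refine ⟨hinj, le_rfl, fun T hT hne hTn hN => hd (T.subgroupOf S) ?_ ?_ ?_⟩
  · intro h
    rw [subgroupOf_eq_bot, disjoint_iff, inf_eq_left.mpr hT] at h
    exact hne h
  · refine characteristic_iff_map_le.mpr fun α => ?_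
    let r : G → G := fun g => (QuotientGroup.mk g : G ⧸ S).out
    have hr : ∀ g, (r g)⁻¹ * g ∈ S := fun g => QuotientGroup.eq.mp (QuotientGroup.out_eq' _)
    have hrs : ∀ g s, s ∈ S → r (g * s) = r g := fun g s hs => by
      simp only [r]
      rw [QuotientGroup.mk_mul_of_mem g hs]
    let f : (↥S ≃* ↥S) → G → G := fun β g => r g * (β ⟨_, hr g⟩ : G)
    have hrf : ∀ β g, r (f β g) = r g := fun β g => by
      show r (r g * _) = r g
      rw [hrs _ _ (β ⟨_, hr g⟩).2]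
      simp only [r, QuotientGroup.out_eq']
    have hf : ∀ β g, f β.symm (f β g) = g := fun β g => by
      show r (f β g) * _ = g
      have h1 : (⟨_, hr (f β g)⟩ : ↥S) = β ⟨_, hr g⟩ := Subtype.ext (by
        show (r (f β g))⁻¹ * f β g = _
        rw [hrf]
        simp [f])
      rw [h1, β.symm_apply_apply, hrf]
      simp
    let t : Equiv.Perm G := ⟨f α, f α.symm, hf α, fun g => by
      have := hf α.symm g
      rwa [MulEquiv.symm_symm] at this⟩
    have ht : ∀ a : ↥S, t * regRight G a * t⁻¹ = regRight G (α a) := fun a => by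
      rw [mul_inv_eq_iff_eq_mul]
      ext g
      show f α (g * (a : G)⁻¹) = f α g * ((α a : ↥S) : G)⁻¹
      have h1 : (⟨_, hr (g * (a : G)⁻¹)⟩ : ↥S) = ⟨_, hr g⟩ * a⁻¹ := Subtype.ext (by
        show (r (g * (a : G)⁻¹))⁻¹ * (g * (a : G)⁻¹) = (r g)⁻¹ * g * (a : G)⁻¹
        rw [hrs _ _ (inv_mem a.2), mul_assoc])
      show r (g * (a : G)⁻¹) * _ = r g * _ * _
      rw [h1, hrs _ _ (inv_mem a.2), map_mul, map_inv]
      simp [mul_assoc]
    have htN : t ∈ normalizer (S.map (regRight G) : Set (Equiv.Perm G)) := by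
      refine mem_normalizer_of_cj_eq (le_antisymm ?_ ?_)
      · rintro _ ⟨_, ⟨a, ha, rfl⟩, rfl⟩
        exact ⟨_, (α ⟨a, ha⟩).2, (ht ⟨a, ha⟩).symm⟩
      · rintro _ ⟨a, ha, rfl⟩
        refine ⟨_, ⟨_, (α.symm ⟨a, ha⟩).2, rfl⟩, ?_⟩
        show t * regRight G (α.symm ⟨a, ha⟩ : ↥S) * t⁻¹ = regRight G a
        rw [ht, α.apply_symm_apply]
    rintro _ ⟨a, ha, rfl⟩
    have h2 : regRight G (α a : ↥S) ∈ T.map (regRight G) := by
      rw [← ht a, ← cj_eq_self (hN htN)]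
      exact conj_mem_cj ⟨_, ha, rfl⟩
    obtain ⟨b, hb, he⟩ := h2
    show ((α a : ↥S) : G) ∈ T
    rwa [← hinj he]
  · rwa [subgroupOf_map_subtype, inf_eq_left.mpr hT]

variable [Finite G] {p n : ℕ} [Fact p.Prime] {F : Type*} [Field F] [Fintype F]
  {S M : Subgroup G} {π : G →* Matrix.ProjectiveSpecialLinearGroup (Fin 2) F}
  {Γ : Type*} [Group Γ] [Finite Γ] {ι : G →* Γ} {N : Subgroup Γ}

local notation "𝐐" => Cfsg.pCore p G

/-- The quotient by `O_p` and the chief factors. -/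
theorem Hyp.conclusion (h : Hyp p n G S M F π) (hA : Amb S ι N) :
    Nonempty (G ⧸ 𝐐 ≃* Matrix.SpecialLinearGroup (Fin 2) F) ∧
      ∀ (U W : Subgroup G) [W.Normal], U ≤ 𝐐 → Cfsg.IsChiefFactor U W →
        ¬ ⁅U, (⊤ : Subgroup G)⁆ ≤ W →
        Cfsg.IsNaturalSL2Module F (U.map (QuotientGroup.mk' W)) (⊤ : Subgroup (G ⧸ W)) := by
  have L := h.locG
  haveI hQn : (𝐐).Normal := Cores.pCore_normal p G
  haveI hOn : (Cfsg.pResidual p G).Normal := PReduced.pResidual_normal p G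
  haveI hzn : (zn S).Normal := normalClosure_normal
  have hnil : Group.IsNilpotent ↥S := L.pS.isNilpotent
  obtain ⟨w, hw⟩ := h.exists_w
  obtain ⟨hquad, hcase⟩ := h.config hA
  have hbot : ∀ {U W : Subgroup G}, W.Normal → Cfsg.IsChiefFactor U W →
      U ≤ ⁅U, Cfsg.pResidual p G⁆ ⊔ W → ¬ U ≤ (U ⊓ (zn S ⊓ center G)) ⊔ W := by
    intro U W hWn hch hmv hle
    haveI := hWn
    haveI := hch.2.1
    have h2 := descend_commutator (B := (⊥ : Subgroup G)) hmv hle (commutator_le.mpr fun a ha o _ =>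
      mem_bot.mpr (commutatorElement_eq_one_iff_mul_comm.mpr (mem_center_iff.mp ha.2 o).symm))
    exact hch.1.not_ge (h2.trans (sup_le (inf_le_right.trans bot_le) le_rfl))
  rcases hcase with ⟨Z', h1, -, -, -⟩ | h2
  · obtain ⟨ρ, ψ, Nn, hker, hQO⟩ := h1.main h hquad hw
    refine ⟨⟨(QuotientGroup.quotientMulEquivOfEq hker.symm).trans
      (QuotientGroup.quotientKerEquivOfSurjective ρ Nn.surj)⟩, fun U W hWn hUQ hch hne => ?_⟩
    haveI := hch.2.1
    have hmv := le_commutator_sup hnil L.O_sup (hUQ.trans L.Q_le) hch hne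
    have h3 := descend_commutator (B := zn S) hmv ((le_inf le_rfl hUQ).trans le_sup_left) hQO
    rcases Nn.toNatSec.descend hch h3 with ⟨ψ', h4⟩ | h4
    · exact h4.isNatural
    · exact absurd h4 (hbot hWn hch hmv)
  · obtain ⟨X, D, U₀, x, u, t⟩ := exists_two h h2
    haveI := t.normal
    haveI : (cm X (zn S) ⊤).Normal := cm_top_normal'
    obtain ⟨ρ, ψ, ρ', ψ', Nn, Nn', -, -, hker, -, hQO⟩ := t.main h hquad hw
    refine ⟨⟨(QuotientGroup.quotientMulEquivOfEq hker.symm).trans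
      (QuotientGroup.quotientKerEquivOfSurjective ρ Nn.surj)⟩, fun U W hWn hUQ hch hne => ?_⟩
    haveI := hch.2.1
    have hmv := le_commutator_sup hnil L.O_sup (hUQ.trans L.Q_le) hch hne
    have h3 := descend_commutator (B := X) hmv ((le_inf le_rfl hUQ).trans le_sup_left) hQO
    rcases Nn'.toNatSec.descend hch h3 with ⟨ψ', h4⟩ | h4
    · exact h4.isNatural
    have h5 := descend_commutator (B := zn S) hmv h4
      (commutator_le.mpr fun a ha o _ => ha.2 o (mem_top o))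
    rcases Nn.toNatSec.descend hch h5 with ⟨ψ', h6⟩ | h6
    · exact h6.isNatural
    · exact absurd h6 (hbot hWn hch hmv)

/-- The shape of the Sylow subgroup. -/
theorem Hyp.shape (h : Hyp p n G S M F π) (hA : Amb S ι N) :
    (S.lowerCentralSeries 2 = ⊥ ∧ S.lowerCentralSeries 1 ≠ ⊥ ∧
      (p = 2 → Monoid.exponent ↥S = 4) ∧ (p ≠ 2 → Monoid.exponent ↥S = p) ∧
      (∃ U W : Subgroup G, W ≤ U ∧ U ≤ 𝐐 ∧ Cfsg.IsChiefFactor U W ∧ ¬ ⁅U, (⊤ : Subgroup G)⁆ ≤ W ∧
        (∃ k : ℕ, Cfsg.iterCommutator W ⊤ k = ⊥) ∧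
        (∃ k : ℕ, Cfsg.iterCommutator 𝐐 ⊤ k ≤ U))) ∨
    (p = 3 ∧ S.lowerCentralSeries 3 = ⊥ ∧ S.lowerCentralSeries 2 ≠ ⊥ ∧ Monoid.exponent ↥S = 9 ∧
      (∃ U₁ W₁ U₂ W₂ : Subgroup G, W₁ ≤ U₁ ∧ U₁ ≤ W₂ ∧ W₂ ≤ U₂ ∧ U₂ ≤ 𝐐 ∧
        Cfsg.IsChiefFactor U₁ W₁ ∧ Cfsg.IsChiefFactor U₂ W₂ ∧
        ¬ ⁅U₁, (⊤ : Subgroup G)⁆ ≤ W₁ ∧ ¬ ⁅U₂, (⊤ : Subgroup G)⁆ ≤ W₂ ∧
        (∃ k : ℕ, Cfsg.iterCommutator W₁ ⊤ k = ⊥) ∧ (∃ k : ℕ, Cfsg.iterCommutator W₂ ⊤ k ≤ U₁) ∧
        (∃ k : ℕ, Cfsg.iterCommutator 𝐐 ⊤ k ≤ U₂))) := by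
  have L := h.locG
  haveI hQn : (𝐐).Normal := Cores.pCore_normal p G
  haveI hOn : (Cfsg.pResidual p G).Normal := PReduced.pResidual_normal p G
  haveI hzn : (zn S).Normal := normalClosure_normal
  have hnil : Group.IsNilpotent ↥S := L.pS.isNilpotent
  obtain ⟨w, hw⟩ := h.exists_w
  obtain ⟨hquad, hcase⟩ := h.config hA
  have hC : Cfsg.iterCommutator (zn S ⊓ center G) ⊤ 1 = ⊥ :=
    le_bot_iff.mp (commutator_le.mpr fun a ha g _ =>
      mem_bot.mpr (commutatorElement_eq_one_iff_mul_comm.mpr (mem_center_iff.mp ha.2 g).symm))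
  rcases hcase with ⟨Z', h1, -, -, -⟩ | h2
  · obtain ⟨ρ, ψ, Nn, hker, hQO⟩ := h1.main h hquad hw
    obtain ⟨hc2, hc1⟩ := h1.classTwo h hquad hA
    obtain ⟨he2, hep⟩ := h1.exponent_eq h hquad hA
    exact Or.inl ⟨hc2, hc1, he2, hep, zn S, zn S ⊓ center G, inf_le_left, L.Z_le,
      Nn.toNatSec.isChief, Nn.toNatSec.not_comm_le, ⟨1, hC⟩,
      exists_iterCommutator_le hnil L.O_sup L.Q_le hQO⟩
  · obtain ⟨X, D, U₀, x, u, t⟩ := exists_two h h2
    haveI := t.normal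
    obtain ⟨ρ, ψ, ρ', ψ', Nn, Nn', hZW, -, -, -, hQO⟩ := t.main h hquad hw
    have hp3 := t.eq_three h hquad hw
    obtain ⟨hc3, hc2⟩ := t.classThree h hquad hw hA
    exact Or.inr ⟨hp3, hc3, hc2, t.exponent_eq h hp3 hA, zn S, zn S ⊓ center G, X, cm X (zn S) ⊤,
      inf_le_left, hZW, cm_le _ _ _, t.X_le, Nn.toNatSec.isChief, Nn'.toNatSec.isChief,
      Nn.toNatSec.not_comm_le, Nn'.toNatSec.not_comm_le, ⟨1, hC⟩,
      ⟨1, commutator_le.mpr fun a ha g _ => ha.2 g (mem_top g)⟩,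
      exists_iterCommutator_le hnil L.O_sup L.Q_le hQO⟩

end Cfsg.Agent.PushUp
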