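/-
Baumann's lemma for a quotient `PSL₂(p^n)`.

Main results (namespace `Cfsg.Agent.PushUp`):
* `baumann`       : if `Z(S)` is not normal, then `J̃ = C_S(Z(J(S)))` is normal or
                    `Z(J(S)) ≤ Z(S) C_G(⟨J̃^G⟩)` with `O^p(G) ≤ ⟨J̃^G⟩`
* `relIndex_le_of_maxAbelian` : an abelian normal subgroup is moved at most as much as `A` exceeds it
-/
import Cfsg.Agent.Lib.PushUp.RankOne

set_option autoImplicit false

namespace Cfsg.Agent.PushUp

variable {G : Type*} [Group G] [Finite G] {p : ℕ} [Fact p.Prime]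
  {F : Type*} [Field F] [Fintype F] {n : ℕ}

omit [Field F] [Fintype F] [Fact p.Prime] in
theorem card_mul_relIndex' {X Y : Subgroup G} (h : X ≤ Y) :
    Nat.card ↥X * X.relIndex Y = Nat.card ↥Y := by
  rw [← Subgroup.relIndex_bot_left, Subgroup.relIndex_mul_relIndex _ _ _ bot_le h,
    Subgroup.relIndex_bot_left]

omit [Finite G] [Field F] [Fintype F] [Fact p.Prime] in
theorem abelian_sup {B W : Subgroup G} (hB : B ≤ Subgroup.centralizer (B : Set G))
    (hW : W ≤ Subgroup.centralizer (W : Set G)) (hBW : W ≤ Subgroup.centralizer (B : Set G)) :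
    PLocal.abelian (B ⊔ W) := by
  refine Subgroup.le_centralizer_iff_isMulCommutative.1 (sup_le ?_ ?_)
  · exact Subgroup.le_centralizer_iff.mp (sup_le hB hBW)
  · exact Subgroup.le_centralizer_iff.mp (sup_le (Subgroup.le_centralizer_iff.mp hBW) hW)

omit [Field F] [Fintype F] [Fact p.Prime] in
/-- If `B ≤ A` commutes with `W` and `BW` is abelian in `S`, then `|W : C_W(A)| ≤ |A : B|`, and the
case of equality gives a new abelian subgroup of largest order. -/
theorem relIndex_le_of_maxAbelian {S A B W : Subgroup G} (hA : A ∈ PLocal.maxIn PLocal.abelian S)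
    (hBA : B ≤ A) (hWS : W ≤ S) (hW : W ≤ Subgroup.centralizer (W : Set G))
    (hBW : W ≤ Subgroup.centralizer (B : Set G)) :
    (W ⊓ Subgroup.centralizer (A : Set G)).relIndex W ≤ B.relIndex A ∧
      (B.relIndex A ≤ (W ⊓ Subgroup.centralizer (A : Set G)).relIndex W →
        B ⊔ W ∈ PLocal.maxIn PLocal.abelian S) := by
  set C := W ⊓ Subgroup.centralizer (A : Set G)
  have hAab : A ≤ Subgroup.centralizer (A : Set G) :=
    Subgroup.le_centralizer_iff_isMulCommutative.2 hA.2.1
  have hab := abelian_sup (hBA.trans (hAab.trans (Subgroup.centralizer_le hBA))) hW hBW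
  have hsS : B ⊔ W ≤ S := sup_le (hBA.trans hA.1) hWS
  have hmax := hA.2.2 _ hsS hab
  have hBC : B ⊓ W ≤ C := le_inf inf_le_right (inf_le_left.trans (hBA.trans hAab))
  haveI : (B.subgroupOf (B ⊔ W)).Normal := by
    refine Subgroup.normal_subgroupOf_of_le_normalizer ?_
    exact (Subgroup.le_centralizer_iff_isMulCommutative.2 hab).trans
      ((Subgroup.centralizer_le (le_sup_left : B ≤ B ⊔ W)).trans (Subgroup.centralizer_le_normalizer _))
  have h0 : B.relIndex (B ⊔ W) = (B ⊓ W).relIndex W := by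
    rw [Subgroup.inf_relIndex_right]
    have h2 : (⊤ : Subgroup ↥(B ⊔ W)) = W.subgroupOf (B ⊔ W) ⊔ B.subgroupOf (B ⊔ W) := by
      rw [← Subgroup.subgroupOf_sup le_sup_right le_sup_left, sup_comm W B, Subgroup.subgroupOf_self]
    rw [show B.relIndex (B ⊔ W) = (B.subgroupOf (B ⊔ W)).index from rfl,
      ← Subgroup.relIndex_top_right, h2, Subgroup.relIndex_sup_right,
      Subgroup.relIndex_subgroupOf le_sup_right]
  have h1 : Nat.card ↥B * (B ⊓ W).relIndex W = Nat.card ↥(B ⊔ W) := by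
    rw [← h0, card_mul_relIndex' le_sup_left]
  have h5 := card_mul_relIndex' hBA
  have h6 : C.relIndex W ≤ (B ⊓ W).relIndex W :=
    Subgroup.relIndex_le_of_le_left hBC Subgroup.index_ne_zero_of_finite
  have h7 : (B ⊓ W).relIndex W ≤ B.relIndex A := by
    refine Nat.le_of_mul_le_mul_left ?_ (Nat.card_pos (α := ↥B))
    rw [h1, h5]; exact hmax
  refine ⟨h6.trans h7, fun h8 => ⟨hsS, hab, fun D hD hDab => ?_⟩⟩
  refine (hA.2.2 D hD hDab).trans ?_
  rw [← h1, ← h5]
  exact Nat.mul_le_mul_left _ (h8.trans h6)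

omit [Finite G] [Field F] [Fintype F] [Fact p.Prime] in
theorem normalizer_le_normalizer_centralizer' (M : Subgroup G) :
    Subgroup.normalizer (M : Set G) ≤ Subgroup.normalizer
      ((Subgroup.centralizer (M : Set G) : Subgroup G) : Set G) := by
  intro g hg
  have key : ∀ {g : G}, g ∈ Subgroup.normalizer (M : Set G) → ∀ x ∈ Subgroup.centralizer (M : Set G),
      g * x * g⁻¹ ∈ Subgroup.centralizer (M : Set G) := by
    intro g hg x hx m hm
    have h1 := hx (g⁻¹ * m * g) ((Subgroup.mem_normalizer_iff''.mp hg m).mp hm)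
    calc m * (g * x * g⁻¹) = g * (g⁻¹ * m * g * x) * g⁻¹ := by group
      _ = g * (x * (g⁻¹ * m * g)) * g⁻¹ := by rw [h1]
      _ = g * x * g⁻¹ * m := by group
  rw [Subgroup.mem_normalizer_iff]
  refine fun x => ⟨key hg x, fun hx => ?_⟩
  have := key (inv_mem hg) _ hx
  simpa [mul_assoc] using this

omit [Field F] [Fintype F] in
/-- For `J(S) ≤ O_p(G)` the subgroup `Z(J(S))` is normal. -/
theorem centerThompson_normal {S : Sylow p G}
    (hJ : Cfsg.thompsonSubgroupAOf (S : Subgroup G) ≤ Cfsg.pCore p G) :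
    (Cfsg.centerThompsonAOf (S : Subgroup G)).Normal := by
  set Q := Cfsg.pCore p G
  set J := Cfsg.thompsonSubgroupAOf (S : Subgroup G) with hJdef
  have hQS : Q ≤ (S : Subgroup G) := Cores.pCore_le_sylow S
  have hmem : ∀ A, A ∈ PLocal.maxIn PLocal.abelian (S : Subgroup G) → A ≤ J := fun A hA => by
    rw [hJdef, PLocal.thompsonSubgroupAOf_eq]
    exact le_sSup hA
  obtain ⟨A, hA⟩ := PLocal.exists_maxIn (Q := PLocal.abelian) PLocal.abelian_bot (S : Subgroup G)
  have hJQ : J = Cfsg.thompsonSubgroupAOf Q := by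
    rw [hJdef, PLocal.thompsonSubgroupAOf_eq, PLocal.thompsonSubgroupAOf_eq]
    refine le_antisymm (sSup_le_sSup fun B hB =>
      PLocal.maxIn_of_mem_le hB ((hmem B hB).trans hJ) hQS)
      (sSup_le_sSup (PLocal.maxIn_subset hA ((hmem A hA).trans hJ) hQS))
  haveI : J.Normal := by
    rw [hJQ, ← Subgroup.normalizer_eq_top_iff, eq_top_iff]
    refine le_trans ?_ (PLocal.normalizer_le_normalizer_thompsonSubgroupAOf Q)
    rw [Subgroup.normalizer_eq_top]
  exact inferInstanceAs ((J ⊓ Subgroup.centralizer (J : Set G))).Normal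

omit [Field F] [Fintype F] in
/-- The centre of `S` lies in `Z(J(S))`. -/
theorem center_le_centerThompson (S : Sylow p G) :
    (S : Subgroup G) ⊓ Subgroup.centralizer ((S : Subgroup G) : Set G) ≤
      Cfsg.centerThompsonAOf (S : Subgroup G) := by
  intro z hz
  obtain ⟨A, hA⟩ := PLocal.exists_maxIn (Q := PLocal.abelian) PLocal.abelian_bot (S : Subgroup G)
  have hle : A ≤ Cfsg.thompsonSubgroupAOf (S : Subgroup G) := by
    rw [PLocal.thompsonSubgroupAOf_eq]; exact le_sSup hA
  exact ⟨hle (PLocal.mem_of_centralizes_abelian hA hz.1 fun a ha => hz.2 a (hA.1 ha)),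
    fun x hx => hz.2 x (PLocal.thompsonSubgroupAOf_le _ hx)⟩

/-- A normal subgroup not containing `O^p(G)` lies in the kernel of the map to `PSL₂(p^n)`. -/
theorem le_ker {S : Sylow p G} (hu : ∃! M : Subgroup G, IsCoatom M ∧ (S : Subgroup G) ≤ M)
    (hF : Fintype.card F = p ^ n) (hn : 2 ≤ n)
    (π : G →* Matrix.ProjectiveSpecialLinearGroup (Fin 2) F) (hπ : Function.Surjective π)
    {N : Subgroup G} [N.Normal] (hN : ¬ Cfsg.pResidual p G ≤ N) : N ≤ π.ker := by
  have hp : p.Prime := Fact.out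
  haveI := PSL2.isSimpleGroup_psl (L := F) (by
    rw [Nat.card_eq_fintype_card, hF]
    calc 4 = 2 ^ 2 := rfl
      _ ≤ p ^ 2 := Nat.pow_le_pow_left hp.two_le 2
      _ ≤ p ^ n := Nat.pow_le_pow_right hp.pos hn)
  rcases (Subgroup.Normal.map (inferInstance : N.Normal) π hπ).eq_bot_or_eq_top with h1 | h1
  · exact (Subgroup.map_eq_bot_iff _).mp h1
  exfalso
  obtain ⟨M, ⟨hM, hSM⟩, -⟩ := id hu
  have hker : ¬ Cfsg.pResidual p G ≤ π.ker := fun h => by
    refine (card_le_of_psl hF (IsPGroup.of_bot)).2 ?_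
    haveI := PReduced.pResidual_normal p G
    have h2 : IsPGroup p (G ⧸ π.ker) := PIrred.isPGroup_quotient_of_sup S.2 (top_le_iff.1
      ((PReduced.pResidual_sup_sylow S).ge.trans (sup_le (h.trans le_sup_right) le_sup_left)))
    exact h2.of_equiv (QuotientGroup.quotientKerEquivOfSurjective π hπ)
  have hle : ∀ N : Subgroup G, N.Normal → ¬ Cfsg.pResidual p G ≤ N → N ≤ M := by
    intro N hN hnot
    refine le_sup_right.trans (PIrred.le_of_ne_top hu ⟨hM, hSM⟩
      (le_sup_left : (S : Subgroup G) ≤ (S : Subgroup G) ⊔ N) fun h2 => hnot ?_)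
    exact Transfer.pResidual_le (PIrred.isPGroup_quotient_of_sup S.2 h2)
  have hsup : N ⊔ π.ker = ⊤ := by rw [← Subgroup.comap_map_eq, h1, Subgroup.comap_top]
  exact hM.1 (top_le_iff.1 (hsup ▸ sup_le (hle _ inferInstance hN) (hle _ inferInstance hker)))

omit [Field F] [Fintype F] in
/-- A `p'`-element moving an abelian `p`-group into its fixed points fixes it. -/
theorem centralizes_of_commutator_fixed {V : Subgroup G} (hV : IsPGroup p V) {x : G}
    (hco : (orderOf x).Coprime p)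
    (hfix : ∀ v ∈ V, x * v * x⁻¹ * v⁻¹ ∈ V ∧ Commute x (x * v * x⁻¹ * v⁻¹)) :
    x ∈ Subgroup.centralizer (V : Set G) := by
  intro v hv
  obtain ⟨hdV, hd⟩ := hfix v hv
  set d := x * v * x⁻¹ * v⁻¹ with hdef
  have hpow : ∀ j : ℕ, x ^ j * v * (x ^ j)⁻¹ = d ^ j * v := by
    intro j
    induction j with
    | zero => simp
    | succ j ihj =>
      calc x ^ (j + 1) * v * (x ^ (j + 1))⁻¹ = x * (x ^ j * v * (x ^ j)⁻¹) * x⁻¹ := by
            rw [pow_succ']; group
        _ = (x * d ^ j) * v * x⁻¹ := by rw [ihj]; group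
        _ = d ^ j * (d * v) := by rw [(hd.pow_right j).eq, hdef]; group
        _ = d ^ (j + 1) * v := by rw [← mul_assoc, ← pow_succ]
  have h := hpow (orderOf x)
  rw [pow_orderOf_eq_one, one_mul, inv_one, mul_one, right_eq_mul] at h
  obtain ⟨k, hk⟩ := hV ⟨d, hdV⟩
  have hk' : d ^ p ^ k = 1 := by simpa using congrArg Subtype.val hk
  have hd1 : d = 1 := orderOf_eq_one_iff.mp (Nat.eq_one_of_dvd_coprimes (hco.pow_right k)
    (orderOf_dvd_of_pow_eq_one h) (orderOf_dvd_of_pow_eq_one hk'))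
  exact (mul_inv_eq_iff_eq_mul.mp (mul_inv_eq_one.mp (hdef ▸ hd1))).symm

/-- A module for a `PSL₂(p^n)` quotient has order at least `p^(2n)` over its fixed points. -/
theorem relIndex_ge_sq {S : Sylow p G} (hu : ∃! M : Subgroup G, IsCoatom M ∧ (S : Subgroup G) ≤ M)
    (hF : Fintype.card F = p ^ n) (hn : 2 ≤ n)
    (π : G →* Matrix.ProjectiveSpecialLinearGroup (Fin 2) F) (hπ : Function.Surjective π)
    {V Z₀ : Subgroup G} [V.Normal] (hV : IsPGroup p V) (hZV : Z₀ ≤ V)
    (hZc : ∀ z ∈ Z₀, ∀ g : G, g * z = z * g)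
    (hVC : ¬ Cfsg.pResidual p G ≤ Subgroup.centralizer (V : Set G))
    {a : G} (ha : IsPGroup p ↥(Subgroup.zpowers a)) (hπa : π a ≠ 1) :
    p ^ (2 * n) ≤ Z₀.relIndex V := by
  haveI : Z₀.Normal := normal_of_le_center hZc
  let f := QuotientGroup.mk' Z₀
  have hf : Function.Surjective f := QuotientGroup.mk'_surjective _
  have hkerf : f.ker = Z₀ := QuotientGroup.ker_mk' Z₀
  set V' := V.map f
  haveI hV'n : V'.Normal := Subgroup.Normal.map inferInstance f hf
  set N := (Subgroup.centralizer (V' : Set (G ⧸ Z₀))).comap f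
  have hN : ¬ Cfsg.pResidual p G ≤ N := by
    intro h
    refine hVC ?_
    rw [Cfsg.pResidual, Subgroup.closure_le]
    intro x hx
    refine centralizes_of_commutator_fixed hV hx fun v hv => ?_
    have h1 : f x ∈ Subgroup.centralizer (V' : Set (G ⧸ Z₀)) := h (Subgroup.subset_closure hx)
    have h2 : x * v * x⁻¹ * v⁻¹ ∈ Z₀ := by
      rw [← hkerf, MonoidHom.mem_ker, map_mul, map_mul, map_mul, map_inv, map_inv,
        ← h1 (f v) ⟨v, hv, rfl⟩]
      group
    exact ⟨hZV h2, hZc _ h2 x⟩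
  have hNker : N ≤ π.ker := le_ker hu hF hn π hπ hN
  have hZker : f.ker ≤ π.ker :=
    le_trans (fun x hx => by
      show f x ∈ Subgroup.centralizer (V' : Set (G ⧸ Z₀))
      rw [MonoidHom.mem_ker.mp hx]; exact one_mem _) hNker
  let π' : G ⧸ Z₀ →* Matrix.ProjectiveSpecialLinearGroup (Fin 2) F :=
    f.liftOfSurjective hf ⟨π, hZker⟩
  have hπ' : ∀ g, π' (f g) = π g := fun g => MonoidHom.liftOfRightInverse_comp_apply _ _ _ _ g
  let c : G ⧸ Z₀ →* MulAut ↥V' := MulAut.conjNormal
  have hk : c.rangeRestrict.ker ≤ π'.ker := by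
    intro y hy
    obtain ⟨x, rfl⟩ := hf y
    rw [MonoidHom.ker_rangeRestrict] at hy
    have hx : x ∈ N := fun w hw => by
      have h1 := congrArg (fun φ : MulAut ↥V' => ((φ ⟨w, hw⟩ : ↥V') : G ⧸ Z₀))
        (MonoidHom.mem_ker.mp hy)
      simp only [c, MulAut.conjNormal_apply, MulAut.one_apply] at h1
      exact (mul_inv_eq_iff_eq_mul.mp h1).symm
    rw [MonoidHom.mem_ker, hπ']
    exact hNker hx
  let π₁ : ↥c.range →* Matrix.ProjectiveSpecialLinearGroup (Fin 2) F :=
    c.rangeRestrict.liftOfSurjective c.rangeRestrict_surjective ⟨π', hk⟩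
  have hπ₁ : ∀ g, π₁ (c.rangeRestrict g) = π' g := fun g =>
    MonoidHom.liftOfRightInverse_comp_apply _ _ _ _ g
  let X := SemidirectProduct ↥V' ↥c.range c.range.subtype
  haveI : Finite X := Finite.of_equiv _ SemidirectProduct.equivProd.symm
  let iW : ↥V' →* X := SemidirectProduct.inl
  let iR : ↥c.range →* X := SemidirectProduct.inr
  let eR : ↥c.range ≃* ↥iR.range := MonoidHom.ofInjective SemidirectProduct.inr_injective
  have hconj : ∀ (r : ↥c.range) (w : ↥V'), iR r * iW w * (iR r)⁻¹ = iW ((r : MulAut ↥V') w) :=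
    fun r w => by
      rw [← map_inv]
      exact (SemidirectProduct.inl_aut r w).symm
  have hnorm : iR.range ≤ Subgroup.normalizer (iW.range : Set X) := by
    rintro _ ⟨r, rfl⟩
    rw [Subgroup.mem_normalizer_iff]
    intro y
    constructor
    · rintro ⟨w, rfl⟩
      exact ⟨_, (hconj r w).symm⟩
    · rintro ⟨w, hw⟩
      refine ⟨(r⁻¹ : ↥c.range).1 w, ?_⟩
      rw [← hconj, hw, map_inv]
      simp [mul_assoc]
  have hfaith : iR.range ⊓ Subgroup.centralizer (iW.range : Set X) = ⊥ := by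
    rw [eq_bot_iff]
    rintro _ ⟨⟨r, rfl⟩, hc⟩
    have h1 : r = 1 := Subtype.ext (MulEquiv.ext fun w => by
      refine SemidirectProduct.inl_injective (φ := c.range.subtype) ?_
      show iW ((r : MulAut ↥V') w) = iW w
      rw [← hconj, mul_inv_eq_iff_eq_mul]
      exact (hc _ ⟨w, rfl⟩).symm)
    rw [Subgroup.mem_bot, h1, map_one]
  have hsp : IsPGroup p ↥(Subgroup.zpowers (iR (c.rangeRestrict (f a)))) := by
    rw [show iR (c.rangeRestrict (f a)) = ((iR.comp c.rangeRestrict).comp f) a from rfl,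
      ← MonoidHom.map_zpowers]
    exact ha.map _
  have hπ₂ : Function.Surjective (π₁.comp eR.symm.toMonoidHom) := fun x => by
    obtain ⟨g, hg⟩ := hπ x
    exact ⟨eR (c.rangeRestrict (f g)), by simp [hπ₁, hπ', hg]⟩
  have hb := (NatSL2.psl_bounds_of_hom hF (V := iW.range)
    ((hV.map f).of_surjective iW.rangeRestrict iW.rangeRestrict_surjective) hnorm hfaith
    (π₁.comp eR.symm.toMonoidHom) hπ₂ hn (s := iR (c.rangeRestrict (f a))) ⟨_, rfl⟩ hsp (by
      show π₁ (eR.symm (eR (c.rangeRestrict (f a)))) ≠ 1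
      rw [eR.symm_apply_apply, hπ₁, hπ']
      exact hπa)).2
  have hcard : Nat.card ↥iW.range = Z₀.relIndex V := by
    rw [← Nat.card_congr (MonoidHom.ofInjective SemidirectProduct.inl_injective).toEquiv]
    show Nat.card ↥(V.map f) = _
    rw [← Subgroup.relIndex_ker, hkerf]
  exact hcard ▸ hb

/-- Baumann's lemma. -/
theorem baumann (S : Sylow p G) (hE₁ : Subgroup.centralizer (Cfsg.pCore p G : Set G) ≤ Cfsg.pCore p G)
    (hE₂ : ∃! M : Subgroup G, IsCoatom M ∧ (S : Subgroup G) ≤ M)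
    (π : G →* Matrix.ProjectiveSpecialLinearGroup (Fin 2) F) (hπ : Function.Surjective π)
    (hn : 1 ≤ n) (hF : Fintype.card F = p ^ n)
    (hZ : ¬ Cfsg.pResidual p G ≤ Subgroup.centralizer
      (((S : Subgroup G) ⊓ Subgroup.centralizer ((S : Subgroup G) : Set G) : Subgroup G) : Set G)) :
    ((S : Subgroup G) ⊓ Subgroup.centralizer
        (Cfsg.centerThompsonAOf (S : Subgroup G) : Set G)).Normal ∨
      ∀ L : Subgroup G, L = Subgroup.normalClosure (((S : Subgroup G) ⊓ Subgroup.centralizer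
        (Cfsg.centerThompsonAOf (S : Subgroup G) : Set G) : Subgroup G) : Set G) →
        Cfsg.pResidual p G ≤ L ∧ ∀ z ∈ Cfsg.centerThompsonAOf (S : Subgroup G),
          ∃ u ∈ (S : Subgroup G) ⊓ Subgroup.centralizer ((S : Subgroup G) : Set G),
            ∃ d ∈ Subgroup.centralizer (L : Set G), z = u * d := by
  have hp : p.Prime := Fact.out
  set Q := Cfsg.pCore p G
  haveI hQn : Q.Normal := PReduced.pCore_normal p G
  set Zs := (S : Subgroup G) ⊓ Subgroup.centralizer ((S : Subgroup G) : Set G)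
  set J := Cfsg.thompsonSubgroupAOf (S : Subgroup G)
  set Z1 := Cfsg.centerThompsonAOf (S : Subgroup G)
  set T := (S : Subgroup G) ⊓ Subgroup.centralizer (Z1 : Set G)
  have hQp : IsPGroup p Q := Cores.isPGroup_pCore p G
  have hQS : Q ≤ (S : Subgroup G) := Cores.pCore_le_sylow S
  have hZQ : Zs ≤ Q := fun z hz => hE₁ fun x hx => hz.2 x (hQS hx)
  have hmem : ∀ A, A ∈ PLocal.maxIn PLocal.abelian (S : Subgroup G) → A ≤ J := fun A hA => by
    show A ≤ Cfsg.thompsonSubgroupAOf (S : Subgroup G)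
    rw [PLocal.thompsonSubgroupAOf_eq]
    exact le_sSup hA
  by_cases hJ : J ≤ Q
  · haveI hZ1n : Z1.Normal := centerThompson_normal hJ
    rcases le_or_le hE₂ (Subgroup.centralizer (Z1 : Set G)) with h1 | h1
    · exact absurd (h1.trans (Subgroup.centralizer_le (center_le_centerThompson S))) hZ
    · refine Or.inl ?_
      have : T = Q ⊓ Subgroup.centralizer (Z1 : Set G) :=
        le_antisymm (le_inf h1 inf_le_right) (inf_le_inf_right _ hQS)
      rw [this]
      infer_instance
  refine Or.inr ?_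
  obtain ⟨A, hA, hAQ⟩ : ∃ A ∈ PLocal.maxIn PLocal.abelian (S : Subgroup G), ¬ A ≤ Q := by
    by_contra hall
    push Not at hall
    refine hJ ?_
    show Cfsg.thompsonSubgroupAOf (S : Subgroup G) ≤ Q
    rw [PLocal.thompsonSubgroupAOf_eq]
    exact sSup_le hall
  have hAS : A ≤ (S : Subgroup G) := hA.1
  have hAab : A ≤ Subgroup.centralizer (A : Set G) :=
    Subgroup.le_centralizer_iff_isMulCommutative.2 hA.2.1
  -- the kernel
  have hKnot : ¬ Cfsg.pResidual p G ≤ π.ker := fun h => by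
    refine (card_le_of_psl hF (IsPGroup.of_bot)).2 ?_
    haveI := PReduced.pResidual_normal p G
    have h2 : IsPGroup p (G ⧸ π.ker) := PIrred.isPGroup_quotient_of_sup S.2 (top_le_iff.1
      ((PReduced.pResidual_sup_sylow S).ge.trans (sup_le (h.trans le_sup_right) le_sup_left)))
    exact h2.of_equiv (QuotientGroup.quotientKerEquivOfSurjective π hπ)
  have hKQ : (S : Subgroup G) ⊓ π.ker ≤ Q := (le_or_le hE₂ π.ker).resolve_left hKnot
  have hSq : Q.relIndex (S : Subgroup G) ≤ p ^ n := by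
    refine le_trans ?_ (card_le_of_psl hF (S.2.map π)).1
    rw [← Subgroup.relIndex_ker, ← Subgroup.inf_relIndex_left (S : Subgroup G) π.ker]
    exact Subgroup.relIndex_le_of_le_left hKQ Subgroup.index_ne_zero_of_finite
  have hAle : ∀ {B : Subgroup G}, B ≤ (S : Subgroup G) → (B ⊓ Q).relIndex B ≤ p ^ n := fun hB => by
    rw [Subgroup.inf_relIndex_left]
    exact (Subgroup.relIndex_le_of_le_right hB Subgroup.index_ne_zero_of_finite).trans hSq
  -- the module
  set V := Subgroup.normalClosure (Zs : Set G) with hVdef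
  have hVQ : V ≤ Q := Subgroup.normalClosure_le_normal hZQ
  have hVC : V ≤ Subgroup.centralizer (Q : Set G) :=
    Subgroup.normalClosure_le_normal fun z hz x hx => hz.2 x (hQS hx)
  have hVab : V ≤ Subgroup.centralizer (V : Set G) := hVC.trans (Subgroup.centralizer_le hVQ)
  have hVp : IsPGroup p V := hQp.to_le hVQ
  have hnV : ¬ Cfsg.pResidual p G ≤ Subgroup.centralizer (V : Set G) := fun h1 =>
    hZ (h1.trans (Subgroup.centralizer_le Subgroup.subset_normalClosure))
  have hSV : (S : Subgroup G) ⊓ Subgroup.centralizer (V : Set G) ≤ Q :=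
    (le_or_le hE₂ (Subgroup.centralizer (V : Set G))).resolve_left hnV
  set CA := V ⊓ Subgroup.centralizer (A : Set G) with hCA
  have hlow : p ^ n ≤ CA.relIndex V := by
    by_cases hn2 : 2 ≤ n
    · obtain ⟨a, haA, haQ⟩ := SetLike.not_le_iff_exists.mp hAQ
      refine le_trans (index_ge_of_psl hF hn2 hVp π hπ (le_ker hE₂ hF hn2 π hπ hnV)
        (S.2.to_le (Subgroup.zpowers_le.mpr (hAS haA))) (a := a)
        fun h1 => haQ (hKQ ⟨hAS haA, h1⟩)) ?_
      exact Subgroup.relIndex_le_of_le_left (inf_le_inf_left _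
        (Subgroup.centralizer_le (Set.singleton_subset_iff.mpr haA))) Subgroup.index_ne_zero_of_finite
    · obtain rfl : n = 1 := by omega
      rw [pow_one]
      have h1 : CA.relIndex V ≠ 1 := fun h2 => hAQ fun a ha => hSV ⟨hAS ha, fun w hw =>
        (((Subgroup.relIndex_eq_one.mp h2) hw).2 a ha).symm⟩
      obtain ⟨k, hk⟩ := IsPGroup.iff_card.mp hVp
      obtain ⟨l, -, hl⟩ := (Nat.dvd_prime_pow hp).mp (hk ▸ Subgroup.relIndex_dvd_card CA V)
      rw [hl] at h1 ⊢
      exact Nat.le_self_pow (fun h3 => h1 (by rw [h3, pow_zero])) p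
  set B := A ⊓ Q with hB
  have hBVc : V ≤ Subgroup.centralizer (B : Set G) := hVC.trans (Subgroup.centralizer_le inf_le_right)
  obtain ⟨hVle, hVeq⟩ := relIndex_le_of_maxAbelian hA (B := B) inf_le_left (hVQ.trans hQS) hVab hBVc
  have hBA : B.relIndex A = p ^ n := le_antisymm (hAle hAS) (hlow.trans hVle)
  have hVA : CA.relIndex V = p ^ n := le_antisymm (hVle.trans hBA.le) hlow
  have hA' := hVeq (hBA.trans hVA.symm).le
  have hA'Q : B ⊔ V ≤ Q := sup_le inf_le_right hVQ
  -- `S = AQ`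
  have hSAQ : A ⊔ Q = (S : Subgroup G) := by
    refine Subgroup.eq_of_le_of_card_ge (sup_le hAS hQS) ?_
    rw [← card_mul_relIndex' (le_sup_right : Q ≤ A ⊔ Q), ← card_mul_relIndex' hQS,
      Subgroup.relIndex_sup_right, ← Subgroup.inf_relIndex_left A Q, ← hB, hBA]
    exact Nat.mul_le_mul_left _ hSq
  have hCAZ : CA ≤ Zs := fun v hv => ⟨hQS (hVQ hv.1), fun s hs => by
    have : (S : Subgroup G) ≤ Subgroup.centralizer ({v} : Set G) := hSAQ ▸ sup_le
      (fun a ha => Subgroup.mem_centralizer_singleton_iff.mpr (hv.2 a ha))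
      (fun x hx => Subgroup.mem_centralizer_singleton_iff.mpr (hVC hv.1 x hx))
    exact Subgroup.mem_centralizer_singleton_iff.mp (this hs)⟩
  -- `W = Z(J(Q))`
  set JQ := Cfsg.thompsonSubgroupAOf Q
  haveI : JQ.Normal := by
    rw [← Subgroup.normalizer_eq_top_iff, eq_top_iff]
    refine le_trans ?_ (PLocal.normalizer_le_normalizer_thompsonSubgroupAOf Q)
    rw [Subgroup.normalizer_eq_top]
  have hJQmem : ∀ D, D ∈ PLocal.maxIn PLocal.abelian Q → D ≤ JQ := fun D hD => by
    show D ≤ Cfsg.thompsonSubgroupAOf Q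
    rw [PLocal.thompsonSubgroupAOf_eq]
    exact le_sSup hD
  have hA'q := PLocal.maxIn_of_mem_le hA' hA'Q hQS
  have hJQJ : JQ ≤ J := by
    show Cfsg.thompsonSubgroupAOf Q ≤ _
    rw [PLocal.thompsonSubgroupAOf_eq]
    exact sSup_le fun D hD => hmem D (PLocal.maxIn_subset hA' hA'Q hQS hD)
  set W := JQ ⊓ Subgroup.centralizer (JQ : Set G) with hW
  have hWQ : W ≤ Q := inf_le_left.trans (PLocal.thompsonSubgroupAOf_le Q)
  have hWab : W ≤ Subgroup.centralizer (W : Set G) :=
    inf_le_right.trans (Subgroup.centralizer_le inf_le_left)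
  have hBW : W ≤ Subgroup.centralizer (B : Set G) :=
    inf_le_right.trans (Subgroup.centralizer_le
      ((le_sup_left.trans (hJQmem _ hA'q)) : B ≤ JQ))
  have hVW : V ≤ W := le_inf (le_sup_right.trans (hJQmem _ hA'q))
    (hVC.trans (Subgroup.centralizer_le (PLocal.thompsonSubgroupAOf_le Q)))
  set CW := W ⊓ Subgroup.centralizer (A : Set G) with hCW
  have hWA : CW.relIndex W ≤ p ^ n :=
    ((relIndex_le_of_maxAbelian hA (B := B) inf_le_left (hWQ.trans hQS) hWab hBW).1).trans hBA.le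
  have hZ1W : Z1 ≤ W := by
    intro z hz
    have hzS : z ∈ (S : Subgroup G) := PLocal.thompsonSubgroupAOf_le _ hz.1
    have hzA' : z ∈ B ⊔ V :=
      PLocal.mem_of_centralizes_abelian hA' hzS fun a ha => hz.2 a (hmem _ hA' ha)
    exact ⟨hJQmem _ hA'q hzA', fun x hx => hz.2 x (hJQJ hx)⟩
  have hZ1A : Z1 ≤ CW := le_inf hZ1W (inf_le_right.trans (Subgroup.centralizer_le (hmem A hA)))
  have hZsV : Zs ≤ V := Subgroup.subset_normalClosure
  -- a conjugate of `A`
  obtain ⟨M, hM, -⟩ := id hE₂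
  obtain ⟨g, hg⟩ : ∃ g : G, ¬ A.map (MulAut.conj g).toMonoidHom ≤ M := by
    by_contra hall
    push Not at hall
    have hNM : Subgroup.normalClosure (A : Set G) ≤ M := by
      refine (Subgroup.closure_le _).mpr fun x hx => ?_
      obtain ⟨a, ha, hax⟩ := Group.mem_conjugatesOfSet_iff.mp hx
      obtain ⟨c, rfl⟩ := isConj_iff.mp hax
      exact hall c ⟨a, ha, rfl⟩
    rcases le_or_le hE₂ (Subgroup.normalClosure (A : Set G)) with h1 | h1
    · exact hM.1.1 (top_le_iff.1 ((PReduced.pResidual_sup_sylow S).ge.trans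
        (sup_le (h1.trans hNM) hM.2)))
    · exact hAQ ((le_inf hAS Subgroup.subset_normalClosure).trans h1)
  set Ag := A.map (MulAut.conj g).toMonoidHom with hAg
  set H := A ⊔ Ag
  have hHQ : H ⊔ Q = ⊤ := by
    refine PIrred.eq_top_of_not_le hE₂ hM ?_ fun h1 =>
      hg ((le_sup_right.trans le_sup_left).trans h1)
    exact hSAQ ▸ sup_le_sup_right le_sup_left Q
  set CWg := W ⊓ Subgroup.centralizer (Ag : Set G) with hCWg
  haveI : W.Normal := inferInstanceAs (JQ ⊓ Subgroup.centralizer (JQ : Set G)).Normal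
  have hconjC : ∀ X : Subgroup G, X.Normal →
      (X ⊓ Subgroup.centralizer (Ag : Set G)).relIndex X =
        (X ⊓ Subgroup.centralizer (A : Set G)).relIndex X := by
    intro X hX
    haveI := hX
    have hXm : X.map (MulAut.conj g).toMonoidHom = X := Subgroup.Normal.map_conj_eq X g
    have hm : (X ⊓ Subgroup.centralizer (A : Set G)).map (MulAut.conj g).toMonoidHom =
        X ⊓ Subgroup.centralizer (Ag : Set G) := by
      rw [Subgroup.map_inf _ _ _ (MulAut.conj g).injective, hXm]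
      congr 1
      ext y
      constructor
      · rintro ⟨x, hx, rfl⟩ _ ⟨a, ha, rfl⟩
        show (MulAut.conj g) a * (MulAut.conj g) x = (MulAut.conj g) x * (MulAut.conj g) a
        rw [← map_mul, ← map_mul, hx a ha]
      · intro hy
        refine ⟨(MulAut.conj g).symm y, fun a ha => (MulAut.conj g).injective ?_,
          (MulAut.conj g).apply_symm_apply y⟩
        rw [map_mul, map_mul, MulEquiv.apply_symm_apply]
        exact hy _ ⟨a, ha, rfl⟩
    conv_lhs => rw [← hm]; arg 2; rw [← hXm]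
    exact Subgroup.relIndex_map_map_of_injective _ _ (MulAut.conj g).injective
  set C0 := CW ⊓ CWg
  set Z0 := V ⊓ C0
  have hC0H : H ≤ Subgroup.centralizer (C0 : Set G) := sup_le
    (Subgroup.le_centralizer_iff.mp (inf_le_left.trans inf_le_right))
    (Subgroup.le_centralizer_iff.mp (inf_le_right.trans inf_le_right))
  have hZ0c : ∀ z ∈ Z0, ∀ x : G, x * z = z * x := fun z hz x => by
    have h1 : (⊤ : Subgroup G) ≤ Subgroup.centralizer (Z0 : Set G) := hHQ ▸ sup_le
      (hC0H.trans (Subgroup.centralizer_le inf_le_right))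
      (Subgroup.le_centralizer_iff.mp (inf_le_left.trans hVC))
    exact (h1 (Subgroup.mem_top x) z hz).symm
  have hZ0Zs : Z0 ≤ Zs := (le_inf inf_le_left (inf_le_right.trans (inf_le_left.trans inf_le_right)
    ) : Z0 ≤ CA).trans hCAZ
  -- `Z(S)` has index at least `p ^ n` over `Z0`
  have hZsCA : Zs ≤ CA := le_inf hZsV fun z hz a ha => hz.2 a (hAS ha)
  have hZ0idx : p ^ n ≤ Z0.relIndex Zs := by
    have hCAeq : CA = Zs := le_antisymm hCAZ hZsCA
    by_cases hn2 : 2 ≤ n
    · obtain ⟨a, haA, haQ⟩ := SetLike.not_le_iff_exists.mp hAQ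
      have h2 := relIndex_ge_sq hE₂ hF hn2 π hπ hVp (Z₀ := Z0) inf_le_left hZ0c hnV
        (S.2.to_le (Subgroup.zpowers_le.mpr (hAS haA))) (a := a)
        fun h1 => haQ (hKQ ⟨hAS haA, h1⟩)
      rw [← Subgroup.relIndex_mul_relIndex Z0 Zs V hZ0Zs hZsV, ← hCAeq, hVA, two_mul, pow_add] at h2
      rw [← hCAeq]
      exact Nat.le_of_mul_le_mul_right h2 (pow_pos hp.pos n)
    · obtain rfl : n = 1 := by omega
      rw [pow_one]
      have h1 : Z0.relIndex Zs ≠ 1 := fun h2 => hnV fun x _ => fun v hv => by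
        have hle : Zs ≤ Z0 := Subgroup.relIndex_eq_one.mp h2
        have hVc : V ≤ Subgroup.center G := Subgroup.normalClosure_le_normal fun z hz =>
          Subgroup.mem_center_iff.mpr (hZ0c z (hle hz))
        exact (Subgroup.mem_center_iff.mp (hVc hv) x).symm
      obtain ⟨k, hk⟩ := IsPGroup.iff_card.mp (hQp.to_le hZQ)
      obtain ⟨l, -, hl⟩ := (Nat.dvd_prime_pow hp).mp (hk ▸ Subgroup.relIndex_dvd_card Z0 Zs)
      rw [hl] at h1 ⊢
      exact Nat.le_self_pow (fun h3 => h1 (by rw [h3, pow_zero])) p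
  -- `CW = Zs C0`
  have hsplit : CW = Zs ⊔ C0 := by
    refine (Subgroup.eq_of_le_of_card_ge (sup_le (le_inf (hZsV.trans hVW) (hZsCA.trans inf_le_right))
      inf_le_left) ?_).symm
    rw [← card_mul_relIndex' (inf_le_left : C0 ≤ CW),
      ← card_mul_relIndex' (le_sup_right : C0 ≤ Zs ⊔ C0)]
    refine Nat.mul_le_mul_left _ ?_
    have h1 : C0.relIndex CW ≤ p ^ n := by
      rw [Subgroup.inf_relIndex_left]
      refine (Subgroup.relIndex_le_of_le_right (inf_le_left : CW ≤ W)
        Subgroup.index_ne_zero_of_finite).trans ?_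
      exact (hconjC W inferInstance).trans_le hWA
    refine h1.trans (hZ0idx.trans ?_)
    refine le_trans (le_of_eq ?_) (Subgroup.relIndex_le_of_le_right
      (le_sup_left : Zs ≤ Zs ⊔ C0) Subgroup.index_ne_zero_of_finite)
    rw [← Subgroup.inf_relIndex_left Zs C0]
    congr 1
    exact le_antisymm (le_inf hZ0Zs inf_le_right) (le_inf (inf_le_left.trans hZsV) inf_le_right)
  -- the closure
  intro L hL
  have hTn : (S : Subgroup G) ≤ Subgroup.normalizer (T : Set G) := by
    refine (le_inf Subgroup.le_normalizer ?_).trans Subgroup.inf_normalizer_le_normalizer_inf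
    refine le_trans ?_ (normalizer_le_normalizer_centralizer' _)
    show (S : Subgroup G) ≤ Subgroup.normalizer ((J ⊓ Subgroup.centralizer (J : Set G) :
      Subgroup G) : Set G)
    have hSJ : (S : Subgroup G) ≤ Subgroup.normalizer (J : Set G) :=
      Subgroup.le_normalizer.trans (PLocal.normalizer_le_normalizer_thompsonSubgroupAOf _)
    exact (le_inf hSJ (hSJ.trans (normalizer_le_normalizer_centralizer' _))).trans
      Subgroup.inf_normalizer_le_normalizer_inf
  have hAT : A ≤ T := le_inf hAS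
    (Subgroup.le_centralizer_iff.mp (inf_le_right.trans (Subgroup.centralizer_le (hmem A hA))))
  subst hL
  set L := Subgroup.normalClosure (T : Set G)
  refine ⟨(le_or_le hE₂ L).resolve_right fun h1 =>
    hAQ ((le_inf hAS (hAT.trans Subgroup.subset_normalClosure)).trans h1), fun z hz => ?_⟩
  obtain ⟨u, hu, d, hd, hud⟩ : ∃ u ∈ Zs, ∃ d ∈ C0, z = u * d := by
    have h1 : z ∈ Zs ⊔ C0 := hsplit ▸ hZ1A hz
    have h2 : z ∈ ((Zs ⊔ C0 : Subgroup G) : Set G) := h1
    rw [Subgroup.coe_mul_of_left_le_normalizer_right _ _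
      ((((hZsV.trans hVW).trans hWab).trans (Subgroup.centralizer_le
        (inf_le_left.trans inf_le_left : C0 ≤ W))).trans (Subgroup.centralizer_le_normalizer _))] at h2
    obtain ⟨u, hu, d, hd, rfl⟩ := Set.mem_mul.1 h2
    exact ⟨u, hu, d, hd, rfl⟩
  refine ⟨u, hu, d, fun x hx => ?_, hud⟩
  have hdZ1 : d ∈ Z1 := by
    rw [show d = u⁻¹ * z by rw [hud, inv_mul_cancel_left]]
    exact mul_mem (inv_mem (center_le_centerThompson S hu)) hz
  -- `d` is centralised by all conjugates of `T`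
  have hall : ∀ c : G, ∀ t ∈ T, c * t * c⁻¹ ∈ Subgroup.centralizer ({d} : Set G) := by
    intro c t ht
    have hc : c ∈ ((H ⊔ Q : Subgroup G) : Set G) := by rw [hHQ]; trivial
    rw [Subgroup.mul_normal] at hc
    obtain ⟨h, hh, q, hq, rfl⟩ := Set.mem_mul.1 hc
    have hqt : q * t * q⁻¹ ∈ T := (Subgroup.mem_normalizer_iff.mp (hTn (hQS hq)) t).mp ht
    have hhd : Commute h d := ((hC0H hh) d hd).symm
    have htd : Commute (q * t * q⁻¹) d := (hqt.2 d hdZ1).symm
    rw [Subgroup.mem_centralizer_singleton_iff]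
    show h * q * t * (h * q)⁻¹ * d = d * (h * q * t * (h * q)⁻¹)
    rw [show h * q * t * (h * q)⁻¹ = h * (q * t * q⁻¹) * h⁻¹ by group]
    exact ((hhd.mul_left htd).mul_left hhd.inv_left).eq
  have hLd : L ≤ Subgroup.centralizer ({d} : Set G) := by
    refine (Subgroup.closure_le _).mpr fun y hy => ?_
    obtain ⟨a, ha, hay⟩ := Group.mem_conjugatesOfSet_iff.mp hy
    obtain ⟨c, rfl⟩ := isConj_iff.mp hay
    exact hall c a ha
  exact Subgroup.mem_centralizer_singleton_iff.mp (hLd hx)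

end Cfsg.Agent.PushUp
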