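/-
Pushing up over `PSL₂(q)`: recognition of a natural `SL₂(q)`-section.

Main definitions and results (namespace `Cfsg.Agent.PushUp`):
* `NatSec`         : a section with a surjection onto `SL₂(F)` and equivariant coordinates
* `Natural`        : the coordinates are adapted to two generating Sylow subgroups
* `exists_natural` : a section fixed by `S` only in a subgroup of index at most `q` is natural
-/
import Cfsg.Agent.Lib.PushUp.Local
import Cfsg.Agent.Lib.OffenderSL2.Spread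
import Mathlib.FieldTheory.Finite.GaloisField

set_option autoImplicit false

namespace Cfsg.Agent.PushUp

open Subgroup
open Quadratic (upperE lowerE upperE_val lowerE_val)
open scoped commutatorElement

variable {G : Type*} [Group G] {F : Type*} [Field F]

local notation "SL₂" F:max => Matrix.SpecialLinearGroup (Fin 2) F

/-- A section `A / B` which is the natural module. -/
structure NatSec (F : Type*) [Field F] (A B : Subgroup G) (ρ : G →* SL₂ F) (ψ : G → Fin 2 → F) :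
    Prop where
  le : B ≤ A
  normal : A.Normal
  surj : Function.Surjective ρ
  add : ∀ a ∈ A, ∀ b ∈ A, ψ (a * b) = ψ a + ψ b
  ker : ∀ a ∈ A, (ψ a = 0 ↔ a ∈ B)
  onto : ∀ v, ∃ a ∈ A, ψ a = v
  act : ∀ g, ∀ a ∈ A, ψ (g * a * g⁻¹) = (ρ g).1.mulVec (ψ a)

/-- A natural section with adapted coordinates. -/
structure Natural (F : Type*) [Field F] (S Q M : Subgroup G) (w : G) (H U W : Subgroup G)
    (ρ : G →* SL₂ F) (ψ : G → Fin 2 → F) : Prop extends NatSec F U W ρ ψ where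
  line : ∀ a ∈ U, (a ∈ H ↔ ψ a 1 = 0)
  upper : ∀ s ∈ S, ∃ t, ρ s = upperE t
  upper_onto : ∀ t, ∃ s ∈ S, ρ s = upperE t
  lower : ∀ s ∈ cj w S, ∃ t, ρ s = lowerE t
  lower_onto : ∀ t, ∃ s ∈ cj w S, ρ s = lowerE t
  kerS : ∀ s ∈ S, (ρ s = 1 ↔ s ∈ Q)
  stab : ∀ g ∈ M, ∀ a ∈ H, g * a * g⁻¹ ∈ H
  ker_le : ρ.ker ≤ M

theorem lowerE_one_ne_upperE (t : F) : (lowerE (1 : F)) ≠ upperE t := fun h => by
  have := congrFun (congrFun (congrArg Subtype.val h) 1) 0
  simp [upperE, lowerE] at this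

/-- A vector fixed by a matrix fixing `(1, 0)`. -/
theorem eq_upperE {m : SL₂ F} (h : m.1.mulVec ![1, 0] = ![1, 0]) : m = upperE (m.1 0 1) := by
  have h0 := congrFun h 0
  have h1 := congrFun h 1
  simp [Matrix.mulVec, dotProduct, Fin.sum_univ_two] at h0 h1
  have hd : m.1.det = 1 := m.2
  rw [Matrix.det_fin_two, h0, h1, one_mul, mul_zero, sub_zero] at hd
  refine Subtype.ext ?_
  rw [upperE_val]
  ext i j
  fin_cases i <;> fin_cases j <;> simp [h0, h1, hd]

/-- A vector fixed by a matrix fixing `(0, 1)`. -/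
theorem eq_lowerE {m : SL₂ F} (h : m.1.mulVec ![0, 1] = ![0, 1]) : m = lowerE (m.1 1 0) := by
  have h0 := congrFun h 0
  have h1 := congrFun h 1
  simp [Matrix.mulVec, dotProduct, Fin.sum_univ_two] at h0 h1
  have hd : m.1.det = 1 := m.2
  rw [Matrix.det_fin_two, h0, h1, mul_one, zero_mul, sub_zero] at hd
  refine Subtype.ext ?_
  rw [lowerE_val]
  ext i j
  fin_cases i <;> fin_cases j <;> simp [h0, h1, hd]

namespace NatSec

variable {A B : Subgroup G} {ρ : G →* SL₂ F} {ψ : G → Fin 2 → F}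

theorem map_one (h : NatSec F A B ρ ψ) : ψ 1 = 0 := (h.ker 1 (one_mem _)).mpr (one_mem _)

theorem map_inv (h : NatSec F A B ρ ψ) {a : G} (ha : a ∈ A) : ψ a⁻¹ = -ψ a := by
  refine eq_neg_of_add_eq_zero_left ?_
  rw [← h.add _ (inv_mem ha) _ ha, inv_mul_cancel, h.map_one]

theorem eq_iff (h : NatSec F A B ρ ψ) {a b : G} (ha : a ∈ A) (hb : b ∈ A) :
    ψ a = ψ b ↔ b⁻¹ * a ∈ B := by
  rw [← h.ker _ (mul_mem (inv_mem hb) ha), h.add _ (inv_mem hb) _ ha, h.map_inv hb, neg_add_eq_zero,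
    eq_comm]

theorem comm_eq (h : NatSec F A B ρ ψ) (g : G) {a : G} (ha : a ∈ A) :
    ψ ⁅g, a⁆ = (ρ g).1.mulVec (ψ a) - ψ a := by
  rw [commutatorElement_def, h.add _ (h.normal.conj_mem a ha g) _ (inv_mem ha), h.act g a ha,
    h.map_inv ha, sub_eq_add_neg]

theorem mem_ker_iff (h : NatSec F A B ρ ψ) {g : G} : g ∈ ρ.ker ↔ ∀ a ∈ A, ⁅g, a⁆ ∈ B := by
  have hA : ∀ a ∈ A, ⁅g, a⁆ ∈ A := fun a ha => mul_mem (h.normal.conj_mem a ha g) (inv_mem ha)
  constructor
  · intro hg a ha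
    rw [← h.ker _ (hA a ha), h.comm_eq g ha, MonoidHom.mem_ker.mp hg]
    simp
  · intro hg
    refine Subtype.ext (Matrix.ext_of_mulVec_single fun i => ?_)
    obtain ⟨a, ha, hv⟩ := h.onto (Pi.single i 1)
    have h1 := (h.ker _ (hA a ha)).mpr (hg a ha)
    rw [h.comm_eq g ha, sub_eq_zero, hv] at h1
    rw [h1]
    exact (Matrix.one_mulVec _).symm

theorem pow (h : NatSec F A B ρ ψ) {a : G} (ha : a ∈ A) (k : ℕ) : ψ (a ^ k) = k • ψ a := by
  induction k with
  | zero => rw [pow_zero, zero_nsmul, h.map_one]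
  | succ k ih => rw [pow_succ, h.add _ (pow_mem ha k) _ ha, ih, succ_nsmul]

end NatSec

/-- The hypotheses in the module case. -/
structure ModuleData (q : ℕ) (V K S Q M : Subgroup G) : Prop where
  normal : V.Normal
  comm : ∀ x ∈ V, ∀ y ∈ V, x * y = y * x
  le : K ≤ V
  ne_bot : V ≠ ⊥
  Q_le : Q ≤ S
  relS : Q.relIndex S = q
  centQ : ∀ x ∈ V, ∀ a ∈ Q, ⁅x, a⁆ = 1
  into : ∀ x ∈ V, ∀ s ∈ S, ⁅x, s⁆ ∈ K
  fixed : ∀ x ∈ K, ∀ s ∈ S, ⁅x, s⁆ = 1
  fix : ∀ u ∈ S, u ∉ Q → ∀ x ∈ V, ⁅x, u⁆ = 1 → x ∈ K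
  idx : K.relIndex V ≤ q
  cent : ∀ x ∈ V, (∀ g : G, ⁅x, g⁆ = 1) → x = 1
  gen : ∀ g : G, g ∉ M → S ⊔ cj g S = ⊤
  S_le_M : S ≤ M

namespace ModuleData

variable {q : ℕ} {V K S Q M : Subgroup G}

theorem eq_one (h : ModuleData q V K S Q M) {x : G} (hx : x ∈ K) {g : G} (hg : g ∉ M)
    (hxg : x ∈ cj g K) : x = 1 := by
  refine h.cent x (h.le hx) fun y => commutatorElement_eq_one_iff_mul_comm.mpr ?_
  have h1 : S ⊔ cj g S ≤ centralizer ({x} : Set G) := by
    refine sup_le (fun s hs => mem_centralizer_singleton_iff.mpr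
      (commutatorElement_eq_one_iff_mul_comm.mp (h.fixed x hx s hs)).symm) ?_
    rintro _ ⟨s, hs, rfl⟩
    obtain ⟨x₀, hx₀, rfl⟩ := hxg
    refine mem_centralizer_singleton_iff.mpr ?_
    rw [← map_mul, ← map_mul, commutatorElement_eq_one_iff_mul_comm.mp (h.fixed x₀ hx₀ s hs)]
  rw [h.gen g hg] at h1
  exact (mem_centralizer_singleton_iff.mp (h1 (mem_top y))).symm

theorem disj (h : ModuleData q V K S Q M) {g k x : G} (hx : x ≠ 1) (h1 : x ∈ cj g K)
    (h2 : x ∈ cj k K) : g⁻¹ * k ∈ M := by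
  by_contra hnot
  refine hx ?_
  have h3 := h.eq_one (x := g⁻¹ * x * g) (mem_cj.mp h1) hnot (by
    rw [← cj_cj]
    have := conj_mem_cj (g := g⁻¹) h2
    rwa [inv_inv] at this)
  calc x = g * (g⁻¹ * x * g) * g⁻¹ := by group
    _ = 1 := by rw [h3]; group

theorem exists_not_mem (h : ModuleData q V K S Q M) {w : G} (hw : w ∉ M) : ∃ v ∈ V, v ∉ K := by
  by_contra hno
  push Not at hno
  refine h.ne_bot (eq_bot_iff.mpr fun x hx => h.eq_one (hno x hx) hw ?_)
  rw [mem_cj]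
  have := h.normal.conj_mem x hx w⁻¹
  rw [inv_inv] at this
  exact hno _ this

theorem into' (h : ModuleData q V K S Q M) {s v : G} (hs : s ∈ S) (hv : v ∈ V) : ⁅s, v⁆ ∈ K := by
  rw [← commutatorElement_inv]; exact inv_mem (h.into v hv s hs)

theorem free (h : ModuleData q V K S Q M) {s v : G} (hs : s ∈ S) (hv : v ∈ V) (hvK : v ∉ K)
    (h1 : ⁅s, v⁆ = 1) : s ∈ Q :=
  by_contra fun hsQ => hvK (h.fix s hs hsQ v hv (by rw [← commutatorElement_inv, h1, inv_one]))

theorem cj_le (h : ModuleData q V K S Q M) (g : G) : cj g K ≤ V := by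
  rintro _ ⟨x, hx, rfl⟩
  exact h.normal.conj_mem x (h.le hx) g

theorem inj (h : ModuleData q V K S Q M) {v : G} (hv : v ∈ V) (hvK : v ∉ K) :
    Function.Injective (fun c : ↥S ⧸ Q.subgroupOf S => ⁅(c.out : G), v⁆) := fun c c' hcc => by
  rw [← QuotientGroup.out_eq' c, ← QuotientGroup.out_eq' c', QuotientGroup.eq, mem_subgroupOf]
  simp only [Subgroup.coe_mul, Subgroup.coe_inv]
  refine h.free (mul_mem (inv_mem c.out.2) c'.out.2) hv hvK
    (commutatorElement_eq_one_iff_mul_comm.mpr ?_)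
  simp only [commutatorElement_def, mul_left_inj] at hcc
  calc (c.out : G)⁻¹ * c'.out * v
      = (c.out : G)⁻¹ * (c'.out * v * (c'.out : G)⁻¹) * c'.out := by group
    _ = v * ((c.out : G)⁻¹ * c'.out) := by rw [← hcc]; group

theorem mul_inj (h : ModuleData q V K S Q M) {w : G} (hw : w ∉ M) :
    Function.Injective (fun x : ↥K × ↥(cj w K) => (x.1 : G) * x.2) := fun x y hxy => by
  have h2 : (y.1 : G)⁻¹ * x.1 = y.2 * (x.2 : G)⁻¹ := by
    simp only at hxy
    rw [inv_mul_eq_iff_eq_mul, ← mul_assoc, ← hxy, mul_inv_cancel_right]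
  have h3 := h.eq_one (mul_mem (inv_mem y.1.2) x.1.2) hw (h2 ▸ mul_mem y.2.2 (inv_mem x.2.2))
  exact Prod.ext (Subtype.ext (inv_mul_eq_one.mp h3).symm)
    (Subtype.ext (mul_inv_eq_one.mp (h2.symm.trans h3)).symm)

theorem card_cj (g : G) : Nat.card ↥(cj g K) = Nat.card ↥K :=
  (Nat.card_congr (K.equivMapOfInjective _ (MulAut.conj g).injective).toEquiv).symm

variable [Finite G]

theorem card_K (h : ModuleData q V K S Q M) {w : G} (hw : w ∉ M) : Nat.card ↥K = q := by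
  obtain ⟨v₀, hv₀, hv₀K⟩ := h.exists_not_mem hw
  refine le_antisymm ?_ (h.relS ▸ Nat.card_le_card_of_injective
    (fun c : ↥S ⧸ Q.subgroupOf S => (⟨⁅(c.out : G), v₀⁆, h.into' c.out.2 hv₀⟩ : ↥K))
    fun c c' hcc => h.inj hv₀ hv₀K (congrArg Subtype.val hcc))
  have h1 : Nat.card ↥K * Nat.card ↥(cj w K) ≤ Nat.card ↥V := by
    rw [← Nat.card_prod]
    exact Nat.card_le_card_of_injective
      (fun x : ↥K × ↥(cj w K) => (⟨x.1 * x.2, mul_mem (h.le x.1.2) (h.cj_le w x.2.2)⟩ : ↥V))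
      fun x y hxy => h.mul_inj hw (congrArg Subtype.val hxy)
  rw [card_cj w] at h1
  refine Nat.le_of_mul_le_mul_left ?_ (Nat.card_pos (α := ↥K))
  refine h1.trans ?_
  rw [← relIndex_bot_left V, ← relIndex_mul_relIndex _ _ _ bot_le h.le, relIndex_bot_left]
  exact Nat.mul_le_mul_left _ h.idx

theorem onto (h : ModuleData q V K S Q M) {w : G} (hw : w ∉ M) {v : G} (hv : v ∈ V) (hvK : v ∉ K)
    {k : G} (hk : k ∈ K) : ∃ s ∈ S, ⁅s, v⁆ = k := by
  obtain ⟨c, hc⟩ := ((Nat.bijective_iff_injective_and_card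
    (fun c : ↥S ⧸ Q.subgroupOf S => (⟨⁅(c.out : G), v⁆, h.into' c.out.2 hv⟩ : ↥K))).mpr
    ⟨fun c c' hcc => h.inj hv hvK (congrArg Subtype.val hcc), h.relS.trans (h.card_K hw).symm⟩).2
    ⟨k, hk⟩
  exact ⟨c.out, c.out.2, congrArg Subtype.val hc⟩

theorem sum (h : ModuleData q V K S Q M) {w : G} (hw : w ∉ M) {v : G} (hv : v ∈ V) :
    ∃ k ∈ K, ∃ l ∈ cj w K, v = k * l := by
  let f : ↥K × ↥(cj w K) → ↥V := fun x => ⟨x.1 * x.2, mul_mem (h.le x.1.2) (h.cj_le w x.2.2)⟩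
  have hfi : Function.Injective f := fun x y hxy => h.mul_inj hw (congrArg Subtype.val hxy)
  have hcard : Nat.card (↥K × ↥(cj w K)) = Nat.card ↥V := by
    refine le_antisymm (Nat.card_le_card_of_injective f hfi) ?_
    rw [Nat.card_prod, card_cj, ← relIndex_bot_left V, ← relIndex_mul_relIndex _ _ _ bot_le h.le,
      relIndex_bot_left]
    exact Nat.mul_le_mul_left _ (h.idx.trans (h.card_K hw).ge)
  obtain ⟨⟨k, l⟩, hkl⟩ := ((Nat.bijective_iff_injective_and_card f).mpr ⟨hfi, hcard⟩).2 ⟨v, hv⟩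
  exact ⟨k, k.2, l, l.2, (congrArg Subtype.val hkl).symm⟩

theorem stab (h : ModuleData q V K S Q M) {w : G} (hw : w ∉ M) {g a : G} (hg : g ∈ M) (ha : a ∈ K) :
    g * a * g⁻¹ ∈ K := by
  by_contra hx
  obtain ⟨k, hk, l, hl, he⟩ := h.sum hw (h.normal.conj_mem a (h.le ha) g)
  have hlK : l ∉ K := fun hlK => hx (he ▸ mul_mem hk hlK)
  obtain ⟨s, hs, hsk⟩ := h.onto hw (h.cj_le w hl) hlK hk
  have hx1 : g * a * g⁻¹ = s * l * s⁻¹ := by rw [he, ← hsk, commutatorElement_def]; group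
  have h1 := h.disj (k := s * w) (fun h1 => hx (by rw [h1]; exact one_mem K)) (conj_mem_cj ha)
    (by rw [← cj_cj, hx1]; exact conj_mem_cj hl)
  refine hw ?_
  have := mul_mem (inv_mem (h.S_le_M hs)) (mul_mem hg h1)
  rwa [mul_inv_cancel_left, inv_mul_cancel_left] at this

theorem conj_eq (h : ModuleData q V K S Q M) {s a : G} (hs : s ∈ S) (ha : a ∈ K) :
    s * a * s⁻¹ = a := by
  rw [← commutatorElement_eq_one_iff_mul_comm.mp (h.fixed a ha s hs), mul_inv_cancel_right]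

theorem back (h : ModuleData q V K S Q M) {w : G} (hw : w ∉ M) {k : G} (hk : k ∈ K) (hk1 : k ≠ 1) :
    w⁻¹ * k * w ∈ V ∧ w⁻¹ * k * w ∉ K := by
  refine ⟨?_, fun h1 => hk1 (h.eq_one hk hw (mem_cj.mpr h1))⟩
  have := h.normal.conj_mem k (h.le hk) w⁻¹
  rwa [inv_inv] at this

/-- The matching element on the other side. -/
theorem transfer (h : ModuleData q V K S Q M) {w : G} (hw : w ∉ M) {s : G} (hs : s ∈ S)
    (hsQ : s ∉ Q) : ∃ t ∈ cj w S, ∀ k ∈ K, ∃ l ∈ cj w K, s * l * s⁻¹ = t * k * t⁻¹ := by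
  obtain ⟨v₀, hv₀, hv₀K⟩ := h.exists_not_mem hw
  obtain ⟨k₀, hk₀, l₀, hl₀, he₀⟩ := h.sum hw hv₀
  have hl₀V := h.cj_le w hl₀
  have hl₀K : l₀ ∉ K := fun h1 => hv₀K (he₀ ▸ mul_mem hk₀ h1)
  obtain ⟨k, hk, l, hl, he⟩ := h.sum hw (h.normal.conj_mem _ hl₀V s)
  have hk1 : k ≠ 1 := fun h1 => by
    rw [h1, one_mul] at he
    refine hsQ (h.free hs hl₀V hl₀K (h.eq_one (h.into' hs hl₀V) hw ?_))
    rw [commutatorElement_def, he]
    exact mul_mem hl (inv_mem hl₀)
  obtain ⟨h1, h2⟩ := h.back hw hk hk1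
  obtain ⟨r, hr, hrk⟩ := h.onto hw h1 h2 (mem_cj.mp hl)
  refine ⟨w * r * w⁻¹, conj_mem_cj hr, ?_⟩
  set t := w * r * w⁻¹ with ht
  have htk : t * k * t⁻¹ = s * l₀ * s⁻¹ := by
    rw [he, h.comm k (h.le hk) l (h.cj_le w hl)]
    calc t * k * t⁻¹ = w * ⁅r, w⁻¹ * k * w⁆ * w⁻¹ * k := by
          simp only [ht, commutatorElement_def]; group
      _ = l * k := by rw [hrk]; group
  have hm := h.disj (g := s * w) (k := t) (x := s * l₀ * s⁻¹)
    (fun h1 => hl₀K (by rw [show l₀ = s⁻¹ * (s * l₀ * s⁻¹) * s by group, h1]; simp))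
    (by rw [← cj_cj]; exact conj_mem_cj hl₀) (htk ▸ conj_mem_cj hk)
  intro k' hk'
  refine ⟨_, conj_mem_cj (h.stab hw hm hk'), ?_⟩
  group

end ModuleData

section Action

variable (V : Subgroup G) [V.Normal] [IsMulCommutative ↥V]

open scoped IsMulCommutative in
/-- Conjugation on an abelian normal subgroup. -/
def conjEnd : G →* AddMonoid.End (Additive ↥V) where
  toFun g := MonoidHom.toAdditive (MulAut.conjNormal g : MulAut ↥V).toMonoidHom
  map_one' := AddMonoidHom.ext fun v => by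
    apply Additive.toMul.injective
    apply Subtype.ext
    show (1 : G) * (v.toMul : G) * 1⁻¹ = ((v.toMul : ↥V) : G)
    group
  map_mul' g h := AddMonoidHom.ext fun v => by
    apply Additive.toMul.injective
    apply Subtype.ext
    show g * h * (v.toMul : G) * (g * h)⁻¹ = g * (h * (v.toMul : G) * h⁻¹) * g⁻¹
    group

open scoped IsMulCommutative in
/-- The action of the quotient by the kernel. -/
def conjLift : G ⧸ (conjEnd V).ker →* AddMonoid.End (Additive ↥V) :=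
  QuotientGroup.lift _ (conjEnd V) le_rfl

open scoped IsMulCommutative in
theorem conjLift_injective : Function.Injective (conjLift V) := fun a b h => by
  induction a using QuotientGroup.induction_on with | H x => ?_
  induction b using QuotientGroup.induction_on with | H y => ?_
  rw [QuotientGroup.eq, MonoidHom.mem_ker, map_mul]
  have h' : conjEnd V y = conjEnd V x := h.symm
  rw [h', ← map_mul, inv_mul_cancel, map_one]

variable {V}

/-- The underlying element. -/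
def val (v : Additive ↥V) : G := ((Additive.toMul v : ↥V) : G)

omit [V.Normal] [IsMulCommutative ↥V] in
theorem val_injective : Function.Injective (val (V := V)) := fun _ _ h =>
  Additive.toMul.injective (Subtype.ext h)

open scoped IsMulCommutative in
theorem val_conjEnd (g : G) (v : Additive ↥V) : val (conjEnd V g v) = g * val v * g⁻¹ := rfl

open scoped IsMulCommutative in
theorem val_conjEnd_sub (g : G) (v : Additive ↥V) : val (conjEnd V g v - v) = ⁅g, val v⁆ := by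
  show (((Additive.toMul (conjEnd V g v) / Additive.toMul v : ↥V)) : G) = _
  rw [div_eq_mul_inv, commutatorElement_def]
  rfl

open scoped IsMulCommutative in
theorem val_eq_one {v : Additive ↥V} : v = 0 ↔ val v = 1 := ⟨fun h => h ▸ rfl, fun h => val_injective h⟩

open scoped IsMulCommutative in
/-- The action is that of a spread. -/
theorem ModuleData.spread [Finite G] {q : ℕ} {K S Q M : Subgroup G} (h : ModuleData q V K S Q M)
    {w : G} (hw : w ∉ M) :
    OffenderSL2.Spread (conjLift V)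
      (S.map (QuotientGroup.mk' (conjEnd V).ker)) ((cj w S).map (QuotientGroup.mk' (conjEnd V).ker))
      (K.subgroupOf V).toAddSubgroup ((cj w K).subgroupOf V).toAddSubgroup ∧
    Nat.card ↥(S.map (QuotientGroup.mk' (conjEnd V).ker)) = q ∧
    ∀ s ∈ S, (s ∈ (conjEnd V).ker ↔ s ∈ Q) := by
  obtain ⟨v₀, hv₀, hv₀K⟩ := h.exists_not_mem hw
  set mk := QuotientGroup.mk' (conjEnd V).ker
  set σ := conjLift V
  have hσ : ∀ g v, val (σ (mk g) v) = g * val v * g⁻¹ := val_conjEnd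
  have hsub : ∀ g v, val (σ (mk g) v - v) = ⁅g, val v⁆ := val_conjEnd_sub
  have hker : ∀ s ∈ S, (s ∈ (conjEnd V).ker ↔ s ∈ Q) := fun s hs => by
    constructor
    · intro h1
      refine h.free hs hv₀ hv₀K ?_
      have h2 := val_conjEnd_sub s (Additive.ofMul (⟨v₀, hv₀⟩ : ↥V))
      rw [MonoidHom.mem_ker.mp h1] at h2
      exact h2.symm.trans (congrArg val (sub_self _))
    · intro h1
      rw [MonoidHom.mem_ker]
      refine AddMonoidHom.ext fun v => val_injective ?_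
      show s * val v * s⁻¹ = val v
      have h2 : val v * s = s * val v :=
        commutatorElement_eq_one_iff_mul_comm.mp (h.centQ (val v) v.toMul.2 s h1)
      rw [← h2, mul_inv_cancel_right]
  have hcardA : Nat.card ↥(S.map mk) = q := by
    rw [← relIndex_ker, QuotientGroup.ker_mk', ← inf_relIndex_left S, ← h.relS]
    exact congrArg (fun X : Subgroup G => X.relIndex S)
      (le_antisymm (fun s hs => (hker s hs.1).mp hs.2)
        fun s hs => ⟨h.Q_le hs, (hker s (h.Q_le hs)).mpr hs⟩)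
  have hBA : (cj w S).map mk = (S.map mk).map (MulAut.conj (mk w)).toMonoidHom := by
    simp only [cj, Subgroup.map_map]
    congr 1
  refine ⟨?_, hcardA, hker⟩
  refine
    { gen := ?_
      faith := conjLift_injective V
      inf := ?_, sup := ?_, ne := ?_, neL := ?_
      card := ?_
      fixK := ?_, fixL := ?_, intoK := ?_, intoL := ?_
      ontoK := ?_, ontoL := ?_, freeA := ?_, freeB := ?_
      transfer := ?_ }
  · rw [← Subgroup.map_sup, h.gen w hw,
      Subgroup.map_top_of_surjective _ (QuotientGroup.mk'_surjective _)]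
  · rw [eq_bot_iff]
    rintro v ⟨h1, h2⟩
    exact val_eq_one.mpr (h.eq_one h1 hw h2)
  · rw [eq_top_iff]
    intro v _
    obtain ⟨k, hk, l, hl, he⟩ := h.sum hw v.toMul.2
    rw [show v = Additive.ofMul (⟨k, h.le hk⟩ : ↥V) + Additive.ofMul ⟨l, h.cj_le w hl⟩ from
      val_injective he]
    exact add_mem (AddSubgroup.mem_sup_left hk) (AddSubgroup.mem_sup_right hl)
  · obtain ⟨k, hk, l, hl, he⟩ := h.sum hw hv₀
    intro h0
    have hl1 : w⁻¹ * l * w ∈ K := mem_cj.mp hl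
    have h2 : Additive.ofMul (⟨_, h.le hl1⟩ : ↥V) ∈ (K.subgroupOf V).toAddSubgroup := hl1
    rw [h0, AddSubgroup.mem_bot, val_eq_one] at h2
    refine hv₀K (he ▸ mul_mem hk ?_)
    rw [show l = w * (w⁻¹ * l * w) * w⁻¹ by group, show w⁻¹ * l * w = 1 from h2]
    simp
  · obtain ⟨k, hk, l, hl, he⟩ := h.sum hw hv₀
    intro h0
    have h2 : Additive.ofMul (⟨l, h.cj_le w hl⟩ : ↥V) ∈ ((cj w K).subgroupOf V).toAddSubgroup := hl
    rw [h0, AddSubgroup.mem_bot, val_eq_one] at h2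
    exact hv₀K (he ▸ mul_mem hk ((show l = 1 from h2) ▸ one_mem K))
  · rw [hBA]
    exact Nat.card_congr ((S.map mk).equivMapOfInjective _ (MulAut.conj (mk w)).injective).toEquiv
  · rintro _ ⟨s, hs, rfl⟩ k hk
    refine val_injective ?_
    rw [hσ]
    exact h.conj_eq (a := val k) hs hk
  · rintro _ ⟨_, ⟨s, hs, rfl⟩, rfl⟩ l hl
    refine val_injective ?_
    rw [hσ]
    obtain ⟨k, hk, he⟩ := hl
    rw [show val l = w * k * w⁻¹ from he.symm]
    show w * s * w⁻¹ * (w * k * w⁻¹) * (w * s * w⁻¹)⁻¹ = _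
    rw [show w * s * w⁻¹ * (w * k * w⁻¹) * (w * s * w⁻¹)⁻¹ = w * (s * k * s⁻¹) * w⁻¹ by group,
      h.conj_eq hs hk]
  · rintro _ ⟨s, hs, rfl⟩ l -
    show val (σ (mk s) l - l) ∈ K
    rw [hsub]
    exact h.into' hs l.toMul.2
  · rintro _ ⟨_, ⟨s, hs, rfl⟩, rfl⟩ k -
    show val (σ (mk _) k - k) ∈ cj w K
    rw [hsub, mem_cj]
    have h1 : w⁻¹ * val k * w ∈ V := by
      have := h.normal.conj_mem _ k.toMul.2 w⁻¹
      rwa [inv_inv] at this
    show w⁻¹ * ⁅w * s * w⁻¹, val k⁆ * w ∈ K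
    rw [show w⁻¹ * ⁅w * s * w⁻¹, val k⁆ * w = ⁅s, w⁻¹ * val k * w⁆ by
      simp only [commutatorElement_def]; group]
    exact h.into' hs h1
  · intro l hl hl0 k hk
    obtain ⟨s, hs, hsk⟩ := h.onto hw l.toMul.2 (fun h1 => hl0 (val_eq_one.mpr (h.eq_one h1 hw hl))) hk
    exact ⟨mk s, ⟨s, hs, rfl⟩, val_injective ((hsub s l).trans hsk)⟩
  · intro k hk hk0 l hl
    obtain ⟨h1, h2⟩ := h.back hw hk fun h0 => hk0 (val_eq_one.mpr h0)
    obtain ⟨s, hs, hsk⟩ := h.onto hw h1 h2 (mem_cj.mp hl)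
    refine ⟨mk (w * s * w⁻¹), ⟨_, conj_mem_cj hs, rfl⟩, val_injective ((hsub _ k).trans ?_)⟩
    calc ⁅w * s * w⁻¹, val k⁆ = w * ⁅s, w⁻¹ * val k * w⁆ * w⁻¹ := by
          simp only [commutatorElement_def]; group
      _ = val l := by
          rw [show ⁅s, w⁻¹ * val k * w⁆ = w⁻¹ * val l * w from hsk]; group
  · rintro _ ⟨s, hs, rfl⟩ hne l hl hfixl
    by_contra hl0
    refine hne ((QuotientGroup.eq_one_iff s).mpr ((hker s hs).mpr (h.free hs l.toMul.2
      (fun h1 => hl0 (val_eq_one.mpr (h.eq_one h1 hw hl))) ?_)))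
    exact (hsub s l).symm.trans (congrArg val (sub_eq_zero.mpr hfixl))
  · rintro _ ⟨_, ⟨s, hs, rfl⟩, rfl⟩ hne k hk hfixk
    by_contra hk0
    obtain ⟨h1, h2⟩ := h.back hw hk fun h0 => hk0 (val_eq_one.mpr h0)
    refine hne ((QuotientGroup.eq_one_iff _).mpr ?_)
    refine (MonoidHom.normal_ker (conjEnd V)).conj_mem s ((hker s hs).mpr (h.free hs h1 h2 ?_)) w
    have h3 : ⁅w * s * w⁻¹, val k⁆ = 1 :=
      (hsub (w * s * w⁻¹) k).symm.trans (congrArg val (sub_eq_zero.mpr hfixk))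
    show ⁅s, w⁻¹ * val k * w⁆ = 1
    rw [show ⁅s, w⁻¹ * val k * w⁆ = w⁻¹ * ⁅w * s * w⁻¹, val k⁆ * w by
      simp only [commutatorElement_def]; group, h3]
    group
  · rintro _ ⟨s, hs, rfl⟩ hne
    have hsQ : s ∉ Q := fun h1 => hne ((QuotientGroup.eq_one_iff s).mpr ((hker s hs).mpr h1))
    obtain ⟨t, ht, hk⟩ := h.transfer hw hs hsQ
    refine ⟨mk t, ⟨t, ht, rfl⟩, fun k hk' => ?_⟩
    obtain ⟨l, hl, he⟩ := hk _ hk'
    refine ⟨Additive.ofMul ⟨l, h.cj_le w hl⟩, hl, val_injective ?_⟩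
    rw [hσ, hσ]
    exact he

open scoped IsMulCommutative in
/-- Coordinates. -/
theorem ModuleData.exists_coords [Finite G] {p q : ℕ} [Fact p.Prime] {K S Q M : Subgroup G}
    (h : ModuleData q V K S Q M) (hVp : IsPGroup p V) {w : G} (hw : w ∉ M) (F : Type*) [Field F]
    [Fintype F] (hF : Fintype.card F = q) :
    ∃ (ρ : G →* SL₂ F) (ψ : G → Fin 2 → F), NatSec F V ⊥ ρ ψ ∧ ρ.ker = (conjEnd V).ker := by
  classical
  obtain ⟨hsp, hA, -⟩ := h.spread hw
  obtain ⟨F₀, _, _, hF₀, e, Φ, hΦ⟩ := hsp.exists_sl2 (p := p) fun v => by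
    obtain ⟨k, hk⟩ := hVp v.toMul
    exact ⟨k, Additive.toMul.injective hk⟩
  let θ : F₀ ≃+* F := FiniteField.ringEquivOfCardEq (K := F₀) (K' := F) (by rw [hF₀, hA, hF])
  let mk := QuotientGroup.mk' (conjEnd V).ker
  let ρ : G →* SL₂ F := (Matrix.SpecialLinearGroup.map θ.toRingHom).comp (e.toMonoidHom.comp mk)
  let ψ : G → Fin 2 → F := fun g => if hg : g ∈ V then θ ∘ Φ.symm (Additive.ofMul ⟨g, hg⟩) else 0
  have hψ : ∀ v : Additive ↥V, ψ (val v) = θ ∘ Φ.symm v := fun v => dif_pos v.toMul.2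
  have hadd : ∀ a ∈ V, ∀ b ∈ V, ψ (a * b) = ψ a + ψ b := fun a ha b hb => by
    simp only [ψ, dif_pos ha, dif_pos hb, dif_pos (mul_mem ha hb)]
    rw [show (Additive.ofMul (⟨a * b, mul_mem ha hb⟩ : ↥V)) =
      Additive.ofMul ⟨a, ha⟩ + Additive.ofMul ⟨b, hb⟩ from rfl, map_add]
    funext i
    simp
  refine ⟨ρ, ψ, { le := bot_le, normal := h.normal, surj := ?_, add := hadd, ker := ?_, onto := ?_,
                  act := ?_ }, ?_⟩
  · intro m
    obtain ⟨g, hg⟩ := QuotientGroup.mk'_surjective (conjEnd V).ker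
      (e.symm (Matrix.SpecialLinearGroup.map θ.symm.toRingHom m))
    refine ⟨g, ?_⟩
    show Matrix.SpecialLinearGroup.map θ.toRingHom (e (mk g)) = m
    rw [show mk g = _ from hg, e.apply_symm_apply]
    ext i j
    simp
  · intro a ha
    rw [mem_bot, show a = val (Additive.ofMul (⟨a, ha⟩ : ↥V)) from rfl, hψ, ← val_eq_one,
      ← Φ.symm.map_eq_zero_iff]
    constructor
    · intro h1
      funext i
      exact θ.injective ((congrFun h1 i).trans θ.map_zero.symm)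
    · intro h1
      rw [h1]
      funext i
      simp
  · intro v
    refine ⟨val (Φ (θ.symm ∘ v)), (Φ (θ.symm ∘ v)).toMul.2, ?_⟩
    rw [hψ, AddEquiv.symm_apply_apply]
    funext i
    simp
  · intro g a ha
    obtain ⟨v, hv⟩ := Φ.surjective (Additive.ofMul ⟨a, ha⟩)
    have h1 : val (conjLift V (mk g) (Φ v)) = g * a * g⁻¹ := by
      rw [hv]; exact val_conjEnd g _
    rw [← h1, hψ, hΦ, AddEquiv.symm_apply_apply, show a = val (Φ v) by rw [hv]; rfl, hψ,
      AddEquiv.symm_apply_apply]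
    funext i
    exact RingHom.map_mulVec θ.toRingHom _ v i
  · ext g
    rw [← QuotientGroup.eq_one_iff (N := (conjEnd V).ker) g, MonoidHom.mem_ker]
    constructor
    · intro h1
      refine e.injective (Eq.trans ?_ (map_one e).symm)
      ext i j
      have := congrFun (congrFun (congrArg Subtype.val h1) i) j
      refine θ.injective (this.trans ?_)
      rcases eq_or_ne i j with rfl | hij
      · simp
      · simp [hij]
    · intro h1
      show Matrix.SpecialLinearGroup.map θ.toRingHom (e (g : G ⧸ (conjEnd V).ker)) = 1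
      rw [h1, map_one, map_one]

end Action

/-- A change of basis. -/
theorem NatSec.rebase {A B : Subgroup G} {ρ : G →* SL₂ F} {ψ : G → Fin 2 → F}
    (h : NatSec F A B ρ ψ) (T : Matrix (Fin 2) (Fin 2) F) (hT : IsUnit T.det) :
    ∃ ρ' : G →* SL₂ F, NatSec F A B ρ' (fun g => T⁻¹.mulVec (ψ g)) ∧ ρ'.ker = ρ.ker := by
  have h1 := Matrix.nonsing_inv_mul T hT
  have h2 := Matrix.mul_nonsing_inv T hT
  have hinv : ∀ X : Matrix (Fin 2) (Fin 2) F, T * (T⁻¹ * X * T) * T⁻¹ = X := fun X => by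
    simp only [← Matrix.mul_assoc, h2, Matrix.one_mul]
    rw [Matrix.mul_assoc, h2, Matrix.mul_one]
  let ρ' : G →* SL₂ F :=
    { toFun := fun g => ⟨T⁻¹ * (ρ g).1 * T, by
        rw [Matrix.det_mul, Matrix.det_mul, (ρ g).2, mul_one, ← Matrix.det_mul, h1, Matrix.det_one]⟩
      map_one' := Subtype.ext (by simp [h1])
      map_mul' := fun g k => Subtype.ext (by
        show T⁻¹ * (ρ (g * k)).1 * T = T⁻¹ * (ρ g).1 * T * (T⁻¹ * (ρ k).1 * T)
        rw [map_mul, Matrix.SpecialLinearGroup.coe_mul, Matrix.mul_assoc (T⁻¹ * (ρ g).1) T,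
          ← Matrix.mul_assoc T, ← Matrix.mul_assoc T, h2, Matrix.one_mul]
        simp only [Matrix.mul_assoc]) }
  have hker : ρ'.ker = ρ.ker := by
    ext g
    constructor
    · intro hg
      have h3 : T⁻¹ * (ρ g).1 * T = 1 :=
        congrArg (fun m : Matrix.SpecialLinearGroup (Fin 2) F => m.1) (MonoidHom.mem_ker.mp hg)
      refine MonoidHom.mem_ker.mpr (Subtype.ext ?_)
      rw [← hinv (ρ g).1, h3, Matrix.mul_one, h2]
      rfl
    · intro hg
      refine MonoidHom.mem_ker.mpr (Subtype.ext ?_)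
      show T⁻¹ * (ρ g).1 * T = 1
      rw [MonoidHom.mem_ker.mp hg, Matrix.SpecialLinearGroup.coe_one, Matrix.mul_one, h1]
  refine ⟨ρ', { le := h.le, normal := h.normal, surj := ?_, add := ?_, ker := ?_, onto := ?_,
                act := ?_ }, hker⟩
  · intro m
    obtain ⟨g, hg⟩ := h.surj ⟨T * m.1 * T⁻¹, by
      rw [Matrix.det_mul, Matrix.det_mul, m.2, mul_one, ← Matrix.det_mul, h2, Matrix.det_one]⟩
    refine ⟨g, Subtype.ext ?_⟩
    show T⁻¹ * (ρ g).1 * T = m.1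
    rw [hg]
    show T⁻¹ * (T * m.1 * T⁻¹) * T = m.1
    simp only [← Matrix.mul_assoc, h1, Matrix.one_mul]
    rw [Matrix.mul_assoc, h1, Matrix.mul_one]
  · intro a ha b hb
    show T⁻¹.mulVec _ = _
    rw [h.add a ha b hb, Matrix.mulVec_add]
  · intro a ha
    rw [← h.ker a ha]
    refine ⟨fun h0 => ?_, fun h0 => by show T⁻¹.mulVec (ψ a) = 0; rw [h0, Matrix.mulVec_zero]⟩
    have := congrArg T.mulVec h0
    rwa [Matrix.mulVec_mulVec, h2, Matrix.one_mulVec, Matrix.mulVec_zero] at this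
  · intro v
    obtain ⟨a, ha, hv⟩ := h.onto (T.mulVec v)
    exact ⟨a, ha, by show T⁻¹.mulVec (ψ a) = v; rw [hv, Matrix.mulVec_mulVec, h1, Matrix.one_mulVec]⟩
  · intro g a ha
    show T⁻¹.mulVec (ψ (g * a * g⁻¹)) = (T⁻¹ * (ρ g).1 * T).mulVec (T⁻¹.mulVec (ψ a))
    rw [h.act g a ha, Matrix.mulVec_mulVec, Matrix.mulVec_mulVec, Matrix.mul_assoc _ T T⁻¹, h2,
      Matrix.mul_one]

open scoped IsMulCommutative in
/-- The coordinates can be adapted. -/
theorem ModuleData.exists_natural [Finite G] {p q : ℕ} [Fact p.Prime] {V K S Q M : Subgroup G}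
    (h : ModuleData q V K S Q M) (hVp : IsPGroup p V) {w : G} (hw : w ∉ M) (F : Type*) [Field F]
    [Fintype F] (hF : Fintype.card F = q) :
    ∃ (ρ : G →* SL₂ F) (ψ : G → Fin 2 → F), Natural F S Q M w K V ⊥ ρ ψ := by
  classical
  haveI := h.normal
  haveI : IsMulCommutative ↥V := ⟨⟨fun a b => Subtype.ext (h.comm a a.2 b b.2)⟩⟩
  obtain ⟨hsp, hA, hkerQ⟩ := h.spread hw
  obtain ⟨ρ₁, ψ₁, N₁, hk₁ker⟩ := h.exists_coords hVp hw F hF
  have hinj₁ : ∀ a ∈ V, ∀ b ∈ V, ψ₁ a = ψ₁ b → a = b := fun a ha b hb he =>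
    (inv_mul_eq_one.mp (mem_bot.mp ((N₁.eq_iff ha hb).mp he))).symm
  obtain ⟨v₀, hv₀, hv₀K⟩ := h.exists_not_mem hw
  obtain ⟨k₀, hk₀, l₁, hl₁, he₀⟩ := h.sum hw hv₀
  have hl₁K : l₁ ∉ K := fun h1 => hv₀K (he₀ ▸ mul_mem hk₀ h1)
  have hl₁V := h.cj_le w hl₁
  obtain ⟨s, hs, hsQ⟩ := SetLike.not_le_iff_exists.mp (fun hle : S ≤ Q => by
    have h1 := relIndex_eq_one.mpr hle
    rw [h.relS, ← hF] at h1
    exact Fintype.one_lt_card.ne' h1 : ¬ S ≤ Q)
  obtain ⟨k₁, hk₁, hk₁ne⟩ : ∃ k ∈ K, k ≠ 1 :=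
    ⟨_, h.into' hs hl₁V, fun h1 => hsQ (h.free hs hl₁V hl₁K h1)⟩
  set e₁ := ψ₁ k₁
  set e₂ := ψ₁ l₁
  let T : Matrix (Fin 2) (Fin 2) F := !![e₁ 0, e₂ 0; e₁ 1, e₂ 1]
  have he₁ : e₁ ≠ 0 := fun h1 => hk₁ne (hinj₁ _ (h.le hk₁) _ (one_mem V) (h1.trans N₁.map_one.symm))
  have hT : IsUnit T.det := by
    rw [isUnit_iff_ne_zero]
    intro hdet
    simp only [T, Matrix.det_fin_two_of] at hdet
    obtain ⟨c, hc2⟩ : ∃ c : F, e₂ = c • e₁ := by
      by_cases h0 : e₁ 0 = 0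
      · have h1 : e₁ 1 ≠ 0 := fun h1 => he₁ (by funext i; fin_cases i <;> simp [h0, h1])
        have h2 : e₂ 0 = 0 := by
          simp only [h0, zero_mul, zero_sub, neg_eq_zero, mul_eq_zero] at hdet
          exact hdet.resolve_right h1
        refine ⟨e₂ 1 / e₁ 1, ?_⟩
        funext i
        fin_cases i <;> simp [h0, h1, h2]
      · refine ⟨e₂ 0 / e₁ 0, ?_⟩
        funext i
        fin_cases i
        · simp [h0]
        · simp only [Fin.mk_one, Fin.isValue, Pi.smul_apply, smul_eq_mul]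
          field_simp
          linear_combination hdet
    refine hl₁K (h.fix s hs hsQ l₁ hl₁V (commutatorElement_eq_one_iff_mul_comm.mpr ?_))
    have h1 : ψ₁ (s * l₁ * s⁻¹) = ψ₁ l₁ := by
      rw [N₁.act s l₁ hl₁V, show ψ₁ l₁ = c • ψ₁ k₁ from hc2, Matrix.mulVec_smul,
        ← N₁.act s k₁ (h.le hk₁), h.conj_eq hs hk₁]
    exact (mul_inv_eq_iff_eq_mul.mp (hinj₁ _ (h.normal.conj_mem _ hl₁V s) _ hl₁V h1)).symm
  obtain ⟨ρ, N, hρker⟩ := N₁.rebase T hT
  set ψ := fun g => T⁻¹.mulVec (ψ₁ g)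
  have hinj : ∀ a ∈ V, ∀ b ∈ V, ψ a = ψ b → a = b := fun a ha b hb he =>
    (inv_mul_eq_one.mp (mem_bot.mp ((N.eq_iff ha hb).mp he))).symm
  have hbase : ∀ (u : Fin 2 → F) (a : G), T.mulVec u = ψ₁ a → ψ a = u := fun u a h0 => by
    show T⁻¹.mulVec (ψ₁ a) = u
    rw [← h0, Matrix.mulVec_mulVec, Matrix.nonsing_inv_mul T hT, Matrix.one_mulVec]
  have hψk : ψ k₁ = ![1, 0] := hbase _ _ (by
    show T.mulVec ![1, 0] = e₁
    funext i
    fin_cases i <;> simp [T, Matrix.mulVec, dotProduct, Fin.sum_univ_two])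
  have hψl : ψ l₁ = ![0, 1] := hbase _ _ (by
    show T.mulVec ![0, 1] = e₂
    funext i
    fin_cases i <;> simp [T, Matrix.mulVec, dotProduct, Fin.sum_univ_two])
  have hupper : ∀ s ∈ S, ρ s = upperE ((ρ s).1 0 1) := fun s hs => eq_upperE (by
    rw [← hψk, ← N.act s k₁ (h.le hk₁), h.conj_eq hs hk₁])
  have hlower : ∀ s ∈ cj w S, ρ s = lowerE ((ρ s).1 1 0) := by
    rintro _ ⟨s, hs, rfl⟩
    refine eq_lowerE ?_
    rw [← hψl, ← N.act _ l₁ hl₁V]
    congr 1
    show w * s * w⁻¹ * l₁ * (w * s * w⁻¹)⁻¹ = l₁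
    rw [show w * s * w⁻¹ * l₁ * (w * s * w⁻¹)⁻¹ = w * (s * (w⁻¹ * l₁ * w) * s⁻¹) * w⁻¹ by group,
      h.conj_eq hs (mem_cj.mp hl₁)]
    group
  have hker : ∀ g, ρ g = 1 ↔ g ∈ (conjEnd V).ker := fun g => by
    rw [← MonoidHom.mem_ker, hρker, hk₁ker]
  have honto : ∀ (X : Subgroup G) (i j : Fin 2) (m : F → SL₂ F), (∀ s ∈ X, ρ s = m ((ρ s).1 i j)) →
      Nat.card ↥(X.map (QuotientGroup.mk' (conjEnd V).ker)) = q → ∀ t, ∃ s ∈ X, ρ s = m t := by
    intro X i j m hm hcard t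
    let f : ↥(X.map (QuotientGroup.mk' (conjEnd V).ker)) → F := fun a => (ρ a.2.choose).1 i j
    have hf : Function.Injective f := fun a b hab => Subtype.ext (by
      rw [← a.2.choose_spec.2, ← b.2.choose_spec.2]
      refine (QuotientGroup.eq.mpr ((hker _).mp ?_))
      rw [map_mul, map_inv, hm _ a.2.choose_spec.1, hm _ b.2.choose_spec.1,
        show (ρ a.2.choose).1 i j = (ρ b.2.choose).1 i j from hab, inv_mul_cancel])
    obtain ⟨a, ha⟩ := ((Nat.bijective_iff_injective_and_card f).mpr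
      ⟨hf, by rw [hcard, Nat.card_eq_fintype_card, hF]⟩).2 t
    exact ⟨a.2.choose, a.2.choose_spec.1, by rw [hm _ a.2.choose_spec.1]; exact congrArg _ ha⟩
  have honS := honto S 0 1 upperE hupper hA
  have honB := honto (cj w S) 1 0 lowerE hlower (hsp.card.symm.trans hA)
  have hline : ∀ a ∈ K, ψ a 1 = 0 := fun a ha => by
    obtain ⟨s, hs, hse⟩ := honS 1
    have h1 := N.act s a (h.le ha)
    rw [h.conj_eq hs ha, hse, upperE_val] at h1
    have h2 := congrFun h1 0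
    simp [Matrix.mulVec, dotProduct, Fin.sum_univ_two] at h2
    exact h2
  refine ⟨ρ, ψ, { toNatSec := N, line := fun a ha => ⟨hline a, fun h0 => ?_⟩,
                  upper := fun s hs => ⟨_, hupper s hs⟩, upper_onto := honS,
                  lower := fun s hs => ⟨_, hlower s hs⟩, lower_onto := honB,
                  kerS := fun s hs => (hker s).trans (hkerQ s hs),
                  stab := fun g hg a ha => h.stab hw hg ha, ker_le := fun g hg => ?_ }⟩
  · obtain ⟨k, hk⟩ := ((Nat.bijective_iff_injective_and_card (fun k : ↥K => ψ k 0)).mpr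
      ⟨fun a b hab => Subtype.ext (hinj _ (h.le a.2) _ (h.le b.2) (by
        funext i
        fin_cases i
        · exact hab
        · exact (hline a a.2).trans (hline b b.2).symm)),
        by rw [h.card_K hw, Nat.card_eq_fintype_card, hF]⟩).2 (ψ a 0)
    rw [hinj a ha k (h.le k.2) (by
      funext i
      fin_cases i
      · exact hk.symm
      · exact h0.trans (hline k k.2).symm)]
    exact k.2
  · by_contra hgM
    obtain ⟨s, hs, hse⟩ := honB 1
    have h1 : (⊤ : Subgroup G).map ρ ≤ S.map ρ := by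
      rw [← h.gen g hgM, Subgroup.map_sup]
      refine sup_le le_rfl ?_
      rintro _ ⟨_, ⟨x, hx, rfl⟩, rfl⟩
      refine ⟨x, hx, ?_⟩
      show ρ x = ρ (g * x * g⁻¹)
      rw [map_mul, map_mul, map_inv, MonoidHom.mem_ker.mp hg, one_mul, inv_one, mul_one]
    obtain ⟨x, hx, hxe⟩ := h1 ⟨s, mem_top s, rfl⟩
    rw [hse, hupper x hx] at hxe
    exact lowerE_one_ne_upperE _ hxe.symm

/-- A section on which `S` acts with a large fixed part is natural. -/
theorem exists_natural [Finite G] {p q : ℕ} [Fact p.Prime] {S Q M U H W : Subgroup G}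
    [hUn : U.Normal] [hWn : W.Normal] (hUp : IsPGroup p U) (hWH : W ≤ H) (hHU : H ≤ U)
    (hUW : ¬ U ≤ W) (hQS : Q ≤ S) (hUQ : U ≤ Q) (hWQ : W ≤ Q) (hSq : Q.relIndex S = q)
    (hUQW : ∀ x ∈ U, ∀ a ∈ Q, ⁅x, a⁆ ∈ W) (hUS : ∀ x ∈ U, ∀ s ∈ S, ⁅x, s⁆ ∈ H)
    (hHS : ∀ x ∈ H, ∀ s ∈ S, ⁅x, s⁆ ∈ W)
    (hfix : ∀ u ∈ S, u ∉ Q → ∀ x ∈ U, ⁅x, u⁆ ∈ W → x ∈ H) (hidx : H.relIndex U ≤ q)
    (hcent : ∀ x ∈ U, (∀ g : G, ⁅x, g⁆ ∈ W) → x ∈ W) (hgen : ∀ g, g ∉ M → S ⊔ cj g S = ⊤) (hSM : S ≤ M)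
    {w : G} (hw : w ∉ M) (F : Type*) [Field F] [Fintype F] (hF : Fintype.card F = q) :
    ∃ (ρ : G →* SL₂ F) (ψ : G → Fin 2 → F), Natural F S Q M w H U W ρ ψ := by
  let f := QuotientGroup.mk' W
  have hf : Function.Surjective f := QuotientGroup.mk'_surjective W
  have hker : f.ker = W := QuotientGroup.ker_mk' W
  have hone : ∀ {x : G}, f x = 1 ↔ x ∈ W := fun {x} => QuotientGroup.eq_one_iff x
  have hmem : ∀ {X : Subgroup G}, W ≤ X → ∀ {x : G}, f x ∈ X.map f ↔ x ∈ X := fun {X} hX {x} => by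
    rw [← mem_comap, comap_map_eq, hker, sup_eq_left.mpr hX]
  have hWS : W ≤ S := hWQ.trans hQS
  have hcj : ∀ g X, (cj g X).map f = cj (f g) (X.map f) := fun g X => by
    simp only [cj, Subgroup.map_map]
    congr 1
  have hD : ModuleData q (U.map f) (H.map f) (S.map f) (Q.map f) (M.map f) := by
    refine ⟨hUn.map f hf, ?_, map_mono hHU, ?_, map_mono hQS, ?_, ?_, ?_, ?_, ?_, ?_, ?_, ?_, map_mono hSM⟩
    · rintro _ ⟨x, hx, rfl⟩ _ ⟨y, hy, rfl⟩
      rw [← commutatorElement_eq_one_iff_mul_comm, ← map_commutatorElement, hone]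
      exact hUQW x hx y (hUQ hy)
    · exact fun h => hUW fun x hx => hone.mp (mem_bot.mp (h ▸ mem_map_of_mem f hx))
    · rw [relIndex_map_map, hker, sup_eq_left.mpr hWQ, sup_eq_left.mpr hWS, hSq]
    · rintro _ ⟨x, hx, rfl⟩ _ ⟨a, ha, rfl⟩
      rw [← map_commutatorElement, hone]
      exact hUQW x hx a ha
    · rintro _ ⟨x, hx, rfl⟩ _ ⟨a, ha, rfl⟩
      exact ⟨_, hUS x hx a ha, map_commutatorElement ..⟩
    · rintro _ ⟨x, hx, rfl⟩ _ ⟨a, ha, rfl⟩
      rw [← map_commutatorElement, hone]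
      exact hHS x hx a ha
    · rintro _ ⟨u, hu, rfl⟩ huQ _ ⟨x, hx, rfl⟩ h1
      rw [← map_commutatorElement, hone] at h1
      exact ⟨x, hfix u hu (fun h => huQ ⟨u, h, rfl⟩) x hx h1, rfl⟩
    · rw [relIndex_map_map, hker, sup_eq_left.mpr hWH, sup_eq_left.mpr (hWH.trans hHU)]
      exact hidx
    · rintro _ ⟨x, hx, rfl⟩ h1
      exact hone.mpr (hcent x hx fun g => hone.mp (by rw [map_commutatorElement]; exact h1 (f g)))
    · intro g hg
      obtain ⟨g, rfl⟩ := hf g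
      rw [← hcj, ← Subgroup.map_sup, hgen g fun h => hg ⟨g, h, rfl⟩,
        Subgroup.map_top_of_surjective f hf]
  obtain ⟨ρ, ψ, N⟩ := hD.exists_natural (hUp.map f) (w := f w)
    (fun h => hw ((hmem (hWS.trans hSM)).mp h)) F hF
  refine ⟨ρ.comp f, ψ ∘ f,
    { le := hWH.trans hHU, normal := hUn, surj := N.surj.comp hf
      add := fun a ha b hb => by
        show ψ (f (a * b)) = _
        rw [map_mul]
        exact N.add _ (mem_map_of_mem f ha) _ (mem_map_of_mem f hb)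
      ker := fun a ha => (N.ker _ (mem_map_of_mem f ha)).trans (by rw [mem_bot, hone])
      onto := fun v => by
        obtain ⟨_, ⟨a, ha, rfl⟩, hv⟩ := N.onto v
        exact ⟨a, ha, hv⟩
      act := fun g a ha => by
        show ψ (f (g * a * g⁻¹)) = _
        rw [map_mul, map_mul, map_inv]
        exact N.act _ _ (mem_map_of_mem f ha)
      line := fun a ha => (hmem hWH).symm.trans (N.line _ (mem_map_of_mem f ha))
      upper := fun s hs => N.upper _ (mem_map_of_mem f hs)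
      upper_onto := fun t => by
        obtain ⟨_, ⟨s, hs, rfl⟩, h⟩ := N.upper_onto t
        exact ⟨s, hs, h⟩
      lower := fun s hs => N.lower _ (hcj w S ▸ mem_map_of_mem f hs)
      lower_onto := fun t => by
        obtain ⟨x, hx, h⟩ := N.lower_onto t
        rw [← hcj] at hx
        obtain ⟨s, hs, rfl⟩ := hx
        exact ⟨s, hs, h⟩
      kerS := fun s hs => (N.kerS _ (mem_map_of_mem f hs)).trans (hmem hWQ)
      stab := fun g hg a ha => (hmem hWH).mp (by
        rw [map_mul, map_mul, map_inv]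
        exact N.stab _ (mem_map_of_mem f hg) _ (mem_map_of_mem f ha))
      ker_le := fun g hg => (hmem (hWS.trans hSM)).mp (N.ker_le hg) }⟩

end Cfsg.Agent.PushUp
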