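/-
Pushing up over `PSL₂(q)`, `p ≥ 5`: the split case.

Main results (namespace `Cfsg.Agent.PushUp`):
* `One.exists_qd` : when no normal subgroup survives a moving element, the group is
  `Qd(q) × E` with `E` elementary abelian
-/
import Cfsg.Agent.Lib.PushUp.Assemble
import Cfsg.Agent.Lib.QdOver.Basic
import Cfsg.Agent.Lib.Transfer.AbelianHall
import Cfsg.Agent.Lib.PSL2.Presentation
import Cfsg.Prelude.Def_TwoFusion

set_option autoImplicit false

namespace Cfsg.Agent.PushUp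

open Subgroup
open Quadratic (upperE lowerE upperE_val lowerE_val)
open scoped commutatorElement

variable {G : Type*} [Group G] [Finite G] {p n : ℕ} [Fact p.Prime]
  {F : Type*} [Field F] [Fintype F] {S M : Subgroup G}
  {π : G →* Matrix.ProjectiveSpecialLinearGroup (Fin 2) F} {Z' : Subgroup G}

local notation "SL₂" F:max => Matrix.SpecialLinearGroup (Fin 2) F
local notation "𝐐" => Cfsg.pCore p G
local notation "𝐎" => Cfsg.pResidual p G

omit [Fintype F] in
/-- Two halves of a split commutative group are exchanged. -/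
theorem neg_one_mulVec (v : Fin 2 → F) : (-1 : SL₂ F).1.mulVec v = -v := by
  rw [Matrix.SpecialLinearGroup.coe_neg, Matrix.SpecialLinearGroup.coe_one, Matrix.neg_mulVec,
    Matrix.one_mulVec]

/-- `O_p` is abelian. -/
theorem One.comm_pCore (h1 : One p S Z') (h : Hyp p n G S M F π) {Γ : Type*} [Group Γ] {ι : G →* Γ}
    {k : Γ} (hk : cj k ((𝐐).map ι) = (Z' ⊔ (𝐐 ⊓ centralizer (Z' : Set G))).map ι)
    (hmove : ∀ T : Subgroup G, T ≤ S → T.Normal → k ∈ normalizer (T.map ι : Set Γ) → T = ⊥) :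
    ⁅𝐐, 𝐐⁆ = ⊥ := by
  have L := h.locG
  haveI hQn : (𝐐).Normal := Cores.pCore_normal p G
  set D := 𝐐 ⊓ centralizer (Z' : Set G)
  have key : ∀ A : Subgroup G, A ≤ centralizer (D : Set G) → A ≤ centralizer (A : Set G) →
      ⁅A ⊔ D, A ⊔ D⁆ = ⁅D, D⁆ := by
    intro A hAD hAA
    have hn : normalizer (D : Set G) ≤ normalizer ((⁅D, D⁆ : Subgroup G) : Set G) := fun g hg =>
      mem_normalizer_of_cj_eq (by rw [cj_commutator, cj_eq_self hg])
    have hA : A ≤ normalizer (D : Set G) := hAD.trans (centralizer_le_normalizer _)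
    have hzero : ∀ {X Y : Subgroup G}, X ≤ centralizer (Y : Set G) → ⁅X, Y⁆ ≤ ⁅D, D⁆ := fun {X Y} hXY =>
      commutator_le.mpr fun a ha b hb => by
        rw [commute_of_le_centralizer hXY ha hb]
        exact one_mem _
    refine le_antisymm ?_ (commutator_mono le_sup_right le_sup_right)
    refine comm_sup_le hA le_normalizer hn ?_ ?_
    · rw [commutator_comm]
      exact comm_sup_le hA le_normalizer hn (hzero hAA) (hzero (le_centralizer_iff.mp hAD))
    · rw [commutator_comm]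
      exact comm_sup_le hA le_normalizer hn (hzero hAD) le_rfl
  have hz : zn S ≤ centralizer (D : Set G) := (le_sup_right).trans (h1.sup_le_centralizer h)
  have hz' : Z' ≤ centralizer (D : Set G) := (le_sup_left).trans (h1.sup_le_centralizer h)
  have hQ : 𝐐 = zn S ⊔ D := le_antisymm h1.coverQ (sup_le L.Z_le inf_le_left)
  have e1 : ⁅𝐐, 𝐐⁆ = ⁅D, D⁆ := by
    conv_lhs => rw [hQ]
    exact key _ hz L.Z_comm
  refine hmove _ ((commutator_mono L.Q_le L.Q_le).trans (commutator_le.mpr fun a ha b hb =>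
    mul_mem (mul_mem (mul_mem ha hb) (inv_mem ha)) (inv_mem hb))) inferInstance
    (mem_normalizer_of_cj_eq ?_)
  rw [map_commutator, cj_commutator, hk, ← map_commutator, ← map_commutator, key _ hz' h1.comm, e1]

/-- The split case. -/
theorem One.exists_qd (h1 : One p S Z') (h : Hyp p n G S M F π)
    (hquad : ⁅zn S, S⁆ ≤ S ⊓ centralizer (S : Set G)) {Γ : Type*} [Group Γ] {ι : G →* Γ}
    {N₀ : Subgroup Γ} (hA : Amb S ι N₀) (hp5 : 5 ≤ p) {k : Γ}
    (hk : cj k ((𝐐).map ι) = (Z' ⊔ (𝐐 ⊓ centralizer (Z' : Set G))).map ι)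
    (hmove : ∀ T : Subgroup G, T ≤ S → T.Normal → k ∈ normalizer (T.map ι : Set Γ) → T = ⊥) :
    ∃ G₀ E : Subgroup G, Cfsg.IsInternalDirectProduct G₀ E ⊤ ∧ Cfsg.IsElementaryAbelian p E ∧
      Nonempty (↥G₀ ≃* ↥(Cfsg.qdOver F)) := by
  classical
  have hp : p.Prime := Fact.out
  have L := h.locG
  haveI := NatSL2.charP_of_card h.card
  haveI hQn : (𝐐).Normal := Cores.pCore_normal p G
  haveI hzn : (zn S).Normal := normalClosure_normal
  obtain ⟨w, hw⟩ := h.exists_w
  obtain ⟨ρ, ψ, N, hker, hQO⟩ := h1.main h hquad hw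
  have hab := h1.comm_pCore h hk hmove
  have hQc : ∀ a ∈ 𝐐, ∀ b ∈ 𝐐, a * b = b * a := fun a ha b hb =>
    commutatorElement_eq_one_iff_mul_comm.mp (mem_bot.mp (hab ▸ commutator_mem_commutator ha hb))
  have hpow : ∀ s ∈ S, s ^ p = 1 := fun s hs => by
    have := Monoid.pow_exponent_eq_one (⟨s, hs⟩ : ↥S)
    rw [(h1.exponent_eq h hquad hA).2 (by omega)] at this
    simpa using congrArg Subtype.val this
  have hodd : Odd p := hp.odd_of_ne_two (by omega)
  obtain ⟨m, hm⟩ := hodd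
  have hhalf : ∀ a ∈ 𝐐, (a * a) ^ (m + 1) = a := fun a ha => by
    rw [← pow_two, ← pow_mul, show 2 * (m + 1) = p + 1 by omega, pow_succ, hpow a (L.Q_le ha), one_mul]
  -- an involution over `-1`
  obtain ⟨g₀, hg₀⟩ := N.surj (-1)
  set t := g₀ ^ p
  have hρt : ρ t = -1 := by rw [map_pow, hg₀, Odd.neg_one_pow ⟨m, hm⟩]
  have ht2 : t * t = 1 := by
    rw [← pow_add, ← two_mul, pow_mul]
    refine hpow _ (L.Q_le ?_)
    rw [← hker, MonoidHom.mem_ker, map_pow, hg₀, neg_one_sq]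
  have htinv : t⁻¹ = t := inv_eq_of_mul_eq_one_right ht2
  have htO : t ∈ 𝐎 := by
    refine subset_closure ?_
    show (orderOf t).Coprime p
    have h2 : orderOf t ∣ 2 := orderOf_dvd_of_pow_eq_one (by rw [pow_two]; exact ht2)
    exact Nat.Coprime.coprime_dvd_left h2 ((Nat.coprime_primes Nat.prime_two hp).mpr (by omega))
  have hbmem : ∀ g, t⁻¹ * (g * t * g⁻¹) ∈ 𝐐 := fun g => by
    rw [← hker, MonoidHom.mem_ker, map_mul, map_mul, map_mul, map_inv, map_inv, hρt]
    rw [show ρ g * (-1 : SL₂ F) = (-1 : SL₂ F) * ρ g by rw [mul_neg, neg_mul, mul_one, one_mul],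
      mul_inv_cancel_right, inv_mul_cancel]
  have hswap : ∀ g, ∀ a ∈ 𝐐, t * (g * a * g⁻¹) * t⁻¹ = g * (t * a * t⁻¹) * g⁻¹ := fun g a ha => by
    have hb := hbmem g⁻¹
    rw [inv_inv] at hb
    set b := t⁻¹ * (g⁻¹ * t * g) with hbdef
    have ht' : g⁻¹ * t * g = t * b := by rw [hbdef, mul_inv_cancel_left]
    calc t * (g * a * g⁻¹) * t⁻¹ = g * ((g⁻¹ * t * g) * a * (g⁻¹ * t * g)⁻¹) * g⁻¹ := by group
      _ = g * (t * (b * a) * b⁻¹ * t⁻¹) * g⁻¹ := by rw [ht']; group
      _ = g * (t * a * t⁻¹) * g⁻¹ := by rw [hQc b hb a ha]; group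
  let V₀ : Subgroup G :=
    { carrier := {a | a ∈ 𝐐 ∧ t * a * t⁻¹ = a⁻¹}
      one_mem' := ⟨one_mem _, by group⟩
      mul_mem' := fun {a b} ha hb => ⟨mul_mem ha.1 hb.1, by
        rw [show t * (a * b) * t⁻¹ = t * a * t⁻¹ * (t * b * t⁻¹) by group, ha.2, hb.2, mul_inv_rev,
          hQc _ (inv_mem ha.1) _ (inv_mem hb.1)]⟩
      inv_mem' := fun {a} ha => ⟨inv_mem ha.1, by
        rw [show t * a⁻¹ * t⁻¹ = (t * a * t⁻¹)⁻¹ by group, ha.2]⟩ }
  let E₀ : Subgroup G :=
    { carrier := {a | a ∈ 𝐐 ∧ t * a * t⁻¹ = a}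
      one_mem' := ⟨one_mem _, by group⟩
      mul_mem' := fun {a b} ha hb => ⟨mul_mem ha.1 hb.1, by
        rw [show t * (a * b) * t⁻¹ = t * a * t⁻¹ * (t * b * t⁻¹) by group, ha.2, hb.2]⟩
      inv_mem' := fun {a} ha => ⟨inv_mem ha.1, by
        rw [show t * a⁻¹ * t⁻¹ = (t * a * t⁻¹)⁻¹ by group, ha.2]⟩ }
  haveI hV₀n : V₀.Normal := ⟨fun a ha g => ⟨hQn.conj_mem a ha.1 g, by
    rw [hswap g a ha.1, ha.2]; group⟩⟩
  haveI hE₀n : E₀.Normal := ⟨fun a ha g => ⟨hQn.conj_mem a ha.1 g, by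
    rw [hswap g a ha.1, ha.2]⟩⟩
  have hVQ : V₀ ≤ 𝐐 := fun a ha => ha.1
  have hEQ : E₀ ≤ 𝐐 := fun a ha => ha.1
  have hVE : ∀ a, a ∈ V₀ → a ∈ E₀ → a = 1 := fun a ha ha' => by
    have h2 : a * a = 1 := by
      have := ha.2.symm.trans ha'.2
      exact mul_eq_one_iff_eq_inv.mpr this.symm
    rw [← hhalf a ha.1, h2, one_pow]
  have hsplit : ∀ a ∈ 𝐐, ∃ v ∈ V₀, ∃ e ∈ E₀, a = v * e := fun a ha => by
    set a' := t * a * t⁻¹ with ha'
    have ha'Q : a' ∈ 𝐐 := hQn.conj_mem a ha t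
    have hta' : t * a' * t⁻¹ = a := by
      rw [ha', show t * (t * a * t⁻¹) * t⁻¹ = t * t * a * (t * t)⁻¹ by group, ht2]
      group
    have h2 : a * a'⁻¹ ∈ V₀ := ⟨mul_mem ha (inv_mem ha'Q), by
      rw [show t * (a * a'⁻¹) * t⁻¹ = a' * (t * a' * t⁻¹)⁻¹ by rw [ha']; group, hta']
      group⟩
    have h3 : a * a' ∈ E₀ := ⟨mul_mem ha ha'Q, by
      rw [show t * (a * a') * t⁻¹ = a' * (t * a' * t⁻¹) by rw [ha']; group, hta', hQc a' ha'Q a ha]⟩
    refine ⟨_, pow_mem h2 (m + 1), _, pow_mem h3 (m + 1), ?_⟩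
    have hc : Commute (a * a'⁻¹) (a * a') := hQc _ (hVQ h2) _ (hEQ h3)
    rw [← hc.mul_pow, show a * a'⁻¹ * (a * a') = a * (a'⁻¹ * a) * a' by group,
      hQc _ (inv_mem ha'Q) a ha, show a * (a * a'⁻¹) * a' = a * a by group, hhalf a ha]
  have hVZ : V₀ ≤ zn S := fun a ha => by
    have h2 : ⁅a, t⁆ = a * a := by
      rw [commutatorElement_def, show a * t * a⁻¹ * t⁻¹ = a * (t * a * t⁻¹)⁻¹ by group, ha.2, inv_inv]
    have h3 := hQO (commutator_mem_commutator ha.1 htO)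
    rw [h2] at h3
    rw [← hhalf a ha.1]
    exact pow_mem h3 _
  have h2F : (2 : F) ≠ 0 := fun h0 => by
    have := Nat.le_of_dvd (by norm_num) ((CharP.cast_eq_zero_iff F p 2).mp (by exact_mod_cast h0))
    omega
  have hEZ : ∀ a ∈ E₀, a ∈ zn S → a ∈ zn S ⊓ center G := fun a ha haZ => by
    refine (N.ker a haZ).mp ?_
    have h2 := N.act t a haZ
    rw [ha.2, hρt, neg_one_mulVec] at h2
    funext i
    have h3 := congrFun h2 i
    simp only [Pi.neg_apply, eq_neg_iff_add_eq_zero, ← two_mul, mul_eq_zero] at h3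
    exact h3.resolve_left h2F
  -- `E₀` is central
  set L₁ := centralizer ({t} : Set G)
  have hL₁ : ∀ {g}, g ∈ L₁ ↔ g * t = t * g := mem_centralizer_singleton_iff
  have hEL₁ : E₀ ≤ L₁ := fun a ha => hL₁.mpr (by
    calc a * t = t * a * t⁻¹ * t := by rw [ha.2]
      _ = t * a := by group)
  have hL₁Q : ∀ g ∈ L₁, g ∈ 𝐐 → g ∈ E₀ := fun g hg hgQ => ⟨hgQ, by
    rw [← hL₁.mp hg, mul_inv_cancel_right]⟩
  have hfr : ∀ g, ∃ c ∈ 𝐐, c * g ∈ L₁ := fun g => by
    set b := t⁻¹ * (g * t * g⁻¹) with hbdef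
    have hb : b ∈ 𝐐 := hbmem g
    have htb : g * t * g⁻¹ = t * b := by rw [hbdef, mul_inv_cancel_left]
    have hinv : t * b * t⁻¹ = b⁻¹ := by
      refine eq_inv_of_mul_eq_one_left ?_
      rw [htinv, show t * b * t * b = (t * b) * (t * b) by group, ← htb,
        show g * t * g⁻¹ * (g * t * g⁻¹) = g * (t * t) * g⁻¹ by group, ht2]
      group
    have hbV : b ∈ V₀ := ⟨hb, hinv⟩
    set c := b ^ (m + 1)
    have hcV : c ∈ V₀ := pow_mem hbV _
    have hcc : c * c = b := by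
      rw [← (Commute.refl b).mul_pow, hhalf b hb]
    refine ⟨c, hcV.1, hL₁.mpr ?_⟩
    calc c * g * t = c * (g * t * g⁻¹) * g := by group
      _ = t * (t⁻¹ * c * t) * b * g := by rw [htb]; group
      _ = t * c⁻¹ * b * g := by
          rw [show t⁻¹ * c * t = t * c * t⁻¹ by rw [htinv], hcV.2]
      _ = t * c⁻¹ * (c * c) * g := by rw [hcc]
      _ = t * (c * g) := by group
  have hSS : ∀ a ∈ S, ∀ b ∈ S, a ∈ L₁ → b ∈ L₁ → a * b = b * a := by
    have hT : ⁅S, S⁆ ≤ V₀ := by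
      set T := ⁅zn S, S⁆
      have hTn : S ≤ normalizer (T : Set G) := fun g hg => mem_normalizer_of_cj_eq (by
        rw [cj_commutator, cj_eq_self (by rw [normalizer_eq_top]; trivial : g ∈ normalizer (zn S : Set G)),
          cj_eq_self (le_normalizer hg)])
      have hTV : T ≤ V₀ := commutator_le.mpr fun z hz s hs => by
        obtain ⟨v, hv, e, he, rfl⟩ := hsplit z (L.Z_le hz)
        have heZ : e ∈ zn S := by
          have := mul_mem (inv_mem (hVZ hv)) hz
          rwa [inv_mul_cancel_left] at this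
        rw [commutatorElement_mul_eq, commutatorElement_eq_one_iff_mul_comm.mpr
          (mem_center_iff.mp (hEZ e he heZ).2 s).symm, mul_one, mul_inv_cancel, one_mul]
        exact le_normalizer_iff_commutator_le_left.mp
          (by rw [normalizer_eq_top] : (⊤ : Subgroup G) ≤ normalizer (V₀ : Set G))
          (commutator_mem_commutator hv (mem_top s))
      have hcov : S = Z' ⊔ 𝐐 := le_antisymm h1.cover (sup_le h1.le L.Q_le)
      have hzero : ⁅Z', Z'⁆ ≤ T := commutator_le.mpr fun a ha b hb => by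
        rw [commute_of_le_centralizer h1.comm ha hb]; exact one_mem _
      have hQQ : ⁅𝐐, 𝐐⁆ ≤ T := hab.le.trans bot_le
      have hZ'Q : ⁅Z', 𝐐⁆ ≤ T := by
        rw [commutator_le]
        intro a ha b hb
        obtain ⟨z, hz, d, hd, rfl⟩ := mem_sup_of_normal_left.mp (h1.coverQ hb)
        rw [commutatorElement_right_mul_eq, commutatorElement_eq_one_iff_mul_comm.mpr (hd.2 a ha),
          mul_one, mul_inv_cancel, mul_one, ← commutatorElement_inv]
        exact inv_mem (commutator_mem_commutator hz (h1.le ha))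
      refine le_trans ?_ hTV
      rw [hcov] at hTn ⊢
      refine comm_sup_le (S := Z' ⊔ 𝐐) le_sup_left le_sup_right hTn ?_ ?_
      · rw [commutator_comm]
        exact comm_sup_le le_sup_left le_sup_right hTn hzero (by rw [commutator_comm]; exact hZ'Q)
      · rw [commutator_comm]
        exact comm_sup_le le_sup_left le_sup_right hTn hZ'Q hQQ
    intro a ha b hb haL hbL
    have h2 := hT (commutator_mem_commutator ha hb)
    refine commutatorElement_eq_one_iff_mul_comm.mp (hVE _ h2 (hL₁Q _ ?_ (hVQ h2)))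
    exact mul_mem (mul_mem (mul_mem haL hbL) (inv_mem haL)) (inv_mem hbL)
  have hEcen : E₀ ≤ center G := by
    intro e he
    have hbot : ⁅E₀, 𝐎⁆ ≤ ⊥ := by
      refine L.step (V := E₀ ⊓ (zn S ⊓ center G)) hEQ inf_le_left
        (by rw [normalizer_eq_top]) (by rw [normalizer_eq_top]) (by rw [normalizer_eq_top]) ?_ ?_
      · refine commutator_le.mpr fun a ha o ho => ?_
        have hE : ⁅a, o⁆ ∈ E₀ := le_normalizer_iff_commutator_le_left.mp
          (by rw [normalizer_eq_top] : (⊤ : Subgroup G) ≤ normalizer (E₀ : Set G))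
          (commutator_mem_commutator ha (mem_top o))
        exact mem_inf.mpr ⟨hE, hEZ _ hE (hQO (commutator_mem_commutator (hEQ ha) ho))⟩
      · exact commutator_le.mpr fun a ha o _ => mem_bot.mpr
          (commutatorElement_eq_one_iff_mul_comm.mpr (mem_center_iff.mp ha.2.2 o).symm)
    refine mem_center_iff.mpr fun g => ?_
    have hle : 𝐎 ⊔ S ≤ centralizer ({e} : Set G) := by
      refine sup_le (fun o ho => mem_centralizer_singleton_iff.mpr (commutatorElement_eq_one_iff_mul_comm.mp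
        (mem_bot.mp (hbot (commutator_mem_commutator he ho)))).symm) fun s hs => ?_
      obtain ⟨c, hc, hcs⟩ := hfr s
      rw [show s = c⁻¹ * (c * s) by group]
      refine mul_mem (inv_mem (mem_centralizer_singleton_iff.mpr (hQc c hc e (hEQ he))))
        (mem_centralizer_singleton_iff.mpr ?_)
      exact hSS _ (mul_mem (L.Q_le hc) hs) e (L.Q_le (hEQ he)) hcs (hEL₁ he)
    rw [L.O_sup] at hle
    exact mem_centralizer_singleton_iff.mp (hle (mem_top g))
  -- the complement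
  set L₀ := ⁅L₁, L₁⁆
  have hL₀L₁ : L₀ ≤ L₁ := commutator_le.mpr fun a ha b hb =>
    mul_mem (mul_mem (mul_mem ha hb) (inv_mem ha)) (inv_mem hb)
  have hL₁top : L₁.map ρ = ⊤ := eq_top_iff.mpr fun y _ => by
    obtain ⟨g, rfl⟩ := N.surj y
    obtain ⟨c, hc, hcg⟩ := hfr g
    refine ⟨c * g, hcg, ?_⟩
    rw [map_mul, show ρ c = 1 from MonoidHom.mem_ker.mp (hker ▸ hc), one_mul]
  have hperf : commutator (SL₂ F) = ⊤ :=
    Matrix.SL2.commutator_eq_top (a := (2 : F)) h2F fun h0 => by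
      have h3 : ((3 : ℕ) : F) = 0 := by push_cast; linear_combination h0
      have := Nat.le_of_dvd (by norm_num) ((CharP.cast_eq_zero_iff F p 3).mp h3)
      omega
  have hL₀top : L₀.map ρ = ⊤ := by
    rw [map_commutator, hL₁top, ← commutator_def, hperf]
  have hinter : ∀ g ∈ L₀, g ∈ 𝐐 → g = 1 := by
    intro g hg hgQ
    have hgE := hL₁Q g (hL₀L₁ hg) hgQ
    set r := ρ.comp L₁.subtype
    have hr : Function.Surjective r := fun y => by
      obtain ⟨a, ha, rfl⟩ := (hL₁top.ge (mem_top y) : y ∈ L₁.map ρ)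
      exact ⟨⟨a, ha⟩, rfl⟩
    set H := S.subgroupOf L₁
    have hrH : r.ker ≤ H := fun a ha => L.Q_le (hker ▸ ha)
    have hmap : H.map r = S.map ρ := by
      refine le_antisymm ?_ ?_
      · rintro _ ⟨a, ha, rfl⟩
        exact ⟨a, ha, rfl⟩
      · rintro _ ⟨s, hs, rfl⟩
        obtain ⟨c, hc, hcs⟩ := hfr s
        refine ⟨⟨c * s, hcs⟩, mul_mem (L.Q_le hc) hs, ?_⟩
        show ρ (c * s) = ρ s
        rw [map_mul, show ρ c = 1 from MonoidHom.mem_ker.mp (hker ▸ hc), one_mul]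
    have hq : Nat.card ↥(S.map ρ) = p ^ n := by
      rw [← relIndex_ker, hker]; exact L.relS
    have hidx : H.index = (p ^ n - 1) * (p ^ n + 1) := by
      have h2 := card_mul_index (S.map ρ)
      rw [hq, PSL2.Pres.card_SL_eq, Nat.card_eq_fintype_card (α := F), h.card, mul_assoc] at h2
      rw [← index_map_eq H hr hrH, hmap]
      exact Nat.eq_of_mul_eq_mul_left (pow_pos hp.pos n) h2
    have hHp : IsPGroup p H := L.pS.comap_of_injective L₁.subtype L₁.subtype_injective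
    have hcop : Nat.Coprime (Nat.card H) H.index := by
      obtain ⟨e, he⟩ := IsPGroup.iff_card.mp hHp
      rw [he, hidx]
      refine Nat.Coprime.pow_left e ((Nat.Prime.coprime_iff_not_dvd hp).mpr fun hd => ?_)
      have hpn : p ∣ p ^ n := dvd_pow_self p (by have := h.one_le; omega)
      have hpos : 1 ≤ p ^ n := pow_pos hp.pos n
      rcases hp.dvd_mul.mp hd with h' | h'
      · have h2 := Nat.dvd_sub hpn h'
        rw [Nat.sub_sub_self hpos] at h2
        exact hp.one_lt.not_ge (Nat.le_of_dvd Nat.one_pos h2)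
      · have h2 := Nat.dvd_sub h' hpn
        rw [Nat.add_sub_cancel_left] at h2
        exact hp.one_lt.not_ge (Nat.le_of_dvd Nat.one_pos h2)
    have hHc : IsMulCommutative H := ⟨⟨fun a b =>
      Subtype.ext (Subtype.ext (hSS _ a.2 _ b.2 a.1.2 b.1.2))⟩⟩
    have h2 := Transfer.inf_commutator_inf_center_eq_bot H hHc hcop
    have hgc : (⟨g, hL₀L₁ hg⟩ : ↥L₁) ∈ H ⊓ commutator ↥L₁ ⊓ center ↥L₁ := by
      refine mem_inf.mpr ⟨mem_inf.mpr ⟨L.Q_le hgQ, ?_⟩,
        mem_center_iff.mpr fun a => Subtype.ext (mem_center_iff.mp (hEcen hgE) a)⟩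
      rw [← Subgroup.mem_map_iff_mem L₁.subtype_injective, map_subtype_commutator]
      exact hg
    rw [h2] at hgc
    exact congrArg Subtype.val (mem_bot.mp hgc)
  -- coordinates
  let r₀ := ρ.comp L₀.subtype
  have hr₀ : Function.Bijective r₀ := by
    refine ⟨(injective_iff_map_eq_one r₀).mpr fun a ha => Subtype.ext (hinter a a.2 (hker ▸ ha)), fun y => ?_⟩
    obtain ⟨a, ha, rfl⟩ := (hL₀top.ge (mem_top y) : y ∈ L₀.map ρ)
    exact ⟨⟨a, ha⟩, rfl⟩
  let eL := MulEquiv.ofBijective r₀ hr₀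
  let l : SL₂ F →* G := L₀.subtype.comp eL.symm.toMonoidHom
  have hρl : ∀ y, ρ (l y) = y := fun y => eL.apply_symm_apply y
  have hVinj : ∀ a ∈ V₀, ∀ b ∈ V₀, ψ a = ψ b → a = b := fun a ha b hb he => by
    have h2 : b⁻¹ * a ∈ zn S ⊓ center G := (N.toNatSec.eq_iff (hVZ ha) (hVZ hb)).mp he
    refine (inv_mul_eq_one.mp (hVE _ (mul_mem (inv_mem hb) ha) ⟨mul_mem (inv_mem hb.1) ha.1, ?_⟩)).symm
    rw [mem_center_iff.mp h2.2 t, mul_inv_cancel_right]
  have hVonto : ∀ x, ∃ a ∈ V₀, ψ a = x := fun x => by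
    obtain ⟨a, ha, rfl⟩ := N.onto x
    obtain ⟨v, hv, e, he, rfl⟩ := hsplit a (L.Z_le ha)
    have heZ : e ∈ zn S := by
      have := mul_mem (inv_mem (hVZ hv)) ha
      rwa [inv_mul_cancel_left] at this
    exact ⟨v, hv, by rw [N.add _ (hVZ hv) _ heZ, (N.ker e heZ).mpr (hEZ e he heZ), add_zero]⟩
  choose v hv hψv using hVonto
  have hvadd : ∀ x y, v (x + y) = v x * v y := fun x y => hVinj _ (hv _) _ (mul_mem (hv _) (hv _))
    (by rw [N.add _ (hVZ (hv x)) _ (hVZ (hv y)), hψv, hψv, hψv])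
  have hvconj : ∀ g x, g * v x * g⁻¹ = v ((ρ g).1.mulVec x) := fun g x =>
    hVinj _ (hV₀n.conj_mem _ (hv x) g) _ (hv _) (by rw [N.act g _ (hVZ (hv x)), hψv, hψv])
  let vec : ↥(Cfsg.qdOver F) → Fin 2 → F := fun A => ![QdOver.ent A 0 2, QdOver.ent A 1 2]
  let Θ : ↥(Cfsg.qdOver F) →* G := MonoidHom.mk' (fun A => v (vec A) * l (QdOver.block A)) fun A B => by
    have hvec : vec (A * B) = vec A + (QdOver.block A).1.mulVec (vec B) := by
      obtain ⟨b0, b1, b2⟩ := QdOver.ent_last B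
      funext i
      fin_cases i <;>
        simp [vec, QdOver.ent_mul, b2, QdOver.block_apply, Matrix.mulVec, dotProduct, Fin.sum_univ_two] <;>
        ring
    have h3 := hvconj (l (QdOver.block A)) (vec B)
    rw [hρl] at h3
    rw [hvec, hvadd, ← h3, map_mul, map_mul]
    group
  have hl : ∀ y, l y ∈ L₀ := fun y => (eL.symm y).2
  have hΘ : Function.Injective Θ := (injective_iff_map_eq_one Θ).mpr fun A hA' => by
    have h2 : l (QdOver.block A) = (v (vec A))⁻¹ := eq_inv_of_mul_eq_one_right hA'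
    have h3 : QdOver.block A = 1 := by
      rw [← hρl (QdOver.block A), h2, map_inv, inv_eq_one,
        ← MonoidHom.mem_ker, hker]
      exact (hv _).1
    rw [h3, map_one, eq_comm, inv_eq_one] at h2
    have h4 : vec A = 0 := by
      rw [← hψv (vec A), h2]
      exact N.toNatSec.map_one
    rw [QdOver.decomp A, h3, map_one, mul_one,
      show QdOver.ent A 0 2 = 0 from congrFun h4 0, show QdOver.ent A 1 2 = 0 from congrFun h4 1,
      QdOver.tr_zero]
  have hrange : Θ.range = V₀ ⊔ L₀ := by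
    refine le_antisymm ?_ (sup_le ?_ ?_)
    · rintro _ ⟨A, rfl⟩
      exact mul_mem (mem_sup_left (hv _)) (mem_sup_right (hl _))
    · intro a ha
      refine ⟨QdOver.tr (ψ a 0) (ψ a 1), ?_⟩
      show v (vec _) * l (QdOver.block _) = a
      rw [QdOver.block_tr, map_one, mul_one]
      refine hVinj _ (hv _) _ ha ?_
      rw [hψv]
      funext i
      fin_cases i <;> rfl
    · intro a ha
      refine ⟨QdOver.emb (eL ⟨a, ha⟩), ?_⟩
      show v (vec _) * l (QdOver.block _) = a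
      rw [QdOver.block_emb, show l (eL ⟨a, ha⟩) = a from congrArg Subtype.val (eL.symm_apply_apply _)]
      have h0 : v (vec (QdOver.emb (eL ⟨a, ha⟩))) = 1 := hVinj _ (hv _) _ (one_mem _) (by
        rw [hψv, N.toNatSec.map_one]
        funext i
        fin_cases i <;> rfl)
      rw [h0, one_mul]
  refine ⟨V₀ ⊔ L₀, E₀, ⟨le_top, le_top, fun a _ b hb => mem_center_iff.mp (hEcen hb) a, ?_, ?_⟩,
    ⟨⟨⟨fun a b => Subtype.ext (hQc _ (hEQ a.2) _ (hEQ b.2))⟩⟩, fun a ha => hpow a (L.Q_le ha.1)⟩,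
    ⟨(MulEquiv.subgroupCongr hrange.symm).trans (MonoidHom.ofInjective hΘ).symm⟩⟩
  · rw [eq_bot_iff]
    rintro a ⟨ha, he⟩
    obtain ⟨x, hx, y, hy, rfl⟩ := mem_sup_of_normal_left.mp ha
    have hyQ : y ∈ 𝐐 := by
      have := mul_mem (inv_mem (hVQ hx)) (hEQ he)
      rwa [inv_mul_cancel_left] at this
    rw [hinter y hy hyQ, mul_one] at he ⊢
    exact mem_bot.mpr (hVE x hx he)
  · rw [eq_top_iff]
    intro g _
    obtain ⟨y, hy, hyg⟩ : ∃ y ∈ L₀, ρ y = ρ g := by
      obtain ⟨y, hy, he⟩ := (hL₀top.ge (mem_top (ρ g)) : ρ g ∈ L₀.map ρ)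
      exact ⟨y, hy, he⟩
    have hgy : g * y⁻¹ ∈ 𝐐 := by
      rw [← hker, MonoidHom.mem_ker, map_mul, map_inv, hyg, mul_inv_cancel]
    obtain ⟨x, hx, e, he, hxe⟩ := hsplit _ hgy
    rw [show g = g * y⁻¹ * y by group, hxe]
    exact mul_mem (mul_mem (mem_sup_left (mem_sup_left hx)) (mem_sup_right he))
      (mem_sup_left (mem_sup_right hy))

end Cfsg.Agent.PushUp
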